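import Cfsg.Agent.Forms.SymmFormTwo

/-!
# Involutions of symplectic and orthogonal groups in characteristic two

`t = 1 + n` is an isometric involution iff `n² = 0`, `n` is self-adjoint and
`N (n v) = c B(v, n v)` (`c = 1`, `N` the quadratic form; or `c = 0`, `N = 0` in the symplectic
case). A configuration of `n` consists of pairs `(w, n w)` for the alternating part of
`β(u, v) = B(u, n v)` and vectors `u` with `n y = Σ B(u_i, y) u_i` perpendicular to the pairs.
-/

set_option autoImplicit false
set_option linter.unusedSectionVars false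

namespace Cfsg.Agent.Forms

open Module

variable {F V : Type*} [Field F] [CharP F 2] [AddCommGroup V] [Module F V]

/-- An alternating form with either no norm (`c = 0`) or a quadratic form polarising to it
(`c = 1`). -/
structure IsQuadPair (B : LinearMap.BilinForm F V) (N : V → F) (c : F) : Prop where
  form : IsForm (RingHom.id F) B N
  alt : B.IsAlt
  zero : N 0 = 0
  add : ∀ x y, N (x + y) = N x + N y + c * B x y
  smul : ∀ (a : F) x, N (a • x) = a ^ 2 * N x
  cases : c = 1 ∨ (c = 0 ∧ ∀ x, N x = 0)

/-- `1 + n` is an involutory isometry (or the identity). -/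
structure IsInvolTwo (B : LinearMap.BilinForm F V) (N : V → F) (c : F) (n : V →ₗ[F] V) : Prop where
  sq : ∀ v, n (n v) = 0
  adj : ∀ u v, B (n u) v = B u (n v)
  norm : ∀ v, N (n v) = c * B v (n v)

/-- The form `B(v, n v)` vanishes. -/
def IsAltInvol (B : LinearMap.BilinForm F V) (n : V →ₗ[F] V) : Prop := ∀ v, B v (n v) = 0

variable {B : LinearMap.BilinForm F V} {N : V → F} {c : F} {n : V →ₗ[F] V}

theorem IsQuadPair.symm (hP : IsQuadPair B N c) (x y : V) : B x y = B y x := by
  rw [← LinearMap.IsAlt.neg hP.alt, CharTwo.neg_eq]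

theorem isQuadPair_symp (hA : B.IsAlt) (hI : IsForm (RingHom.id F) B (fun _ => 0)) :
    IsQuadPair B (fun _ => 0) (0 : F) :=
  ⟨hI, hA, rfl, fun _ _ => by simp, fun _ _ => by simp, Or.inr ⟨rfl, fun _ => rfl⟩⟩

theorem isQuadPair_quad (Q : QuadraticForm F V)
    (hQ : (QuadraticMap.polarBilin Q).Nondegenerate) :
    IsQuadPair (QuadraticMap.polarBilin Q) Q (1 : F) :=
  ⟨isForm_quadratic Q hQ, fun x => by
      rw [QuadraticMap.polarBilin_apply_apply, QuadraticMap.polar_self, two_nsmul,
        CharTwo.add_self_eq_zero],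
    map_zero Q, fun x y => by
      rw [QuadraticMap.map_add Q, one_mul, QuadraticMap.polarBilin_apply_apply],
    fun a x => by rw [QuadraticMap.map_smul, smul_eq_mul, sq], Or.inl rfl⟩

theorem IsQuadPair.restrict (hP : IsQuadPair B N c) {X : Submodule F V}
    (hX : ∀ u ∈ X, (∀ v ∈ X, B u v = 0) → u = 0) :
    IsQuadPair (resForm B X) (resNorm N X) c :=
  ⟨hP.form.restrict hX, fun x => hP.alt (x : V), hP.zero, fun x y => hP.add (x : V) y,
    fun a x => hP.smul a (x : V),
    hP.cases.imp id fun h => ⟨h.1, fun x => h.2 (x : V)⟩⟩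

/-- The subgroup of isometries commuting with `n`. -/
def involCent (B : LinearMap.BilinForm F V) (N : V → F) (n : V →ₗ[F] V) :
    Subgroup (isomGroup B N) where
  carrier := {g | ∀ v, (g : V ≃ₗ[F] V) (n v) = n ((g : V ≃ₗ[F] V) v)}
  one_mem' := fun v => rfl
  mul_mem' := fun {a b} ha hb v => by
    change (a : V ≃ₗ[F] V) ((b : V ≃ₗ[F] V) (n v)) = n ((a : V ≃ₗ[F] V) ((b : V ≃ₗ[F] V) v))
    rw [hb, ha]
  inv_mem' := fun {a} ha v => by
    change (a : V ≃ₗ[F] V).symm (n v) = n ((a : V ≃ₗ[F] V).symm v)
    apply (a : V ≃ₗ[F] V).injective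
    rw [LinearEquiv.apply_symm_apply, ha, LinearEquiv.apply_symm_apply]

theorem mem_involCent {g : isomGroup B N} :
    g ∈ involCent B N n ↔ ∀ v, (g : V ≃ₗ[F] V) (n v) = n ((g : V ≃ₗ[F] V) v) := Iff.rfl

/-! ### The form `B(u, n v)` -/

/-- The form `β(u, v) = B(u, n v)` on a subspace. -/
def involForm (B : LinearMap.BilinForm F V) (n : V →ₗ[F] V) (W : Submodule F V) :
    LinearMap.BilinForm F W := LinearMap.BilinForm.restrict (B.compl₂ n) W

@[simp] theorem involForm_apply (W : Submodule F V) (x y : W) :
    involForm B n W x y = B (x : V) (n (y : V)) := rfl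

theorem IsInvolTwo.beta_symm (hP : IsQuadPair B N c) (hn : IsInvolTwo B N c n) (u v : V) :
    B u (n v) = B v (n u) := by rw [← hn.adj, hP.symm]

section Finite

variable [FiniteDimensional F V]

theorem IsInvolTwo.finrank_ker (_hn : IsInvolTwo B N c n) :
    finrank F (LinearMap.range n) + finrank F (LinearMap.ker n) = finrank F V :=
  LinearMap.finrank_range_add_finrank_ker n

theorem IsInvolTwo.two_mul_rank_le (hn : IsInvolTwo B N c n) :
    2 * finrank F (LinearMap.range n) ≤ finrank F V := by
  have h1 : LinearMap.range n ≤ LinearMap.ker n := by rintro _ ⟨v, rfl⟩; exact hn.sq v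
  have h2 := Submodule.finrank_mono h1
  have h3 := hn.finrank_ker
  omega

theorem IsInvolTwo.involForm_props (hP : IsQuadPair B N c) (hn : IsInvolTwo B N c n)
    {W : Submodule F V} (hW : IsCompl W (LinearMap.ker n)) :
    (involForm B n W).IsSymm ∧ (involForm B n W).Nondegenerate ∧
      finrank F W = finrank F (LinearMap.range n) ∧
      ((involForm B n W).IsAlt ↔ IsAltInvol B n) := by
  have hsep : ∀ u : W, (∀ v : W, B (u : V) (n (v : V)) = 0) → u = 0 := by
    intro u hu
    have h1 : (u : V) ∈ LinearMap.ker n := by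
      rw [LinearMap.mem_ker]
      refine hP.form.nondeg _ fun v => ?_
      rw [hn.adj]
      obtain ⟨a, ha, k, hk, rfl⟩ := Submodule.mem_sup.1
        (show v ∈ W ⊔ LinearMap.ker n by rw [hW.sup_eq_top]; trivial)
      rw [map_add, LinearMap.mem_ker.1 hk, add_zero]
      exact hu ⟨a, ha⟩
    exact Subtype.ext (Submodule.disjoint_def.1 hW.disjoint _ u.2 h1)
  refine ⟨⟨fun x y => hn.beta_symm hP x y⟩,
    ⟨fun u hu => hsep u hu, fun u hu => hsep u fun v => by
      rw [hn.beta_symm hP]; exact hu v⟩, ?_, fun h v => ?_, fun h x => h (x : V)⟩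
  · have h1 := Submodule.finrank_add_eq_of_isCompl hW
    have h2 := hn.finrank_ker
    omega
  · obtain ⟨a, ha, k, hk, rfl⟩ := Submodule.mem_sup.1
      (show v ∈ W ⊔ LinearMap.ker n by rw [hW.sup_eq_top]; trivial)
    have h1 : B k (n a) = 0 := by rw [← hn.adj, LinearMap.mem_ker.1 hk]; simp
    have h2 : B a (n a) = 0 := h ⟨a, ha⟩
    simp [LinearMap.mem_ker.1 hk, h1, h2]

/-! ### Counting lifts -/

theorem natCard_ker_of_surjective [Fintype F] {q : ℕ} (hF : Fintype.card F = q) {U : Type*}
    [AddCommGroup U] [Module F U] [FiniteDimensional F U] {j : ℕ} {L : U →ₗ[F] Fin j → F}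
    (hL : Function.Surjective L) : Nat.card (LinearMap.ker L) = q ^ (finrank F U - j) := by
  rw [natCard_eq_pow hF]
  congr 1
  have h1 := LinearMap.finrank_range_add_finrank_ker L
  rw [LinearMap.range_eq_top.2 hL, finrank_top, Module.finrank_fin_fun] at h1
  omega

/-- The data of a lifting problem: `a` lies over a symplectic family for `β`. -/
def IsLiftBase (B : LinearMap.BilinForm F V) (n : V →ₗ[F] V) {ι : Type*} [DecidableEq ι]
    (π : ι → ι) (a : ι → V) : Prop :=
  ∀ x y, B (a x) (n (a (π y))) = if x = y then 1 else 0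

/-- Lifts of the members `σ i` of `a`, mutually orthogonal and of norm zero. -/
def IsLift (B : LinearMap.BilinForm F V) (N : V → F) (n : V →ₗ[F] V) {ι : Type*} (a : ι → V)
    {j : ℕ} (σ : Fin j → ι) (w : Fin j → V) : Prop :=
  (∀ i, n (w i) = n (a (σ i)) ∧ N (w i) = 0) ∧ ∀ i l, B (w i) (w l) = 0

theorem card_lifts [Fintype F] {q : ℕ} (hF : Fintype.card F = q) (hP : IsQuadPair B N c)
    (hn : IsInvolTwo B N c n) {e : ℕ}
    (he : (c = 1 ∧ e = 1) ∨ (c = 0 ∧ (∀ x, N x = 0) ∧ e = 0)) {ι : Type*} [DecidableEq ι]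
    (π : ι → ι) (a : ι → V) (ha : IsLiftBase B n π a) (hd : ∀ x, B (a x) (n (a x)) = 0) :
    ∀ (j : ℕ) (σ : Fin j → ι), Function.Injective σ →
      Nat.card {w : Fin j → V // IsLift B N n a σ w} =
        q ^ ∑ i ∈ Finset.range j, (finrank F (LinearMap.ker n) - i - e) := by
  have : Finite V := Module.finite_of_finite F
  classical
  have := Fintype.ofFinite V
  intro j
  induction j with
  | zero =>
    intro σ _
    have : Unique {w : Fin 0 → V // IsLift B N n a σ w} :=
      { default := ⟨![], fun i => i.elim0, fun i => i.elim0⟩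
        uniq := fun w => Subtype.ext (funext fun i => i.elim0) }
    simp [Nat.card_unique]
  | succ j ih =>
    intro σ hσ
    set σ' : Fin j → ι := σ ∘ Fin.castSucc with hσ'
    have hσ'i : Function.Injective σ' := hσ.comp (Fin.castSucc_injective j)
    let P := {w : Fin j → V // IsLift B N n a σ' w}
    let S := fun w : P => {y : V //
      (n y = n (a (σ (Fin.last j))) ∧ N y = 0) ∧ ∀ i, B (w.1 i) y = 0}
    have heq : {w : Fin (j + 1) → V // IsLift B N n a σ w} ≃ Σ w : P, S w :=
      { toFun := fun w => ⟨⟨Fin.init w.1, fun i => w.2.1 i.castSucc,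
            fun i l => w.2.2 i.castSucc l.castSucc⟩,
          ⟨w.1 (Fin.last j), w.2.1 _, fun i => w.2.2 i.castSucc (Fin.last j)⟩⟩
        invFun := fun p => ⟨Fin.snoc p.1.1 p.2.1, by
          refine ⟨fun i => ?_, fun i l => ?_⟩
          · induction i using Fin.lastCases with
            | last => simpa using p.2.2.1
            | cast i => simpa [hσ'] using p.1.2.1 i
          · induction i using Fin.lastCases with
            | last =>
              induction l using Fin.lastCases with
              | last => simpa using hP.alt p.2.1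
              | cast l => rw [hP.symm]; simpa using p.2.2.2 l
            | cast i =>
              induction l using Fin.lastCases with
              | last => simpa using p.2.2.2 i
              | cast l => simpa using p.1.2.2 i l⟩
        left_inv := fun w => Subtype.ext (Fin.snoc_init_self w.1)
        right_inv := fun p => by
          rcases p with ⟨⟨w, hw⟩, y, hy⟩
          refine Sigma.subtype_ext ?_ ?_
          · exact Subtype.ext (by simp)
          · simp }
    set d := finrank F (LinearMap.ker n) with hd0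
    have hS : ∀ w : P, Nat.card (S w) = q ^ (d - j - e) := by
      intro w
      -- the linear conditions on the kernel
      let L : LinearMap.ker n →ₗ[F] Fin j → F :=
        (LinearMap.pi fun i => B (w.1 i)).comp (LinearMap.ker n).subtype
      have hpair : ∀ i y, B (w.1 i) (n (a (π y))) = if σ' i = y then 1 else 0 := by
        intro i y
        rw [← hn.adj, (w.2.1 i).1, hn.adj]
        exact ha _ _
      have hL : Function.Surjective L := by
        intro r
        refine ⟨⟨n (∑ i, r i • a (π (σ' i))), hn.sq _⟩, funext fun i => ?_⟩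
        simp [L, map_sum, hpair, hσ'i.eq_iff]
      set s := σ (Fin.last j)
      obtain ⟨k0, hk0⟩ := hL fun i => B (w.1 i) (a s)
      set y0 : V := a s + k0 with hy0
      have hy0' : ∀ i, B (w.1 i) y0 = 0 := by
        intro i
        have h1 : B (w.1 i) (k0 : V) = B (w.1 i) (a s) := congrFun hk0 i
        rw [hy0, map_add, h1, CharTwo.add_self_eq_zero]
      -- the affine solution set
      have hfib : {y : V // n y = n (a s) ∧ ∀ i, B (w.1 i) y = 0} ≃ LinearMap.ker L :=
        { toFun := fun y => ⟨⟨(y : V) - y0, by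
              rw [LinearMap.mem_ker, map_sub, y.2.1, hy0, map_add, LinearMap.mem_ker.1 k0.2,
                add_zero, sub_self]⟩,
            funext fun i => by simp [L, y.2.2 i, hy0' i]⟩
          invFun := fun k => ⟨(k : LinearMap.ker n) + y0, by
              rw [map_add, hy0, map_add, LinearMap.mem_ker.1 k0.2, add_zero,
                LinearMap.mem_ker.1 (k : LinearMap.ker n).2, zero_add],
            fun i => by
              have h1 : B (w.1 i) ((k : LinearMap.ker n) : V) = 0 :=
                congrFun (LinearMap.mem_ker.1 k.2) i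
              rw [map_add, h1, hy0', add_zero]⟩
          left_inv := fun y => Subtype.ext (sub_add_cancel (y : V) y0)
          right_inv := fun k => Subtype.ext (Subtype.ext (add_sub_cancel_right _ y0)) }
      have hcard := (Nat.card_congr hfib).trans (natCard_ker_of_surjective hF hL)
      rcases he with ⟨hc, rfl⟩ | ⟨hc, hN, rfl⟩
      · -- translating by multiples of `u` changes the norm linearly
        set u := n (a (π s)) with hu
        have hNu : N u = 0 := by rw [hu, hn.norm, hd, mul_zero]
        have hBu : ∀ i, B (w.1 i) u = 0 := fun i => by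
          rw [hu, hpair, if_neg]
          exact fun h => (Fin.castSucc_lt_last i).ne (hσ h)
        have hNy : ∀ y, n y = n (a s) → ∀ r : F, N (y + r • u) = N y + r := by
          intro y hy r
          have h1 : B y u = 1 := by
            rw [hu, ← hn.adj, hy, hn.adj, ha, if_pos rfl]
          rw [hP.add, hP.smul, hNu, hc, map_smul, h1]
          simp
        have hny : ∀ y (r : F), n (y + r • u) = n y := fun y r => by
          simp [hu, hn.sq]
        have hsplit : S w × F ≃ {y : V // n y = n (a s) ∧ ∀ i, B (w.1 i) y = 0} :=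
          { toFun := fun p => ⟨(p.1 : V) + p.2 • u, by rw [hny]; exact p.1.2.1.1,
              fun i => by simp [p.1.2.2 i, hBu i]⟩
            invFun := fun y => (⟨(y : V) + (N y) • u,
              ⟨by rw [hny]; exact y.2.1, by rw [hNy _ y.2.1, CharTwo.add_self_eq_zero]⟩,
              fun i => by simp [y.2.2 i, hBu i]⟩, N y)
            left_inv := fun p => by
              have h1 : N ((p.1 : V) + p.2 • u) = p.2 := by
                rw [hNy _ p.1.2.1.1, p.1.2.1.2, zero_add]
              refine Prod.ext (Subtype.ext ?_) h1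
              change (p.1 : V) + p.2 • u + N ((p.1 : V) + p.2 • u) • u = p.1
              rw [h1, add_assoc, ← add_smul, CharTwo.add_self_eq_zero, zero_smul, add_zero]
            right_inv := fun y => Subtype.ext (by
              change (y : V) + N y • u + N y • u = y
              rw [add_assoc, ← add_smul, CharTwo.add_self_eq_zero, zero_smul, add_zero]) }
        have h1 := Nat.card_congr hsplit
        rw [Nat.card_prod, hcard, Nat.card_eq_fintype_card (α := F), hF] at h1
        have h2 : 1 ≤ d - j := by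
          by_contra hcon
          rw [show d - j = 0 by omega, pow_zero] at h1
          have hq : 2 ≤ q := hF ▸ Fintype.one_lt_card
          have := Nat.eq_one_of_mul_eq_one_left h1
          omega
        rw [show d - j = d - j - 1 + 1 by omega, pow_succ] at h1
        exact mul_right_cancel₀ (by have := Fintype.card_pos (α := F); omega) h1
      · rw [Nat.sub_zero, ← hcard]
        exact Nat.card_congr (Equiv.subtypeEquivRight fun y => by simp [hN, s])
    rw [Nat.card_congr heq, Nat.card_sigma, Finset.sum_congr rfl fun w _ => hS w,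
      Finset.sum_const, Finset.card_univ, ← Nat.card_eq_fintype_card, smul_eq_mul, ih σ' hσ'i,
      Finset.sum_range_succ, pow_add]

/-! ### Configurations -/

/-- Index type of a configuration: pairs `w`, their images, and the vectors `u`. -/
abbrev CfgIdx (k r : ℕ) : Type := ((Fin k ⊕ Fin k) ⊕ (Fin k ⊕ Fin k)) ⊕ Fin r

/-- The relations of a configuration. -/
structure IsCfg (B : LinearMap.BilinForm F V) (N : V → F) (c : F) {k r : ℕ}
    (f : CfgIdx k r → V) : Prop where
  ww : ∀ x y, B (f (Sum.inl (Sum.inl x))) (f (Sum.inl (Sum.inl y))) = 0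
  wm : ∀ x y, B (f (Sum.inl (Sum.inl x))) (f (Sum.inl (Sum.inr (pairSwap y)))) =
    if x = y then 1 else 0
  mm : ∀ x y, B (f (Sum.inl (Sum.inr x))) (f (Sum.inl (Sum.inr y))) = 0
  ou : ∀ x i, B (f (Sum.inl x)) (f (Sum.inr i)) = 0
  uu : ∀ i j, B (f (Sum.inr i)) (f (Sum.inr j)) = 0
  normP : ∀ x, N (f (Sum.inl x)) = 0
  normU : ∀ i, N (f (Sum.inr i)) = c
  li : LinearIndependent F f

/-- A configuration describing `n`. -/
structure IsAdapted (B : LinearMap.BilinForm F V) (N : V → F) (c : F) (n : V →ₗ[F] V) {k r : ℕ}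
    (f : CfgIdx k r → V) : Prop extends IsCfg B N c f where
  map_w : ∀ x, n (f (Sum.inl (Sum.inl x))) = f (Sum.inl (Sum.inr x))
  map_perp : ∀ y, (∀ x, B (f (Sum.inl x)) y = 0) →
    n y = ∑ i, B (f (Sum.inr i)) y • f (Sum.inr i)

theorem pairSwap_pairSwap {k : ℕ} (x : Fin k ⊕ Fin k) : pairSwap (pairSwap x) = x :=
  Sum.swap_swap x

theorem IsCfg.sameGram (hP : IsQuadPair B N c) {k r : ℕ} {f f' : CfgIdx k r → V}
    (hf : IsCfg B N c f) (hf' : IsCfg B N c f') : SameGram B N f f' := by
  refine ⟨?_, ?_⟩
  · have hwm : ∀ x y, B (f' (Sum.inl (Sum.inl x))) (f' (Sum.inl (Sum.inr y))) =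
        B (f (Sum.inl (Sum.inl x))) (f (Sum.inl (Sum.inr y))) := by
      intro x y
      rw [← pairSwap_pairSwap y, hf'.wm, hf.wm]
    rintro ((x | x) | i) ((y | y) | j)
    · rw [hf'.ww, hf.ww]
    · exact hwm x y
    · rw [hf'.ou, hf.ou]
    · rw [hP.symm (f' _), hP.symm (f _)]; exact hwm y x
    · rw [hf'.mm, hf.mm]
    · rw [hf'.ou, hf.ou]
    · rw [hP.symm (f' _), hP.symm (f _), hf'.ou, hf.ou]
    · rw [hP.symm (f' _), hP.symm (f _), hf'.ou, hf.ou]
    · rw [hf'.uu, hf.uu]
  · rintro (x | i)
    · rw [hf'.normP, hf.normP]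
    · rw [hf'.normU, hf.normU]

theorem IsCfg.pairs_nondeg (hP : IsQuadPair B N c) {k r : ℕ} {f : CfgIdx k r → V}
    (hf : IsCfg B N c f) :
    ∀ u ∈ Submodule.span F (Set.range fun x => f (Sum.inl x)),
      (∀ v ∈ Submodule.span F (Set.range fun x => f (Sum.inl x)), B u v = 0) → u = 0 := by
  intro u hu hu'
  obtain ⟨r', rfl⟩ := (Submodule.mem_span_range_iff_exists_fun F).1 hu
  refine Finset.sum_eq_zero fun x _ => ?_
  have : r' x = 0 := by
    rcases x with x | x
    · have h1 := hu' _ (Submodule.subset_span ⟨Sum.inr (pairSwap x), rfl⟩)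
      simp [Fintype.sum_sum_type (α₁ := Fin k ⊕ Fin k), map_sum, hf.wm, hf.mm] at h1
      rcases x with x | x <;> simpa using h1
    · have h1 := hu' _ (Submodule.subset_span ⟨Sum.inl (pairSwap x), rfl⟩)
      have h2 : ∀ y, B (f (Sum.inl (Sum.inr y))) (f (Sum.inl (Sum.inl (pairSwap x)))) =
          if y = x then 1 else 0 := by
        intro y
        rw [hP.symm, ← pairSwap_pairSwap y, hf.wm]
        simp only [pairSwap_pairSwap]
        congr 1
        exact propext ⟨fun h => by simpa [pairSwap_pairSwap] using (congrArg pairSwap h).symm,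
          fun h => by rw [h]⟩
      simp [Fintype.sum_sum_type (α₁ := Fin k ⊕ Fin k), map_sum, h2, hf.ww] at h1
      rcases x with x | x <;> simpa using h1
  rw [this, zero_smul]

/-- An isometry carrying a configuration of `n` to one of `n'` conjugates `n` to `n'`. -/
theorem IsAdapted.intertwine (hP : IsQuadPair B N c) {n' : V →ₗ[F] V} (hn : IsInvolTwo B N c n)
    (hn' : IsInvolTwo B N c n') {k r : ℕ} {f f' : CfgIdx k r → V} (hf : IsAdapted B N c n f)
    (hf' : IsAdapted B N c n' f') (g : isomGroup B N) (hg : ∀ x, (g : V ≃ₗ[F] V) (f x) = f' x)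
    (v : V) : (g : V ≃ₗ[F] V) (n v) = n' ((g : V ≃ₗ[F] V) v) := by
  obtain ⟨a, ha, y, hy, rfl⟩ := Submodule.mem_sup.1
    (show v ∈ Submodule.span F (Set.range fun x => f (Sum.inl x)) ⊔
        perp B (Submodule.span F (Set.range fun x => f (Sum.inl x))) by
      rw [(hP.form.isCompl_perp (hf.toIsCfg.pairs_nondeg hP)).sup_eq_top]; trivial)
  simp only [map_add]
  congr 1
  · induction ha using Submodule.span_induction with
    | mem x hx =>
      obtain ⟨(x | x), rfl⟩ := hx
      · rw [hf.map_w, hg, hg, hf'.map_w]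
      · change (g : V ≃ₗ[F] V) (n (f (Sum.inl (Sum.inr x)))) =
          n' ((g : V ≃ₗ[F] V) (f (Sum.inl (Sum.inr x))))
        rw [hg, ← hf.map_w, hn.sq, ← hf'.map_w, hn'.sq, map_zero]
    | zero => simp
    | add x y _ _ hx hy => simp [hx, hy]
    | smul r x _ hx => simp [hx]
  · have hy1 : ∀ x, B (f (Sum.inl x)) y = 0 := fun x => hy _ (Submodule.subset_span ⟨x, rfl⟩)
    rw [hf.map_perp y hy1, hf'.map_perp _ fun x => by rw [← hg, isom_B]; exact hy1 x]
    rw [map_sum]
    refine Finset.sum_congr rfl fun i _ => ?_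
    rw [map_smul, hg, ← hg (Sum.inr i), isom_B]

theorem exists_isom_adapted (hP : IsQuadPair B N c) {n' : V →ₗ[F] V} (hn : IsInvolTwo B N c n)
    (hn' : IsInvolTwo B N c n') {k r : ℕ} {f f' : CfgIdx k r → V} (hf : IsAdapted B N c n f)
    (hf' : IsAdapted B N c n' f') :
    ∃ g : isomGroup B N, (∀ x, (g : V ≃ₗ[F] V) (f x) = f' x) ∧
      ∀ v, (g : V ≃ₗ[F] V) (n v) = n' ((g : V ≃ₗ[F] V) v) := by
  obtain ⟨g, hg⟩ := hP.form.exists_isom_of_sameGram hf.li hf'.li
    (hf.toIsCfg.sameGram hP hf'.toIsCfg)
  exact ⟨g, hg, hf.intertwine hP hn hn' hf' g hg⟩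

theorem IsAdapted.map (hP : IsQuadPair B N c) {k r : ℕ} {f : CfgIdx k r → V}
    (hf : IsAdapted B N c n f) {g : isomGroup B N} (hg : g ∈ involCent B N n) :
    IsAdapted B N c n fun x => (g : V ≃ₗ[F] V) (f x) where
  ww x y := by rw [isom_B]; exact hf.ww x y
  wm x y := by rw [isom_B]; exact hf.wm x y
  mm x y := by rw [isom_B]; exact hf.mm x y
  ou x i := by rw [isom_B]; exact hf.ou x i
  uu i j := by rw [isom_B]; exact hf.uu i j
  normP x := (g.2.2 _).trans (hf.normP x)
  normU i := (g.2.2 _).trans (hf.normU i)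
  li := hf.li.map' ((g : V ≃ₗ[F] V) : V →ₗ[F] V) (LinearEquiv.ker _)
  map_w x := by rw [← hg, hf.map_w]
  map_perp y hy := by
    obtain ⟨z, rfl⟩ := (g : V ≃ₗ[F] V).surjective y
    rw [← hg, hf.map_perp z fun x => by have := hy x; rwa [isom_B] at this]
    simp [map_sum]

/-- The adapted configurations are an orbit of the centraliser. -/
theorem card_involCent_eq [Finite F] (hP : IsQuadPair B N c) (hn : IsInvolTwo B N c n) {k r : ℕ}
    {f : CfgIdx k r → V} (hf : IsAdapted B N c n f) :
    Nat.card (involCent B N n) = Nat.card {f' : CfgIdx k r → V // IsAdapted B N c n f'} *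
      Nat.card (MulAction.stabilizer (isomGroup B N) f) := by
  have : Finite V := Module.finite_of_finite F
  rw [← Subgroup.index_mul_card (MulAction.stabilizer (involCent B N n) f),
    MulAction.index_stabilizer]
  congr 1
  · rw [← Nat.card_coe_set_eq]
    refine Nat.card_congr (Equiv.setCongr ?_)
    ext f'
    constructor
    · rintro ⟨g, rfl⟩
      exact hf.map hP g.2
    · intro hf'
      obtain ⟨g, hg, hg'⟩ := exists_isom_adapted hP hn hn hf hf'
      exact ⟨⟨g, hg'⟩, funext hg⟩
  · refine Nat.card_congr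
      { toFun := fun g => ⟨(g : involCent B N n), g.2⟩
        invFun := fun g => ⟨⟨g.1, hf.intertwine hP hn hn hf g.1 fun x => congrFun g.2 x⟩, g.2⟩
        left_inv := fun g => rfl
        right_inv := fun g => rfl }

end Finite

end Cfsg.Agent.Forms
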