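import Cfsg.Agent.Forms.InvolTwoSymp
import Mathlib.GroupTheory.OrderOfElement
import Mathlib.Algebra.Group.Conj

/-!
# Classes of involutions in characteristic two
-/

set_option autoImplicit false
set_option linter.unusedSectionVars false

namespace Cfsg.Agent.Forms

open Module

variable {F V : Type*} [Field F] [CharP F 2] [AddCommGroup V] [Module F V] [FiniteDimensional F V]
  {B : LinearMap.BilinForm F V} {N : V → F} {c : F}

/-- `g - 1` as a linear map. -/
def isomNil (g : isomGroup B N) : V →ₗ[F] V :=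
  ((g : V ≃ₗ[F] V) : V →ₗ[F] V) - LinearMap.id

theorem isomNil_apply (g : isomGroup B N) (v : V) : isomNil g v = (g : V ≃ₗ[F] V) v - v := rfl

theorem add_self_eq_zero_vec (F : Type*) [Field F] [CharP F 2] {V : Type*} [AddCommGroup V]
    [Module F V] (x : V) : x + x = 0 := by
  rw [← two_smul F x, two_eq_zero_of_charTwo, zero_smul]

theorem isomNil_isInvol (hP : IsQuadPair B N c) {g : isomGroup B N} (hg : g ^ 2 = 1) :
    IsInvolTwo B N c (isomNil g) := by
  refine nil_isInvol hP g fun v => ?_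
  have h1 := congrArg (fun s : isomGroup B N => (s : V ≃ₗ[F] V) v) hg
  simp only [sq] at h1
  exact h1

theorem isomNil_injective : Function.Injective (isomNil (B := B) (N := N)) := by
  intro g h e
  refine Subtype.ext (LinearEquiv.ext fun v => ?_)
  exact sub_left_injective (b := v) (LinearMap.congr_fun e v)

theorem isomNil_one : isomNil (1 : isomGroup B N) = 0 := LinearMap.ext fun v => sub_self v

theorem isomNil_rank_pos {g : isomGroup B N} (hg : g ≠ 1) :
    0 < finrank F (LinearMap.range (isomNil g)) := by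
  refine Nat.pos_of_ne_zero fun h => hg (isomNil_injective ?_)
  rw [isomNil_one]
  exact LinearMap.range_eq_bot.1 (Submodule.finrank_eq_zero.1 h)

theorem rank_eq_of_intertwine {n n' : V →ₗ[F] V} (e : V ≃ₗ[F] V) (h : ∀ v, e (n v) = n' (e v)) :
    finrank F (LinearMap.range n) = finrank F (LinearMap.range n') := by
  have h1 : (LinearMap.range n).map (e : V →ₗ[F] V) = LinearMap.range n' := by
    ext x
    constructor
    · rintro ⟨_, ⟨v, rfl⟩, rfl⟩
      exact ⟨e v, (h v).symm⟩
    · rintro ⟨v, rfl⟩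
      exact ⟨n (e.symm v), ⟨_, rfl⟩, by simp [h]⟩
  rw [← h1, e.finrank_map_eq]

theorem alt_iff_of_intertwine {n n' : V →ₗ[F] V} (g : isomGroup B N)
    (h : ∀ v, (g : V ≃ₗ[F] V) (n v) = n' ((g : V ≃ₗ[F] V) v)) :
    IsAltInvol B n ↔ IsAltInvol B n' := by
  refine ⟨fun ha v => ?_, fun ha v => ?_⟩
  · obtain ⟨w, rfl⟩ := (g : V ≃ₗ[F] V).surjective v
    rw [← h, isom_B]; exact ha w
  · rw [← isom_B g, h]; exact ha _

theorem intertwine_of_conj {g g' k : isomGroup B N} (h : k * g = g' * k) (v : V) :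
    (k : V ≃ₗ[F] V) (isomNil g v) = isomNil g' ((k : V ≃ₗ[F] V) v) := by
  have h1 := congrArg (fun s : isomGroup B N => (s : V ≃ₗ[F] V) v) h
  simp only [isomNil_apply, map_sub]
  exact congrArg (· - _) h1

theorem isConj_invariants {g g' : isomGroup B N} (h : IsConj g g') :
    finrank F (LinearMap.range (isomNil g)) = finrank F (LinearMap.range (isomNil g')) ∧
      (IsAltInvol B (isomNil g) ↔ IsAltInvol B (isomNil g')) := by
  obtain ⟨k, hk⟩ := isConj_iff.1 h
  have h1 : k * g = g' * k := by rw [← hk]; group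
  exact ⟨rank_eq_of_intertwine (k : V ≃ₗ[F] V) (intertwine_of_conj h1),
    alt_iff_of_intertwine k (intertwine_of_conj h1)⟩

theorem isConj_of_invariants [Finite F] (hP : IsQuadPair B N c) {g g' : isomGroup B N}
    (hg : g ^ 2 = 1) (hg' : g' ^ 2 = 1)
    (hr : finrank F (LinearMap.range (isomNil g)) = finrank F (LinearMap.range (isomNil g')))
    (ha : IsAltInvol B (isomNil g) ↔ IsAltInvol B (isomNil g')) : IsConj g g' := by
  obtain ⟨k, hk⟩ := exists_conj hP (isomNil_isInvol hP hg) (isomNil_isInvol hP hg') hr ha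
  refine isConj_iff.2 ⟨k, mul_inv_eq_iff_eq_mul.2 (Subtype.ext (LinearEquiv.ext fun v => ?_))⟩
  have h1 := hk v
  rw [isomNil_apply, isomNil_apply, map_sub] at h1
  exact sub_left_injective h1

/-- An involution from its nilpotent part. -/
theorem exists_isom_of_nil (hP : IsQuadPair B N c) {n : V →ₗ[F] V} (hn : IsInvolTwo B N c n) :
    ∃ g : isomGroup B N, g ^ 2 = 1 ∧ isomNil g = n := by
  have hinv : Function.Involutive (n + LinearMap.id : V →ₗ[F] V) := fun v => by
    simp only [LinearMap.add_apply, LinearMap.id_apply, map_add, hn.sq, zero_add]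
    rw [← add_assoc, add_self_eq_zero_vec F, zero_add]
  refine ⟨⟨LinearEquiv.ofInvolutive (n + LinearMap.id) hinv, fun u v => ?_, fun v => ?_⟩, ?_, ?_⟩
  · change B (n u + u) (n v + v) = B u v
    have h1 : B (n u) v + B u (n v) = 0 := by rw [hn.adj, CharTwo.add_self_eq_zero]
    have h2 : B (n u) (n v) = 0 := by rw [hn.adj, hn.sq, map_zero]
    simp only [map_add, LinearMap.add_apply, h2, zero_add]
    linear_combination h1
  · change N (n v + v) = N v
    rw [hP.add, hn.norm, hP.symm (n v)]
    linear_combination (c * B v (n v)) * two_eq_zero_of_charTwo (F := F)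
  · rw [sq]; exact Subtype.ext (LinearEquiv.ext hinv)
  · refine LinearMap.ext fun v => ?_
    change n v + v - v = n v
    rw [add_sub_cancel_right]

/-- `v ↦ Σ B(u_i, v) u_{π i}`. -/
def famNil (B : LinearMap.BilinForm F V) {ι : Type*} [Fintype ι] (u : ι → V) (π : ι → ι) :
    V →ₗ[F] V :=
  ∑ i, (B (u i)).smulRight (u (π i))

theorem famNil_apply {ι : Type*} [Fintype ι] (u : ι → V) (π : ι → ι) (v : V) :
    famNil B u π v = ∑ i, B (u i) v • u (π i) := by
  simp [famNil]

theorem norm_sum_orth (hP : IsQuadPair B N c) {ι : Type*} (u : ι → V)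
    (hu : ∀ i j, B (u i) (u j) = 0) (s : Finset ι) (a : ι → F) :
    N (∑ i ∈ s, a i • u i) = ∑ i ∈ s, a i ^ 2 * N (u i) := by
  classical
  induction s using Finset.induction_on with
  | empty => simpa using hP.zero
  | insert i s hi ih =>
    rw [Finset.sum_insert hi, Finset.sum_insert hi, hP.add, hP.smul, ih]
    simp [map_sum, hu]

/-- The involutions attached to mutually orthogonal independent families. -/
theorem famNil_props (hP : IsQuadPair B N c) {ι : Type*} [Fintype ι] [Nonempty ι] {u : ι → V}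
    {π : ι → ι} (hli : LinearIndependent F u) (hu : ∀ i j, B (u i) (u j) = 0)
    (hπ : Function.Involutive π)
    (hN : (π = id ∧ ∀ i, N (u i) = c) ∨ ((∀ i, π i ≠ i) ∧ ∀ i, N (u i) = 0)) :
    IsInvolTwo B N c (famNil B u π) ∧ finrank F (LinearMap.range (famNil B u π)) = Fintype.card ι ∧
      (IsAltInvol B (famNil B u π) ↔ π ≠ id) := by
  classical
  have hre : ∀ (f : ι → V), ∑ i, f (π i) = ∑ i, f i := fun f =>
    Equiv.sum_comp hπ.toPerm f
  have hBn : ∀ x y, B x (famNil B u π y) = ∑ i, B (u i) y * B (u (π i)) x := fun x y => by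
    rw [famNil_apply, map_sum]
    refine Finset.sum_congr rfl fun i _ => ?_
    rw [map_smul, smul_eq_mul, hP.symm x]
  have hpick : ∀ i, ∃ v, ∀ j, B (u j) v = if j = i then 1 else 0 := by
    intro i
    obtain ⟨v, hv, hv1⟩ := hP.form.exists_perp_pairing
      (hli.notMem_span_image (s := {x | x ≠ i}) (x := i) (by simp)) 1
    refine ⟨v, fun j => ?_⟩
    split_ifs with h
    · rw [h, hv1]
    · exact hv _ (Submodule.subset_span ⟨j, h, rfl⟩)
  choose p hp using hpick
  have hrange : LinearMap.range (famNil B u π) = Submodule.span F (Set.range u) := by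
    refine le_antisymm ?_ (Submodule.span_le.2 ?_)
    · rintro _ ⟨v, rfl⟩
      rw [famNil_apply]
      exact Submodule.sum_mem _ fun i _ => Submodule.smul_mem _ _ (Submodule.subset_span ⟨_, rfl⟩)
    · rintro _ ⟨i, rfl⟩
      exact ⟨p (π i), by simp [famNil_apply, hp, hπ i]⟩
  have haltfree : (∀ i, π i ≠ i) → ∀ v, ∑ i, B (u i) v * B (u (π i)) v = 0 := fun h v =>
    Finset.sum_involution (fun i _ => π i)
      (fun i _ => by rw [hπ i, mul_comm, CharTwo.add_self_eq_zero]) (fun i _ _ => h i)
      (fun i _ => Finset.mem_univ _) fun i _ => hπ i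
  refine ⟨⟨fun v => ?_, fun x y => ?_, fun v => ?_⟩, ?_, ⟨fun h he => ?_, fun h => ?_⟩⟩
  · rw [famNil_apply]
    refine Finset.sum_eq_zero fun j _ => ?_
    rw [famNil_apply, map_sum, Finset.sum_eq_zero fun i _ => by rw [map_smul, hu, smul_zero],
      zero_smul]
  · rw [hBn, hP.symm, hBn]
    rw [← Equiv.sum_comp hπ.toPerm fun i => B (u i) y * B (u (π i)) x]
    refine Finset.sum_congr rfl fun i _ => ?_
    simp only [Function.Involutive.coe_toPerm, hπ i]
    ring
  · rw [hBn, famNil_apply]
    have h1 : ∑ i, B (u i) v • u (π i) = ∑ i, B (u (π i)) v • u i := by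
      rw [← hre fun i => B (u (π i)) v • u i]
      exact Finset.sum_congr rfl fun i _ => by rw [hπ i]
    rw [h1, norm_sum_orth hP u hu]
    rcases hN with ⟨rfl, hN⟩ | ⟨hfree, hN⟩
    · rw [Finset.mul_sum]
      exact Finset.sum_congr rfl fun i _ => by rw [hN, id]; ring
    · simp [hN, haltfree hfree]
  · rw [hrange, finrank_span_eq_card hli]
  · subst he
    obtain ⟨i⟩ := ‹Nonempty ι›
    have h1 := h (p i)
    rw [hBn] at h1
    simp [hp] at h1
  · rcases hN with ⟨h', -⟩ | ⟨hfree, -⟩
    · exact absurd h' h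
    · intro v; rw [hBn]; exact haltfree hfree v

/-- An involution of given type from a family of vectors. -/
theorem exists_invol_of_family (hP : IsQuadPair B N c) {ι : Type*} [Fintype ι] [Nonempty ι]
    {u : ι → V} {π : ι → ι} (hli : LinearIndependent F u) (hu : ∀ i j, B (u i) (u j) = 0)
    (hπ : Function.Involutive π)
    (hN : (π = id ∧ ∀ i, N (u i) = c) ∨ ((∀ i, π i ≠ i) ∧ ∀ i, N (u i) = 0)) :
    ∃ g : isomGroup B N, orderOf g = 2 ∧
      finrank F (LinearMap.range (isomNil g)) = Fintype.card ι ∧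
      (IsAltInvol B (isomNil g) ↔ π ≠ id) := by
  obtain ⟨h1, h2, h3⟩ := famNil_props hP hli hu hπ hN
  obtain ⟨g, hg, hgn⟩ := exists_isom_of_nil hP h1
  refine ⟨g, orderOf_eq_prime hg fun h => ?_, by rw [hgn, h2], by rw [hgn]; exact h3⟩
  rw [h, isomNil_one] at hgn
  rw [← hgn, LinearMap.range_zero, finrank_bot] at h2
  exact Fintype.card_ne_zero h2.symm

/-- The type of an involution. -/
def IsTypeTwo (g : isomGroup B N) (p : ℕ × Bool) : Prop :=
  finrank F (LinearMap.range (isomNil g)) = p.1 ∧ (IsAltInvol B (isomNil g) ↔ p.2 = true)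

/-- **Counting classes of involutions** of a group isomorphic to the isometry group. -/
theorem card_involution_classes [Finite F] (hP : IsQuadPair B N c) {G : Type*} [Group G]
    (e : G ≃* isomGroup B N) {I : Type*} (T : I → ℕ × Bool) (hT : Function.Injective T)
    (hex : ∀ i, ∃ g : isomGroup B N, orderOf g = 2 ∧ IsTypeTwo g (T i))
    (hcov : ∀ g : isomGroup B N, orderOf g = 2 → ∃ i, IsTypeTwo g (T i)) :
    Nat.card {C : ConjClasses G // ∃ g : G, ConjClasses.mk g = C ∧ orderOf g = 2} = Nat.card I := by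
  choose r hr1 hr2 using hex
  have horder : ∀ g : G, orderOf (e g) = orderOf g := fun g => MulEquiv.orderOf_eq e g
  refine (Nat.card_congr (Equiv.ofBijective (fun i : I =>
    (⟨ConjClasses.mk (e.symm (r i)), e.symm (r i), rfl, by
      rw [← horder, e.apply_symm_apply, hr1]⟩ :
      {C : ConjClasses G // ∃ g : G, ConjClasses.mk g = C ∧ orderOf g = 2})) ⟨?_, ?_⟩)).symm
  · intro i j h
    have h1 := ConjClasses.mk_eq_mk_iff_isConj.1 (congrArg Subtype.val h)
    have h2 := e.toMonoidHom.map_isConj h1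
    simp only [MulEquiv.coe_toMonoidHom, MulEquiv.apply_symm_apply] at h2
    obtain ⟨h3, h4⟩ := isConj_invariants h2
    refine hT (Prod.ext ?_ (Bool.eq_iff_iff.2 ?_))
    · rw [← (hr2 i).1, h3, (hr2 j).1]
    · rw [← (hr2 i).2, h4, (hr2 j).2]
  · rintro ⟨C, g, rfl, hg⟩
    obtain ⟨i, hi⟩ := hcov (e g) (by rw [horder, hg])
    refine ⟨i, Subtype.ext (ConjClasses.mk_eq_mk_iff_isConj.2 ?_)⟩
    have h1 : IsConj (r i) (e g) := isConj_of_invariants hP
      (by rw [← hr1 i]; exact pow_orderOf_eq_one _)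
      (by rw [← hg, ← horder g]; exact pow_orderOf_eq_one _)
      (by rw [(hr2 i).1, hi.1]) (by rw [(hr2 i).2, hi.2])
    have h2 := e.symm.toMonoidHom.map_isConj h1
    simpa using h2

/-- The types `(j+1, not alternating)`, and `(2(j+1), alternating)`. -/
def typeIdx (a b : ℕ) : Fin a ⊕ Fin b → ℕ × Bool :=
  Sum.elim (fun j => ((j : ℕ) + 1, false)) fun j => (2 * ((j : ℕ) + 1), true)

theorem typeIdx_injective (a b : ℕ) : Function.Injective (typeIdx a b) := by
  rintro (i | i) (j | j) h <;>
    simp only [typeIdx, Sum.elim_inl, Sum.elim_inr, Prod.mk.injEq] at h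
  · exact congrArg Sum.inl (Fin.ext (by omega))
  · exact absurd h.2 (by simp)
  · exact absurd h.2 (by simp)
  · exact congrArg Sum.inr (Fin.ext (by omega))

theorem exists_typeIdx (hP : IsQuadPair B N c) [Finite F] {g : isomGroup B N} (hg : orderOf g = 2)
    {a b : ℕ} (ha : finrank F (LinearMap.range (isomNil g)) ≤ a)
    (hb : IsAltInvol B (isomNil g) → finrank F (LinearMap.range (isomNil g)) ≤ 2 * b + 1) :
    ∃ i, IsTypeTwo g (typeIdx a b i) := by
  have hg2 : g ^ 2 = 1 := by rw [← hg]; exact pow_orderOf_eq_one g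
  have hg1 : g ≠ 1 := fun h => by rw [h, orderOf_one] at hg; omega
  have hpos := isomNil_rank_pos hg1
  obtain ⟨k, r, hdim, -, hcase⟩ := exists_adapted hP (isomNil_isInvol hP hg2)
  rcases hcase with ⟨hr, halt⟩ | ⟨-, halt⟩
  · have := hb halt
    exact ⟨Sum.inr ⟨k - 1, by omega⟩, by
      constructor
      · simp [typeIdx]; omega
      · simp [typeIdx, halt]⟩
  · exact ⟨Sum.inl ⟨finrank F (LinearMap.range (isomNil g)) - 1, by omega⟩, by
      constructor
      · simp [typeIdx]; omega
      · simp [typeIdx, halt]⟩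

/-- Realising the types from totally singular and from orthogonal unit families. -/
theorem exists_invol_typeIdx (hP : IsQuadPair B N c) {a b : ℕ}
    {u : Fin a → V} (hu : LinearIndependent F u) (huu : ∀ i j, B (u i) (u j) = 0)
    (huN : ∀ i, N (u i) = c)
    {z : Fin (2 * b) → V} (hz : LinearIndependent F z) (hzz : ∀ i j, B (z i) (z j) = 0)
    (hzN : ∀ i, N (z i) = 0) (i : Fin a ⊕ Fin b) :
    ∃ g : isomGroup B N, orderOf g = 2 ∧ IsTypeTwo g (typeIdx a b i) := by
  rcases i with j | j
  · let σ : Fin ((j : ℕ) + 1) → Fin a := Fin.castLE j.2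
    obtain ⟨g, h1, h2, h3⟩ := exists_invol_of_family hP (π := id)
      (hu.comp σ (Fin.castLE_injective _)) (fun x y => huu _ _) (fun _ => rfl)
      (Or.inl ⟨rfl, fun x => huN _⟩)
    exact ⟨g, h1, by simpa [typeIdx] using h2, by
      rw [h3]
      simp [typeIdx]⟩
  · let σ : Fin ((j : ℕ) + 1) ⊕ Fin ((j : ℕ) + 1) → Fin (2 * b) := fun x =>
      Fin.castLE (by omega) (finSumFinEquiv x)
    have hσ : Function.Injective σ := (Fin.castLE_injective _).comp finSumFinEquiv.injective
    obtain ⟨g, h1, h2, h3⟩ := exists_invol_of_family hP (π := Sum.swap)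
      (hz.comp σ hσ) (fun x y => hzz _ _) Sum.swap_swap
      (Or.inr ⟨by rintro (x | x) <;> simp, fun x => hzN _⟩)
    refine ⟨g, h1, by simpa [typeIdx, two_mul] using h2, ?_⟩
    rw [h3]
    simp only [typeIdx, Sum.elim_inr, iff_true]
    intro h
    exact absurd (congrFun h (Sum.inl 0)) (by simp)

end Cfsg.Agent.Forms

namespace Cfsg.Agent.Forms

open Module

/-- The classes of involutions of `Sp_{2m}(q)`, `q` even. -/
theorem card_involution_classes_sp {F : Type*} [Field F] [Fintype F] [CharP F 2] {m : ℕ} :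
    Nat.card {C : ConjClasses ↥(Matrix.symplecticGroup (Fin m) F) //
      ∃ g : Matrix.symplecticGroup (Fin m) F, ConjClasses.mk g = C ∧ orderOf g = 2} = m + m / 2 := by
  have hP : IsQuadPair (sympB m F) (fun _ => 0) (0 : F) := isQuadPair_sympB
  let u : Fin m → Fin m ⊕ Fin m → F := fun i => Pi.single (Sum.inl i) 1
  have hu : LinearIndependent F u := by
    have := (Pi.basisFun F (Fin m ⊕ Fin m)).linearIndependent.comp _ Sum.inl_injective
    rwa [show (Pi.basisFun F (Fin m ⊕ Fin m)) ∘ Sum.inl = u from funext fun i => by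
      simp [u]] at this
  have huu : ∀ i j, sympB m F (u i) (u j) = 0 := fun i j => by
    rw [sympB_apply, sympForm_eq]; simp [u]
  rw [card_involution_classes hP (spEquiv m F) (typeIdx m (m / 2)) (typeIdx_injective _ _)
    (fun i => exists_invol_typeIdx hP hu huu (fun _ => rfl)
      (z := u ∘ Fin.castLE (by omega)) (hu.comp _ (Fin.castLE_injective _)) (fun _ _ => huu _ _)
      (fun _ => rfl) i) ?_]
  · rw [Nat.card_sum, Nat.card_fin, Nat.card_fin]
  · intro g hg
    have hg2 : g ^ 2 = 1 := by rw [← hg]; exact pow_orderOf_eq_one g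
    have h := (isomNil_isInvol hP hg2).two_mul_rank_le
    rw [show finrank F (Fin m ⊕ Fin m → F) = 2 * m by simp [two_mul]] at h
    exact exists_typeIdx hP hg (by omega) fun _ => by omega

end Cfsg.Agent.Forms
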