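import Cfsg.Agent.Forms.InvolTwo
import Mathlib.Algebra.BigOperators.Fin

/-!
# Counting configurations of an involution in characteristic two
-/

set_option autoImplicit false
set_option linter.unusedSectionVars false

namespace Cfsg.Agent.Forms

open Module

variable {F V : Type*} [Field F] [CharP F 2] [AddCommGroup V] [Module F V] [FiniteDimensional F V]
  {B : LinearMap.BilinForm F V} {N : V → F} {c : F} {n : V →ₗ[F] V}

theorem isSympFamily_of_swap {W : Type*} [AddCommGroup W] [Module F W]
    {β : LinearMap.BilinForm F W} {k : ℕ} {v : Fin k ⊕ Fin k → W}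
    (h : ∀ x y, β (v x) (v (pairSwap y)) = if x = y then 1 else 0) : IsSympFamily β v := by
  refine ⟨fun i j => ?_, fun i j => ?_, fun i j => ?_⟩
  · simpa [pairSwap] using h (Sum.inl i) (Sum.inl j)
  · simpa [pairSwap] using h (Sum.inl i) (Sum.inr j)
  · simpa [pairSwap] using h (Sum.inr i) (Sum.inl j)

/-- The span of the pairs of a configuration. -/
abbrev cfgSpan (F : Type*) {V : Type*} [Field F] [AddCommGroup V] [Module F V] {k r : ℕ}
    (f : CfgIdx k r → V) : Submodule F V :=
  Submodule.span F (Set.range fun x => f (Sum.inl x))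

/-- The candidates for the vectors `u` in a non-degenerate space. -/
def IsUFam (B : LinearMap.BilinForm F V) (N : V → F) (c : F) {r : ℕ} (u : Fin r → V) : Prop :=
  LinearIndependent F u ∧ (∀ i j, B (u i) (u j) = 0) ∧ ∀ i, N (u i) = c

theorem IsCfg.finrank_perp_add (hP : IsQuadPair B N c) {k r : ℕ} {f : CfgIdx k r → V}
    (hf : IsCfg B N c f) :
    finrank F (perp B (cfgSpan F f)) + 4 * k = finrank F V := by
  have h1 := hP.form.finrank_perp (cfgSpan F f)
  have h2 : finrank F (cfgSpan F f) = 4 * k := by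
    rw [cfgSpan, finrank_span_eq_card (b := fun x => f (Sum.inl x))
      (hf.li.comp _ Sum.inl_injective)]
    simp
    omega
  omega

theorem IsCfg.u_mem (hP : IsQuadPair B N c) {k r : ℕ} {f : CfgIdx k r → V} (hf : IsCfg B N c f)
    (i : Fin r) : f (Sum.inr i) ∈ perp B (cfgSpan F f) := by
  rw [cfgSpan, mem_perp_span]
  rintro _ ⟨x, rfl⟩
  exact hf.ou x i

/-- The vectors `u` of a configuration, inside the complement of its pairs. -/
def IsCfg.uVec (hP : IsQuadPair B N c) {k r : ℕ} {f : CfgIdx k r → V} (hf : IsCfg B N c f) :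
    Fin r → perp B (cfgSpan F f) := fun i => ⟨f (Sum.inr i), hf.u_mem hP i⟩

theorem IsCfg.uVec_isUFam (hP : IsQuadPair B N c) {k r : ℕ} {f : CfgIdx k r → V}
    (hf : IsCfg B N c f) :
    IsUFam (resForm B (perp B (cfgSpan F f))) (resNorm N _) c (hf.uVec hP) :=
  ⟨LinearIndependent.of_comp (Submodule.subtype _) (hf.li.comp _ Sum.inr_injective), hf.uu,
    hf.normU⟩

/-- The pointwise stabiliser of a configuration is that of its `u` in the complement. -/
theorem IsCfg.card_stabilizer_mul [Finite F] (hP : IsQuadPair B N c) {k r : ℕ}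
    {f : CfgIdx k r → V} (hf : IsCfg B N c f) :
    Nat.card (MulAction.stabilizer (isomGroup B N) f) *
      Nat.card {u : Fin r → perp B (cfgSpan F f) //
        IsUFam (resForm B (perp B (cfgSpan F f))) (resNorm N _) c u} =
      Nat.card (isomGroup (resForm B (perp B (cfgSpan F f))) (resNorm N (perp B (cfgSpan F f)))) := by
  have : Finite V := Module.finite_of_finite F
  set X := cfgSpan F f with hXdef
  have hX : ∀ u ∈ X, (∀ v ∈ X, B u v = 0) → u = 0 := hf.pairs_nondeg hP
  set Y := perp B X with hY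
  have hI := hP.form.restrict (hP.form.perp_nondeg hX)
  set u := hf.uVec hP
  have hu := hf.uVec_isUFam hP
  rw [← Subgroup.index_mul_card (MulAction.stabilizer (isomGroup (resForm B Y) (resNorm N Y)) u),
    MulAction.index_stabilizer, mul_comm]
  congr 1
  · rw [← Nat.card_coe_set_eq]
    refine Nat.card_congr (Equiv.setCongr ?_)
    ext u'
    constructor
    · intro hu'
      obtain ⟨g, hg⟩ := hI.exists_isom_of_sameGram hu.1 hu'.1
        ⟨fun i j => (hu'.2.1 i j).trans (hu.2.1 i j).symm,
          fun i => (hu'.2.2 i).trans (hu.2.2 i).symm⟩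
      exact ⟨g, funext hg⟩
    · rintro ⟨g, rfl⟩
      exact ⟨hu.1.map' ((g : Y ≃ₗ[F] Y) : Y →ₗ[F] Y) (LinearEquiv.ker _),
        fun i j => (g.2.1 _ _).trans (hu.2.1 i j), fun i => (g.2.2 _).trans (hu.2.2 i)⟩
  · have hinj : Function.Injective (((hP.form.isomProd hX).comp (MonoidHom.inr _ _)).comp
        (MulAction.stabilizer (isomGroup (resForm B Y) (resNorm N Y)) u).subtype) :=
      ((hP.form.isomProd_injective hX).comp fun a b h => (Prod.ext_iff.1 h).2).comp
        Subtype.val_injective
    rw [Nat.card_congr (MonoidHom.ofInjective hinj).toEquiv]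
    refine Nat.card_congr (Equiv.setCongr ?_)
    ext g
    constructor
    · intro hg
      have hfix : ∀ x ∈ X, (g : V ≃ₗ[F] V) x = x := by
        intro x hx
        induction hx using Submodule.span_induction with
        | mem x hx => obtain ⟨i, rfl⟩ := hx; exact congrFun hg (Sum.inl i)
        | zero => simp
        | add a b _ _ ha hb => rw [map_add, ha, hb]
        | smul s a _ ha => rw [map_smul, ha]
      obtain ⟨⟨g1, g2⟩, rfl⟩ := (hP.form.mem_range_isomProd hX g).2 fun x hx => by rwa [hfix x hx]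
      have hg1 : g1 = 1 := by
        refine Subtype.ext (LinearEquiv.ext fun x => Subtype.ext ?_)
        have h1 := hfix x x.2
        rw [hP.form.isomProd_apply_left hX] at h1
        exact h1
      subst hg1
      refine ⟨⟨g2, funext fun i => Subtype.ext ?_⟩, rfl⟩
      have h1 := hP.form.isomProd_apply hX (1, g2) 0 (u i)
      simp only [ZeroMemClass.coe_zero, zero_add, map_zero] at h1
      exact h1.symm.trans (congrFun hg (Sum.inr i))
    · rintro ⟨g2, rfl⟩
      funext x
      rcases x with x | i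
      · exact hP.form.isomProd_apply_left hX (1, (g2 : isomGroup (resForm B Y) (resNorm N Y)))
          ⟨f (Sum.inl x), Submodule.subset_span ⟨x, rfl⟩⟩
      · have h1 := hP.form.isomProd_apply hX (1, (g2 : isomGroup (resForm B Y) (resNorm N Y))) 0 (u i)
        simp only [ZeroMemClass.coe_zero, zero_add, map_zero] at h1
        exact h1.trans (congrArg Subtype.val (congrFun g2.2 i))

/-- A preimage in a complement of the kernel. -/
theorem exists_preimage_complement {W : Submodule F V} (hW : IsCompl W (LinearMap.ker n)) (v : V) :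
    ∃ w : W, n (w : V) = n v := by
  obtain ⟨a, ha, k, hk, rfl⟩ := Submodule.mem_sup.1
    (show v ∈ W ⊔ LinearMap.ker n by rw [hW.sup_eq_top]; trivial)
  exact ⟨⟨a, ha⟩, by rw [map_add, LinearMap.mem_ker.1 hk, add_zero]⟩

theorem eq_of_map_eq_complement {W : Submodule F V} (hW : IsCompl W (LinearMap.ker n)) {x y : W}
    (h : n (x : V) = n (y : V)) : x = y := by
  have h1 : ((x - y : W) : V) ∈ LinearMap.ker n := by simp [h]
  have h2 := Submodule.disjoint_def.1 hW.disjoint _ (x - y).2 h1
  exact sub_eq_zero.1 (Subtype.ext h2)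

theorem mem_twoBasis_inl_diag {W : Submodule F V} {k r : ℕ}
    {b : (Fin k ⊕ Fin k) ⊕ Fin r → W} (hb : IsTwoBasis (involForm B n W) b) (x : Fin k ⊕ Fin k) :
    B (b (Sum.inl x) : V) (n (b (Sum.inl x) : V)) = 0 := by
  rcases x with x | x
  · exact hb.symp.ll x x
  · exact hb.symp.rr x x

/-- The configuration made of a two-basis and lifts of its alternating part. -/
def cfgOf (n : V →ₗ[F] V) {W : Submodule F V} {k r : ℕ} (b : (Fin k ⊕ Fin k) ⊕ Fin r → W)
    (w : Fin k ⊕ Fin k → V) : CfgIdx k r → V :=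
  Sum.elim (Sum.elim w fun x => n (w x)) fun i => n (b (Sum.inr i) : V)

theorem isAdapted_cfgOf (hP : IsQuadPair B N c) (hn : IsInvolTwo B N c n) {W : Submodule F V}
    (hW : IsCompl W (LinearMap.ker n)) {k r : ℕ}
    (hdim : finrank F (LinearMap.range n) = 2 * k + r)
    {b : (Fin k ⊕ Fin k) ⊕ Fin r → W} (hb : IsTwoBasis (involForm B n W) b)
    {w : Fin k ⊕ Fin k → V} (hw : ∀ x, n (w x) = n (b (Sum.inl x) : V) ∧ N (w x) = 0)
    (hww : ∀ x y, B (w x) (w y) = 0) : IsAdapted B N c n (cfgOf n b w) := by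
  obtain ⟨hS, hN, hWd, -⟩ := hn.involForm_props hP hW
  have hwn : ∀ x (v : V), B (w x) (n v) = B (b (Sum.inl x) : V) (n v) := fun x v => by
    rw [← hn.adj, (hw x).1, hn.adj]
  have hwm : ∀ x y, B (w x) (n (w (pairSwap y))) = if x = y then 1 else 0 := fun x y => by
    rw [(hw _).1, hwn]
    exact IsSympFamily.apply_swap hS hb.symp x y
  have hmm : ∀ u v, B (n u) (n v) = 0 := fun u v => by rw [hn.adj, hn.sq, map_zero]
  have hou : ∀ x i, B (w x) (n (b (Sum.inr i) : V)) = 0 := fun x i => by
    rw [hwn]; exact hb.cross x i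
  refine ⟨⟨hww, hwm, fun x y => hmm _ _, ?_, fun i j => hmm _ _, ?_, fun i => ?_, ?_⟩,
    fun x => rfl, ?_⟩
  · rintro (x | x) i
    · exact hou x i
    · exact hmm _ _
  · rintro (x | x)
    · exact (hw x).2
    · change N (n (w x)) = 0
      rw [hn.norm, hwn, (hw x).1, mem_twoBasis_inl_diag hb, mul_zero]
  · change N (n (b (Sum.inr i) : V)) = c
    have h1 := hb.orth i i
    simp only [involForm_apply, if_pos] at h1
    rw [hn.norm, h1, mul_one]
  · rw [Fintype.linearIndependent_iff]
    intro s hs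
    have hwm' : ∀ x y, B (n (w (pairSwap x))) (w y) = if y = x then 1 else 0 := fun x y => by
      rw [hP.symm]; exact hwm y x
    have hs2 : ∀ x, s (Sum.inl (Sum.inl x)) = 0 := by
      intro x
      have h1 := congrArg (B (n (w (pairSwap x)))) hs
      simp [cfgOf, Fintype.sum_sum_type (α₁ := (Fin k ⊕ Fin k) ⊕ (Fin k ⊕ Fin k)),
        Fintype.sum_sum_type (α₁ := Fin k ⊕ Fin k), map_sum, hwm', hmm] at h1
      rcases x with x | x <;> simpa using h1
    have hs3 : ∀ x, s (Sum.inl (Sum.inr x)) = 0 := by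
      intro x
      have h1 := congrArg (B (w (pairSwap x))) hs
      have h2 : ∀ y, B (w (pairSwap x)) (n (w y)) = if x = y then 1 else 0 := fun y => by
        rw [← pairSwap_pairSwap y, hwm]
        simp only [pairSwap_pairSwap]
        congr 1
        exact propext ⟨fun h => by simpa [pairSwap_pairSwap] using congrArg pairSwap h,
          fun h => by rw [h]⟩
      simp [cfgOf, Fintype.sum_sum_type (α₁ := (Fin k ⊕ Fin k) ⊕ (Fin k ⊕ Fin k)),
        Fintype.sum_sum_type (α₁ := Fin k ⊕ Fin k), map_sum, h2, hww, hou] at h1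
      rcases x with x | x <;> simpa using h1
    have hli := Fintype.linearIndependent_iff.1 (hb.linearIndependent hS)
      (Sum.elim 0 fun i => s (Sum.inr i)) ?_
    · rintro ((x | x) | i)
      · exact hs2 x
      · exact hs3 x
      · exact hli (Sum.inr i)
    refine eq_of_map_eq_complement hW ?_
    simp only [cfgOf, Fintype.sum_sum_type (α₁ := (Fin k ⊕ Fin k) ⊕ (Fin k ⊕ Fin k)),
      Fintype.sum_sum_type (α₁ := Fin k ⊕ Fin k) (α₂ := Fin k ⊕ Fin k)] at hs
    simp only [hs2, hs3, zero_smul, Finset.sum_const_zero, zero_add, Sum.elim_inr] at hs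
    simp [Fintype.sum_sum_type (α₁ := Fin k ⊕ Fin k) (α₂ := Fin r), map_sum, hs]
  · intro y hy
    obtain ⟨py, hpy⟩ := exists_preimage_complement hW y
    set d : W := py - ∑ i, B (n (b (Sum.inr i) : V)) y • b (Sum.inr i) with hd
    have hd0 : d = 0 := by
      let bb := basisOfLinearIndependentOfCardEqFinrank' b (hb.linearIndependent hS)
        (by simp [hWd, hdim, two_mul])
      have h : involForm B n W d = 0 := by
        refine bb.ext fun x => ?_
        simp only [bb, coe_basisOfLinearIndependentOfCardEqFinrank', LinearMap.zero_apply]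
        rw [hS.eq]
        rcases x with x | j
        · have h1 : B (b (Sum.inl x) : V) (n (py : V)) = 0 := by
            rw [hpy, ← hn.adj, ← (hw x).1]; exact hy (Sum.inr x)
          simp only [d, map_sub, map_sum, map_smul, involForm_apply, h1, zero_sub, neg_eq_zero]
          refine Finset.sum_eq_zero fun i _ => ?_
          rw [show B (b (Sum.inl x) : V) (n (b (Sum.inr i) : V)) = 0 from hb.cross x i, smul_zero]
        · simp only [d, map_sub, map_sum, map_smul, involForm_apply, hpy]
          have h1 : ∀ i, B (b (Sum.inr j) : V) (n (b (Sum.inr i) : V)) = if j = i then 1 else 0 :=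
            fun i => hb.orth j i
          simp only [h1, smul_eq_mul, mul_ite, mul_one, mul_zero, Finset.sum_ite_eq,
            Finset.mem_univ, if_true, hn.adj, sub_self]
      exact hN.1 d fun z => by rw [h]; simp
    rw [hd, sub_eq_zero] at hd0
    rw [← hpy, hd0]
    simp [cfgOf, map_sum]

theorem IsAdapted.exists_preimage_u (hP : IsQuadPair B N c) {k r : ℕ} {f : CfgIdx k r → V}
    (hf : IsAdapted B N c n f) (i : Fin r) :
    ∃ y, (∀ x, B (f (Sum.inl x)) y = 0) ∧ n y = f (Sum.inr i) ∧
      ∀ j, B (f (Sum.inr j)) y = if j = i then 1 else 0 := by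
  have hnot : f (Sum.inr i) ∉ Submodule.span F (f '' {x | x ≠ Sum.inr i}) :=
    hf.li.notMem_span_image (by simp)
  obtain ⟨y, hy, hy1⟩ := hP.form.exists_perp_pairing hnot 1
  have hy' : ∀ x, x ≠ Sum.inr i → B (f x) y = 0 := fun x hx =>
    hy _ (Submodule.subset_span ⟨x, hx, rfl⟩)
  have hyu : ∀ j, B (f (Sum.inr j)) y = if j = i then 1 else 0 := fun j => by
    split_ifs with h
    · rw [h, hy1]
    · exact hy' _ (by simpa using h)
  refine ⟨y, fun x => hy' _ (by simp), ?_, hyu⟩
  rw [hf.map_perp y fun x => hy' _ (by simp)]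
  simp [hyu]

/-- **The number of configurations of an involution.** -/
theorem card_adapted [Fintype F] {q : ℕ} (hF : Fintype.card F = q) (hP : IsQuadPair B N c)
    (hn : IsInvolTwo B N c n) {e : ℕ}
    (he : (c = 1 ∧ e = 1) ∨ (c = 0 ∧ (∀ x, N x = 0) ∧ e = 0)) {W : Submodule F V}
    (hW : IsCompl W (LinearMap.ker n)) {k r : ℕ}
    (hdim : finrank F (LinearMap.range n) = 2 * k + r) :
    Nat.card {f : CfgIdx k r → V // IsAdapted B N c n f} =
      Nat.card {b : (Fin k ⊕ Fin k) ⊕ Fin r → W // IsTwoBasis (involForm B n W) b} *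
        q ^ ∑ i ∈ Finset.range (k + k), (finrank F (LinearMap.ker n) - i - e) := by
  have : Finite V := Module.finite_of_finite F
  classical
  have := Fintype.ofFinite V
  obtain ⟨hS, hN, hWd, -⟩ := hn.involForm_props hP hW
  choose pr hpr using exists_preimage_complement (n := n) hW
  have hprB : ∀ u v, B (pr u : V) (n (pr v : V)) = B u (n v) := fun u v => by
    rw [hpr, ← hn.adj, hpr, hn.adj]
  let σ : Fin (k + k) → Fin k ⊕ Fin k := finSumFinEquiv.symm
  let TB := {b : (Fin k ⊕ Fin k) ⊕ Fin r → W // IsTwoBasis (involForm B n W) b}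
  let L := fun b : TB => {w : Fin (k + k) → V // IsLift B N n (fun x => (b.1 (Sum.inl x) : V)) σ w}
  have hL : ∀ b : TB, Nat.card (L b) =
      q ^ ∑ i ∈ Finset.range (k + k), (finrank F (LinearMap.ker n) - i - e) := fun b =>
    card_lifts hF hP hn he pairSwap (fun x => (b.1 (Sum.inl x) : V))
      (fun x y => IsSympFamily.apply_swap hS b.2.symp x y) (mem_twoBasis_inl_diag b.2) _ σ
      (Equiv.injective _)
  let fwd : (Σ b : TB, L b) → {f : CfgIdx k r → V // IsAdapted B N c n f} := fun p =>
    ⟨cfgOf n p.1.1 fun x => p.2.1 (finSumFinEquiv x),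
      isAdapted_cfgOf hP hn hW hdim p.1.2
        (fun x => by
          have h1 := p.2.2.1 (finSumFinEquiv x)
          simpa [σ] using h1)
        fun x y => p.2.2.2 _ _⟩
  have hbij : Function.Bijective fwd := by
    constructor
    · rintro ⟨⟨b, hb⟩, w, hw⟩ ⟨⟨b', hb'⟩, w', hw'⟩ h
      have h' := congrArg Subtype.val h
      obtain rfl : w = w' := funext fun i => by
        simpa [fwd, cfgOf] using congrFun h' (Sum.inl (Sum.inl (finSumFinEquiv.symm i)))
      obtain rfl : b = b' := by
        funext x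
        refine eq_of_map_eq_complement hW ?_
        rcases x with x | i
        · have h1 := (hw.1 (finSumFinEquiv x)).1
          have h2 := (hw'.1 (finSumFinEquiv x)).1
          simp only [σ, Equiv.symm_apply_apply] at h1 h2
          exact h1.symm.trans h2
        · exact congrFun h' (Sum.inr i)
      rfl
    · rintro ⟨f, hf⟩
      choose y hy1 hy2 hy3 using hf.exists_preimage_u hP
      let b : (Fin k ⊕ Fin k) ⊕ Fin r → W :=
        Sum.elim (fun x => pr (f (Sum.inl (Sum.inl x)))) fun i => pr (y i)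
      have hb : IsTwoBasis (involForm B n W) b := by
        refine ⟨isSympFamily_of_swap fun x z => ?_, fun i j => ?_, fun x i => ?_⟩
        · simp only [b, Sum.elim_inl, involForm_apply, hprB, hf.map_w]
          exact hf.wm x z
        · simp only [b, Sum.elim_inr, involForm_apply, hprB, hy2]
          rw [hP.symm, hy3]
          simp only [eq_comm]
        · simp only [b, Sum.elim_inl, Sum.elim_inr, involForm_apply, hprB, hy2]
          exact hf.ou _ i
      refine ⟨⟨⟨b, hb⟩, fun i => f (Sum.inl (Sum.inl (σ i))), fun i => ⟨?_, hf.normP _⟩,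
        fun i l => hf.ww _ _⟩, Subtype.ext (funext ?_)⟩
      · simp [b, hpr]
      · rintro ((x | x) | i)
        · simp [fwd, cfgOf, σ]
        · simp [fwd, cfgOf, σ, hf.map_w]
        · simp [fwd, cfgOf, b, hpr, hy2]
  rw [← Nat.card_congr (Equiv.ofBijective fwd hbij), Nat.card_sigma,
    Finset.sum_congr rfl fun b _ => hL b, Finset.sum_const, Finset.card_univ,
    ← Nat.card_eq_fintype_card, smul_eq_mul]

theorem exists_adapted [Finite F] (hP : IsQuadPair B N c) (hn : IsInvolTwo B N c n) :
    ∃ k r : ℕ, finrank F (LinearMap.range n) = 2 * k + r ∧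
      (∃ f : CfgIdx k r → V, IsAdapted B N c n f) ∧
      ((r = 0 ∧ IsAltInvol B n) ∨ ((r = 1 ∨ r = 2) ∧ ¬ IsAltInvol B n)) := by
  have := Fintype.ofFinite F
  have : Finite V := Module.finite_of_finite F
  obtain ⟨W, hW⟩ := Submodule.exists_isCompl (LinearMap.ker n)
  obtain ⟨hS, hN, hWd, hiff⟩ := hn.involForm_props hP hW.symm
  obtain ⟨k, r, hdim, ⟨b, hb⟩, hcase⟩ := exists_twoBasis hS hN
  refine ⟨k, r, by omega, ?_, by rwa [← hiff]⟩
  obtain ⟨e, he⟩ : ∃ e, (c = 1 ∧ e = 1) ∨ (c = 0 ∧ (∀ x, N x = 0) ∧ e = 0) := by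
    rcases hP.cases with h | h
    · exact ⟨1, Or.inl ⟨h, rfl⟩⟩
    · exact ⟨0, Or.inr ⟨h.1, h.2, rfl⟩⟩
  have h := card_adapted rfl hP hn he hW.symm (k := k) (r := r) (by omega)
  have hpos : Nat.card {f : CfgIdx k r → V // IsAdapted B N c n f} ≠ 0 := by
    rw [h]
    refine Nat.mul_ne_zero (Nat.card_ne_zero.2 ⟨⟨⟨b, hb⟩⟩, inferInstance⟩) ?_
    exact pow_ne_zero _ (Fintype.card_pos (α := F)).ne'
  obtain ⟨⟨f, hf⟩⟩ := (Nat.card_ne_zero.1 hpos).1
  exact ⟨f, hf⟩

/-- Involutions with the same rank and the same type are conjugate. -/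
theorem exists_conj [Finite F] (hP : IsQuadPair B N c) {n' : V →ₗ[F] V}
    (hn : IsInvolTwo B N c n) (hn' : IsInvolTwo B N c n')
    (hr : finrank F (LinearMap.range n) = finrank F (LinearMap.range n'))
    (ha : IsAltInvol B n ↔ IsAltInvol B n') :
    ∃ g : isomGroup B N, ∀ v, (g : V ≃ₗ[F] V) (n v) = n' ((g : V ≃ₗ[F] V) v) := by
  obtain ⟨k, r, hd, ⟨f, hf⟩, hc⟩ := exists_adapted hP hn
  obtain ⟨k', r', hd', ⟨f', hf'⟩, hc'⟩ := exists_adapted hP hn'
  have hrr : r = r' := by
    rcases hc with ⟨h1, h2⟩ | ⟨h1, h2⟩ <;> rcases hc' with ⟨h3, h4⟩ | ⟨h3, h4⟩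
    · omega
    · exact absurd (ha.1 h2) h4
    · exact absurd (ha.2 h4) h2
    · omega
  subst hrr
  obtain rfl : k = k' := by omega
  obtain ⟨g, -, hg⟩ := exists_isom_adapted hP hn hn' hf hf'
  exact ⟨g, hg⟩

/-- **The order of the centraliser.** -/
theorem card_involCent [Fintype F] {q : ℕ} (hF : Fintype.card F = q) (hP : IsQuadPair B N c)
    (hn : IsInvolTwo B N c n) {e : ℕ}
    (he : (c = 1 ∧ e = 1) ∨ (c = 0 ∧ (∀ x, N x = 0) ∧ e = 0)) {W : Submodule F V}
    (hW : IsCompl W (LinearMap.ker n)) {k r : ℕ}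
    (hdim : finrank F (LinearMap.range n) = 2 * k + r) {f : CfgIdx k r → V}
    (hf : IsAdapted B N c n f) :
    Nat.card (involCent B N n) *
      Nat.card {u : Fin r → perp B (cfgSpan F f) //
        IsUFam (resForm B (perp B (cfgSpan F f))) (resNorm N _) c u} =
      Nat.card {b : (Fin k ⊕ Fin k) ⊕ Fin r → W // IsTwoBasis (involForm B n W) b} *
        q ^ (∑ i ∈ Finset.range (k + k), (finrank F (LinearMap.ker n) - i - e)) *
        Nat.card (isomGroup (resForm B (perp B (cfgSpan F f)))
          (resNorm N (perp B (cfgSpan F f)))) := by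
  rw [card_involCent_eq hP hn hf, mul_assoc, hf.toIsCfg.card_stabilizer_mul hP,
    card_adapted hF hP hn he hW hdim]

end Cfsg.Agent.Forms
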