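import Cfsg.Agent.Forms.InvolTwoSymp

/-!
# Centraliser orders of the involutions of `Sp_{2m}(q)`, `q` even
-/

set_option autoImplicit false

namespace Cfsg.Agent.Forms

open Module

theorem sympOrd_fin (q k : ℕ) :
    q ^ (k ^ 2) * ∏ i : Fin k, (q ^ (2 * ((i : ℕ) + 1)) - 1) = sympOrd q k := by
  rw [sympOrd, Fin.prod_univ_eq_prod_range (fun i => q ^ (2 * (i + 1)) - 1)]

theorem sympOrd_succ (q k : ℕ) :
    sympOrd q (k + 1) = q ^ (2 * k + 1) * (q ^ (2 * k + 2) - 1) * sympOrd q k := by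
  rw [sympOrd, sympOrd, Finset.prod_range_succ, show (k + 1) ^ 2 = 2 * k + 1 + k ^ 2 by ring, pow_add,
    show 2 * (k + 1) = 2 * k + 2 by ring]
  ring

variable {F : Type*} [Field F] [CharP F 2] [Fintype F] {q : ℕ} {m : ℕ}

/-- The three centraliser orders in `Sp_{2m}(q)`. -/
theorem card_centralizer_sp (hF : Fintype.card F = q) (t : Matrix.symplecticGroup (Fin m) F)
    (ht : t ^ 2 = 1) :
    ∃ k r l : ℕ, finrank F (LinearMap.range (spNil t)) = 2 * k + r ∧ m = 2 * k + r + l ∧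
      ((r = 0 ∧ IsAltInvol (sympB m F) (spNil t)) ∨
        ((r = 1 ∨ r = 2) ∧ ¬ IsAltInvol (sympB m F) (spNil t))) ∧
      ∃ E : ℕ, Nat.card ↥(Subgroup.centralizer ({t} : Set ↥(Matrix.symplecticGroup (Fin m) F))) =
          q ^ E * sympOrd q k * sympOrd q l ∧
        (r = 0 → E = 2 * (k * k) + k + 4 * (k * l)) ∧
        (r = 1 → E = 2 * (k * k) + 3 * k + 4 * (k * l) + 2 * l + 1) ∧
        (r = 2 → E = 2 * (k * k) + 7 * k + 4 * (k * l) + 4 * l + 4) := by
  have hn := sp_isInvol t ht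
  obtain ⟨k, r, hdim, ⟨f, hf⟩, hcase⟩ := exists_adapted (isQuadPair_sympB (m := m) (F := F)) hn
  have hr : r ≤ 2 := by rcases hcase with ⟨h, -⟩ | ⟨h, -⟩ <;> omega
  obtain ⟨D, S, U, hD, hle, hS, hC, hU0, hU1, hU2⟩ := card_involCent_sp hF hn hr hdim hf
  obtain ⟨l, rfl⟩ : ∃ l, m = 2 * k + r + l := ⟨m - (2 * k + r), by omega⟩
  have hq : 2 ≤ q := hF ▸ Fintype.one_lt_card
  have hS' : S = 2 * (k * k) + k + 2 * (k * r) + 4 * (k * l) := by
    rw [show 2 * (2 * k + r + l) - (2 * k + r) = 2 * k + r + 2 * l by omega] at hS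
    ring_nf at hS ⊢
    omega
  refine ⟨k, r, l, hdim, rfl, hcase, ?_⟩
  rw [card_centralizer_eq]
  have hpos : ∀ i, 1 ≤ i → q ^ i - 1 ≠ 0 := fun i hi => by
    have : q ≤ q ^ i := Nat.le_self_pow (by omega) q
    omega
  interval_cases r
  · refine ⟨S, ?_, fun _ => by omega, fun h => absurd h (by omega), fun h => absurd h (by omega)⟩
    rw [hU0 rfl, mul_one, show D / 2 = l by omega, if_neg (by omega)] at hC
    rw [hC]; ring
  · refine ⟨S + 2 * l + 1, ?_, fun h => absurd h (by omega), fun _ => by omega,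
      fun h => absurd h (by omega)⟩
    rw [hU1 rfl, show D / 2 = l + 1 by omega, show D = 2 * l + 2 by omega, if_neg (by omega),
      sympOrd_succ] at hC
    refine mul_right_cancel₀ (hpos (2 * l + 2) (by omega)) (hC.trans ?_)
    rw [pow_add, pow_add, pow_add]
    ring
  · refine ⟨S + 2 * k + 4 * l + 4, ?_, fun h => absurd h (by omega), fun h => absurd h (by omega),
      fun _ => by omega⟩
    rw [hU2 rfl, show D / 2 = l + 1 + 1 by omega, show D = 2 * l + 4 by omega, if_pos rfl,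
      sympOrd_succ, sympOrd_succ, show 2 * l + 4 - 1 = 2 * l + 2 + 1 by omega, pow_succ q (2 * l + 2),
      show 2 * (l + 1) + 2 = 2 * l + 4 by omega] at hC
    have e : q ^ (2 * l + 2) * q - q = (q ^ (2 * l + 2) - 1) * q := by
      rw [Nat.sub_mul, one_mul]
    rw [e] at hC
    refine mul_right_cancel₀ (b := (q ^ (2 * l + 4) - 1) * ((q ^ (2 * l + 2) - 1) * q))
      (mul_ne_zero (hpos _ (by omega)) (mul_ne_zero (hpos _ (by omega)) (by omega))) (hC.trans ?_)
    simp only [pow_add, pow_one, mul_add]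
    ring

end Cfsg.Agent.Forms
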