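import Cfsg.Agent.Forms.InvolTwoClass
import Cfsg.Agent.Forms.InvolTwoSpCent
import Cfsg.Agent.Forms.OrthBridge
import Cfsg.Agent.Forms.QuadOrder

/-!
# Involutions of orthogonal groups in characteristic two: general facts
-/

set_option autoImplicit false
set_option linter.unusedSectionVars false

namespace Cfsg.Agent.Forms

open Module

variable {F V : Type*} [Field F] [CharP F 2] [AddCommGroup V] [Module F V] [FiniteDimensional F V]
  {Q : QuadraticForm F V}

theorem polar_zero_of_singular {U : Submodule F V} (hU : ∀ w ∈ U, Q w = 0) {x y : V} (hx : x ∈ U)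
    (hy : y ∈ U) : QuadraticMap.polar Q x y = 0 := by
  simp [QuadraticMap.polar, hU _ hx, hU _ hy, hU _ (U.add_mem hx hy)]

/-- A totally singular subspace maps into any other of at least its dimension. -/
theorem exists_isom_map_singular (hQ : (QuadraticMap.polarBilin Q).Nondegenerate)
    {U W : Submodule F V} (hU : ∀ w ∈ U, Q w = 0) (hW : ∀ w ∈ W, Q w = 0)
    (h : finrank F U ≤ finrank F W) :
    ∃ g : orthGroup Q, U.map ((g : V ≃ₗ[F] V) : V →ₗ[F] V) ≤ W := by
  let bU := Module.finBasis F U
  let bW := Module.finBasis F W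
  have hv : LinearIndependent F fun i => (bU i : V) :=
    bU.linearIndependent.map' U.subtype U.ker_subtype
  have hw : LinearIndependent F fun i => (bW (Fin.castLE h i) : V) :=
    (bW.linearIndependent.map' W.subtype W.ker_subtype).comp _ (Fin.castLE_injective h)
  obtain ⟨g, hg⟩ := (isForm_quadratic Q hQ).exists_isom_of_sameGram hv hw
    ⟨fun i j => by
      rw [QuadraticMap.polarBilin_apply_apply, QuadraticMap.polarBilin_apply_apply,
        polar_zero_of_singular hW (bW _).2 (bW _).2, polar_zero_of_singular hU (bU _).2 (bU _).2],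
    fun i => by rw [hW _ (bW _).2, hU _ (bU _).2]⟩
  refine ⟨g, ?_⟩
  rintro _ ⟨x, hx, rfl⟩
  have h1 : x = ∑ i, bU.repr ⟨x, hx⟩ i • (bU i : V) := by
    have h2 := congrArg Subtype.val (bU.sum_repr ⟨x, hx⟩)
    simp only [Submodule.coe_sum, Submodule.coe_smul] at h2
    exact h2.symm
  rw [h1, LinearEquiv.coe_coe, map_sum]
  refine Submodule.sum_mem _ fun i _ => ?_
  rw [map_smul, hg i]
  exact Submodule.smul_mem _ _ (bW _).2

/-- Totally singular subspaces are no larger than a singular core. -/
theorem finrank_le_core (hQ : (QuadraticMap.polarBilin Q).Nondegenerate) {U W : Submodule F V}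
    (hU : ∀ w ∈ U, Q w = 0) (hW : IsSingularCore Q W) : finrank F U ≤ finrank F W := by
  by_contra hcon
  obtain ⟨g, hg⟩ := exists_isom_map_singular hQ hW.zero hU (by omega)
  set U' := U.map ((g⁻¹ : orthGroup Q) : V ≃ₗ[F] V).toLinearMap with hU'
  have hWU : W ≤ U' := fun w hw => ⟨(g : V ≃ₗ[F] V) w, hg ⟨w, hw, rfl⟩, by simp⟩
  have hU'0 : ∀ w ∈ U', Q w = 0 := by
    rintro _ ⟨u, hu, rfl⟩
    exact (g⁻¹ : orthGroup Q).2.2 u |>.trans (hU u hu)
  have hle : U' ≤ W := fun x hx => hW.max x
    (fun w hw => polar_zero_of_singular hU'0 (hWU hw) hx) (hU'0 x hx)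
  have h1 := Submodule.finrank_mono hle
  rw [hU', LinearEquiv.finrank_map_eq] at h1
  omega

theorem singular_le_perp {U : Submodule F V} (hU : ∀ w ∈ U, Q w = 0) :
    U ≤ perp (QuadraticMap.polarBilin Q) U := fun _ hy _ hx => polar_zero_of_singular hU hx hy

theorem isSingularCore_of_half (hQ : (QuadraticMap.polarBilin Q).Nondegenerate)
    {U : Submodule F V} (hU : ∀ w ∈ U, Q w = 0) (hd : 2 * finrank F U = finrank F V) :
    IsSingularCore Q U := by
  refine ⟨hU, fun v hv hv0 => ?_⟩
  by_contra hvU
  have hU' : ∀ w ∈ U ⊔ Submodule.span F {v}, Q w = 0 := by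
    intro w hw
    obtain ⟨a, ha, b, hb, rfl⟩ := Submodule.mem_sup.1 hw
    obtain ⟨r, rfl⟩ := Submodule.mem_span_singleton.1 hb
    rw [QuadraticMap.map_add Q, hU a ha, QuadraticMap.map_smul, hv0, smul_zero,
      QuadraticMap.polar_smul_right, show QuadraticMap.polar Q a v = 0 from hv a ha, smul_zero]
    simp
  have h1 := (isForm_quadratic Q hQ).finrank_le_of_le_perp (singular_le_perp hU')
  have h2 : U < U ⊔ Submodule.span F {v} := lt_of_le_of_ne le_sup_left fun e =>
    hvU (e ▸ Submodule.mem_sup_right (Submodule.mem_span_singleton_self v))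
  have h3 := Submodule.finrank_lt_finrank_of_lt h2
  omega

/-- An alternating form has even rank. -/
theorem finrank_eq_ker_add_two_mul {P : Type*} [AddCommGroup P] [Module F P]
    [FiniteDimensional F P] (D : LinearMap.BilinForm F P) (hD : D.IsAlt) :
    ∃ a, finrank F P = finrank F (LinearMap.ker D) + 2 * a := by
  obtain ⟨m, k, b, hfam, hrad⟩ := exists_symp_basis_radical D hD
  refine ⟨m, ?_⟩
  have hker : LinearMap.ker D = Submodule.span F (Set.range fun j => b (Sum.inr j)) := by
    refine le_antisymm (fun x hx => ?_) (Submodule.span_le.2 ?_)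
    · rw [LinearMap.mem_ker] at hx
      rw [← b.sum_repr x]
      refine Submodule.sum_mem _ fun i _ => ?_
      rcases i with i | j
      · have : b.repr x (Sum.inl i) = 0 := by
          have hDl : ∀ y : Fin m ⊕ Fin m, D (b (Sum.inl y)) (b (Sum.inl (pairSwap i))) =
              if y = i then 1 else 0 := fun y => by
            rcases y with y | y <;> rcases i with i | i <;>
              simp [pairSwap, hfam.lr, hfam.ll, hfam.rr]
            rw [← LinearMap.IsAlt.neg hD, hfam.lr, CharTwo.neg_eq]
            simp [eq_comm]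
          have h1 : D (∑ i, b.repr x i • b i) (b (Sum.inl (pairSwap i))) = 0 := by
            rw [b.sum_repr, hx]; rfl
          simp [Fintype.sum_sum_type (α₁ := Fin m ⊕ Fin m), map_sum, hDl, hrad] at h1
          rcases i with i | i <;> simpa using h1
        rw [this, zero_smul]
        exact Submodule.zero_mem _
      · exact Submodule.smul_mem _ _ (Submodule.subset_span ⟨j, rfl⟩)
    · rintro _ ⟨j, rfl⟩
      exact LinearMap.mem_ker.2 (LinearMap.ext fun v => hrad j v)
  rw [hker, finrank_span_eq_card (b := fun j => b (Sum.inr j))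
      (b.linearIndependent.comp _ Sum.inr_injective), Module.finrank_eq_card_basis b]
  simp
  omega

/-- An isometry stabilising a maximal totally singular subspace has Dickson invariant zero. -/
theorem dickson_eq_zero_of_stab (hQ : (QuadraticMap.polarBilin Q).Nondegenerate)
    {U : Submodule F V} (hU : ∀ w ∈ U, Q w = 0) (hd : 2 * finrank F U = finrank F V)
    (g : orthGroup Q) (hg : ∀ u ∈ U, (g : V ≃ₗ[F] V) u ∈ U) : dickson g = 0 := by
  set B := QuadraticMap.polarBilin Q with hB
  have hI := isForm_quadratic Q hQ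
  set h : V →ₗ[F] V := ((g : V ≃ₗ[F] V) : V →ₗ[F] V) - LinearMap.id with hh
  have happ : ∀ v, h v = (g : V ≃ₗ[F] V) v - v := fun v => rfl
  have hperp : perp B U = U := (Submodule.eq_of_le_of_finrank_eq (singular_le_perp hU) (by
    have := hI.finrank_perp U
    change finrank F U = finrank F (perp (QuadraticMap.polarBilin Q) U)
    omega)).symm
  have hgU : U.map ((g : V ≃ₗ[F] V) : V →ₗ[F] V) = U :=
    Submodule.eq_of_le_of_finrank_eq (by rintro _ ⟨u, hu, rfl⟩; exact hg u hu)
      (LinearEquiv.finrank_map_eq _ _)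
  have hkey : ∀ u v, B ((g : V ≃ₗ[F] V) u) (h v) = - B (h u) v := by
    intro u v
    have h1 : B ((g : V ≃ₗ[F] V) u) ((g : V ≃ₗ[F] V) v) = B u v := g.2.1 u v
    rw [happ, happ, map_sub, map_sub, LinearMap.sub_apply, h1, neg_sub]
  set P := U.comap h with hP
  have hPperp : P = perp B (U.map h) := by
    ext v
    constructor
    · rintro hv _ ⟨u, hu, rfl⟩
      have h1 : B ((g : V ≃ₗ[F] V) u) (h v) = 0 :=
        polar_zero_of_singular hU (hg u hu) hv
      rw [hkey, neg_eq_zero] at h1
      exact h1
    · intro hv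
      change h v ∈ U
      rw [← hperp]
      intro u hu
      rw [← hgU] at hu
      obtain ⟨u', hu', rfl⟩ := hu
      rw [LinearEquiv.coe_coe, hkey, hv _ ⟨u', hu', rfl⟩, neg_zero]
  have hhU : U.map h ≤ U := by
    rintro _ ⟨u, hu, rfl⟩
    exact U.sub_mem (hg u hu) hu
  let D : LinearMap.BilinForm F P := LinearMap.BilinForm.restrict (B.comp h) P
  have hDapp : ∀ x y : P, D x y = B (h (x : V)) (y : V) := fun x y => rfl
  have hDalt : D.IsAlt := by
    intro x
    have h1 : Q (h (x : V) + x) = Q (x : V) := by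
      rw [happ, sub_add_cancel]; exact g.2.2 _
    rw [QuadraticMap.map_add Q, hU _ x.2, zero_add, add_eq_left] at h1
    exact h1
  obtain ⟨a, ha⟩ := finrank_eq_ker_add_two_mul D hDalt
  have hker : (LinearMap.ker D).map P.subtype = U ⊔ LinearMap.ker h := by
    rw [← Submodule.comap_map_eq h U]
    ext v
    constructor
    · rintro ⟨x, hx, rfl⟩
      change h (x : V) ∈ U.map h
      rw [← hI.perp_perp (U.map h)]
      intro y hy
      rw [← hB, ← hPperp] at hy
      have h1 : D x ⟨y, hy⟩ = 0 := by rw [LinearMap.mem_ker.1 hx]; rfl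
      rw [hDapp] at h1
      exact hI.refl _ _ h1
    · intro hv
      have hvP : v ∈ P := hhU hv
      refine ⟨⟨v, hvP⟩, LinearMap.mem_ker.2 (LinearMap.ext fun y => ?_), rfl⟩
      change B (h v) (y : V) = 0
      have h1 : (y : V) ∈ perp B (U.map h) := hPperp ▸ y.2
      exact h1 _ hv
  have e1 : finrank F (LinearMap.ker D) = finrank F ↥(U ⊔ LinearMap.ker h) := by
    rw [← hker, Submodule.finrank_map_subtype_eq]
  have e2 := hI.finrank_perp (U.map h)
  rw [← hB, ← hPperp] at e2
  have e3 := Submodule.finrank_sup_add_finrank_inf_eq U (LinearMap.ker h)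
  have e4 : finrank F (U.map h) + finrank F ↥(U ⊓ LinearMap.ker h) = finrank F U := by
    have h1 := LinearMap.finrank_range_add_finrank_ker (h.comp U.subtype)
    rw [LinearMap.range_comp, Submodule.range_subtype, LinearMap.ker_comp] at h1
    rw [← h1]
    congr 1
    rw [← Submodule.finrank_map_subtype_eq U, Submodule.map_comap_subtype]
  unfold dickson
  rw [← hh, ZMod.natCast_eq_zero_iff_even]
  rw [Nat.even_iff]
  omega

variable [Finite F]

/-- Reflections generate outside the hyperbolic four-space over two elements. -/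
theorem closure_reflectionSet_char_two (hQ : (QuadraticMap.polarBilin Q).Nondegenerate)
    (hexc : Nat.card F ≠ 2 ∨ finrank F V ≠ 4 ∨
      ∀ W : Submodule F V, (∀ w ∈ W, Q w = 0) → finrank F W ≤ 1) :
    Subgroup.closure (reflectionSet Q) = ⊤ := by
  rcases hexc with h | h | h
  · exact closure_reflectionSet_two two_eq_zero_of_charTwo hQ (Or.inl h)
  · exact closure_reflectionSet_two two_eq_zero_of_charTwo hQ (Or.inr h)
  · exact closure_reflectionSet_two_of_bridge two_eq_zero_of_charTwo hQ
      (hasBridge_of_no_singular_plane two_eq_zero_of_charTwo hQ h)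

/-- The Dickson invariant of an involution is the parity of its rank. -/
theorem dickson_eq_rank (g : orthGroup Q) :
    dickson g = ((finrank F (LinearMap.range (isomNil g)) : ℕ) : ZMod 2) := by
  unfold dickson isomNil
  congr 1
  have := LinearMap.finrank_range_add_finrank_ker (((g : V ≃ₗ[F] V) : V →ₗ[F] V) - LinearMap.id)
  omega

theorem mem_commutator_iff_even (hQ : (QuadraticMap.polarBilin Q).Nondegenerate)
    (hgen : Subgroup.closure (reflectionSet Q) = ⊤) (hn : 1 ≤ finrank F V) (g : orthGroup Q) :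
    g ∈ commutator (orthGroup Q) ↔ Even (finrank F (LinearMap.range (isomNil g))) := by
  rw [(commutator_index_two_of_gen two_eq_zero_of_charTwo hQ hgen hn).2, dickson_eq_rank,
    ZMod.natCast_eq_zero_iff_even]

theorem reflection_notMem_commutator (hQ : (QuadraticMap.polarBilin Q).Nondegenerate)
    (hgen : Subgroup.closure (reflectionSet Q) = ⊤) (hn : 1 ≤ finrank F V) {y : V} (hy : Q y ≠ 0) :
    reflection Q y ∉ commutator (orthGroup Q) := by
  rw [(commutator_index_two_of_gen two_eq_zero_of_charTwo hQ hgen hn).2,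
    dickson_reflection hQ hy]
  exact one_ne_zero

theorem reflection_mem_involCent {n : V →ₗ[F] V}
    (hn : IsInvolTwo (QuadraticMap.polarBilin Q) Q 1 n) {y : V} (hy : n y = 0) :
    reflection Q y ∈ involCent (QuadraticMap.polarBilin Q) Q n := by
  intro v
  rw [reflection_apply, reflection_apply, map_sub, map_smul, hy, smul_zero, sub_zero]
  have h1 : QuadraticMap.polar Q y (n v) = 0 := by
    have h2 := hn.adj y v
    rw [hy] at h2
    simpa using h2.symm
  rw [h1, mul_zero, zero_smul, sub_zero]

theorem alt_iff_norm {n : V →ₗ[F] V} (hn : IsInvolTwo (QuadraticMap.polarBilin Q) Q 1 n) :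
    IsAltInvol (QuadraticMap.polarBilin Q) n ↔ ∀ v, Q (n v) = 0 :=
  forall_congr' fun v => by rw [hn.norm, one_mul]

/-- The centraliser contains a reflection, unless the type is alternating of rank half the
dimension. -/
theorem exists_notMem_commutator (hQ : (QuadraticMap.polarBilin Q).Nondegenerate)
    (hgen : Subgroup.closure (reflectionSet Q) = ⊤) (hn1 : 1 ≤ finrank F V) {n : V →ₗ[F] V}
    (hn : IsInvolTwo (QuadraticMap.polarBilin Q) Q 1 n)
    (h : ¬ IsAltInvol (QuadraticMap.polarBilin Q) n ∨
      2 * finrank F (LinearMap.range n) < finrank F V) :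
    ∃ g ∈ involCent (QuadraticMap.polarBilin Q) Q n, g ∉ commutator (orthGroup Q) := by
  suffices ∃ y ∈ LinearMap.ker n, Q y ≠ 0 by
    obtain ⟨y, hy, hy0⟩ := this
    exact ⟨_, reflection_mem_involCent hn hy, reflection_notMem_commutator hQ hgen hn1 hy0⟩
  by_contra hc
  push Not at hc
  rcases h with h | h
  · refine h ((alt_iff_norm hn).2 fun v => hc _ (LinearMap.mem_ker.2 (hn.sq v)))
  · have h1 := (isForm_quadratic Q hQ).finrank_le_of_le_perp (singular_le_perp hc)
    have h2 := hn.finrank_ker
    omega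

/-- An alternating type of rank half the dimension has centraliser inside the commutator group. -/
theorem involCent_le_commutator (hQ : (QuadraticMap.polarBilin Q).Nondegenerate)
    (hgen : Subgroup.closure (reflectionSet Q) = ⊤) (hn1 : 1 ≤ finrank F V) {n : V →ₗ[F] V}
    (hn : IsInvolTwo (QuadraticMap.polarBilin Q) Q 1 n)
    (halt : IsAltInvol (QuadraticMap.polarBilin Q) n)
    (hd : 2 * finrank F (LinearMap.range n) = finrank F V) :
    involCent (QuadraticMap.polarBilin Q) Q n ≤ commutator (orthGroup Q) := by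
  intro g hg
  rw [(commutator_index_two_of_gen two_eq_zero_of_charTwo hQ hgen hn1).2]
  refine dickson_eq_zero_of_stab hQ (U := LinearMap.range n) ?_ hd g ?_
  · rintro _ ⟨v, rfl⟩; exact (alt_iff_norm hn).1 halt v
  · rintro _ ⟨v, rfl⟩; exact ⟨_, (hg v).symm⟩

/-- Halving a centraliser that leaves an index two subgroup. -/
theorem two_mul_card_inf {G : Type*} [Group G] [Finite G] {K C : Subgroup G} (hK : K.index = 2)
    {h : G} (hC : h ∈ C) (hh : h ∉ K) : 2 * Nat.card {g : K // (g : G) ∈ C} = Nat.card C := by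
  have e : {g : K // (g : G) ∈ C} ⊕ {g : K // (g : G) ∈ C} ≃ C := by
    refine Equiv.ofBijective (Sum.elim (fun g => ⟨g.1.1, g.2⟩)
      fun g => ⟨h * g.1.1, C.mul_mem hC g.2⟩) ⟨?_, ?_⟩
    · rintro (a | a) (b | b) e <;> simp only [Sum.elim_inl, Sum.elim_inr, Subtype.mk.injEq] at e
      · exact congrArg Sum.inl (Subtype.ext (Subtype.ext e))
      · exact absurd ((K.mul_mem_cancel_right b.1.2).1 (e ▸ a.1.2)) hh
      · exact absurd ((K.mul_mem_cancel_right a.1.2).1 (e ▸ b.1.2)) hh
      · exact congrArg Sum.inr (Subtype.ext (Subtype.ext (mul_left_cancel e)))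
    · intro x
      by_cases hx : (x : G) ∈ K
      · exact ⟨Sum.inl ⟨⟨x, hx⟩, x.2⟩, rfl⟩
      · have h1 : h⁻¹ * (x : G) ∈ K :=
          (Subgroup.mul_mem_iff_of_index_two hK).2 (by simp [hh, hx])
        exact ⟨Sum.inr ⟨⟨_, h1⟩, C.mul_mem (C.inv_mem hC) x.2⟩, Subtype.ext (by simp)⟩
  rw [← Nat.card_congr e, Nat.card_sum]
  ring

end Cfsg.Agent.Forms
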