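import Cfsg.Agent.Forms.InvolTwoCount
import Cfsg.Agent.Forms.SympBridge
import Mathlib.LinearAlgebra.Matrix.Rank

/-!
# Involutions of `Sp_{2m}(q)`, `q` even
-/

set_option autoImplicit false
set_option linter.unusedSectionVars false

namespace Cfsg.Agent.Forms

open Module

variable {F V : Type*} [Field F] [CharP F 2] [AddCommGroup V] [Module F V] [FiniteDimensional F V]
  {B : LinearMap.BilinForm F V} {N : V → F} {c : F} {n : V →ₗ[F] V}

/-- The number of two-bases. -/
theorem card_twoBasis_eq [Fintype F] {q : ℕ} (hF : Fintype.card F = q) (hP : IsQuadPair B N c)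
    (hn : IsInvolTwo B N c n) {W : Submodule F V} (hW : IsCompl W (LinearMap.ker n)) {k r : ℕ}
    (hr : r ≤ 2) (hdim : finrank F (LinearMap.range n) = 2 * k + r)
    {b : (Fin k ⊕ Fin k) ⊕ Fin r → W} (hb : IsTwoBasis (involForm B n W) b) :
    Nat.card {b : (Fin k ⊕ Fin k) ⊕ Fin r → W // IsTwoBasis (involForm B n W) b} =
      (if r = 2 then q ^ (2 * k + 1) else 1) * sympOrd q k := by
  obtain ⟨hS, hN, hWd, -⟩ := hn.involForm_props hP hW
  obtain ⟨z, hz⟩ := exists_sqrt_vector hS hN
  rw [card_twoBasis hF hS hN hz (by omega)]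
  have hsum := hb.sum_eq hS hN hz (by omega)
  congr 1
  interval_cases r
  · rw [card_orthonormal_sum_zero (by simpa using hsum.symm)]
    simp
  · rw [card_orthonormal_sum_one (by
      simp only [← hsum, Fin.sum_univ_one]
      simpa using hb.orth 0 0)]
    simp
  · have h00 := hb.orth 0 0
    have h01 := hb.orth 0 1
    have h10 := hb.orth 1 0
    have h11 := hb.orth 1 1
    simp only [if_pos, Fin.reduceEq, if_false] at h00 h01 h10 h11
    rw [card_orthonormal_sum_two hF hS hz (x := b (Sum.inr 0))]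
    · rw [if_pos rfl, show finrank F W - 1 = 2 * k + 1 by omega]
    · simp only [← hsum, Fin.sum_univ_two, map_add, LinearMap.add_apply, h00, h01, h10, h11,
        zero_add, add_zero, CharTwo.add_self_eq_zero]
    · simp only [← hsum, Fin.sum_univ_two, map_add, LinearMap.add_apply, h00, h10, add_zero]

/-- A configuration gives a two-basis. -/
theorem IsAdapted.exists_twoBasis [Finite F] (hP : IsQuadPair B N c) (hn : IsInvolTwo B N c n)
    {W : Submodule F V} (hW : IsCompl W (LinearMap.ker n)) {k r : ℕ}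
    (hdim : finrank F (LinearMap.range n) = 2 * k + r) {f : CfgIdx k r → V}
    (hf : IsAdapted B N c n f) :
    ∃ b : (Fin k ⊕ Fin k) ⊕ Fin r → W, IsTwoBasis (involForm B n W) b := by
  have := Fintype.ofFinite F
  have : Finite V := Module.finite_of_finite F
  obtain ⟨e, he⟩ : ∃ e, (c = 1 ∧ e = 1) ∨ (c = 0 ∧ (∀ x, N x = 0) ∧ e = 0) := by
    rcases hP.cases with h | h
    · exact ⟨1, Or.inl ⟨h, rfl⟩⟩
    · exact ⟨0, Or.inr ⟨h.1, h.2, rfl⟩⟩
  have h := card_adapted rfl hP hn he hW (k := k) (r := r) hdim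
  have h0 : Nat.card {f : CfgIdx k r → V // IsAdapted B N c n f} ≠ 0 :=
    Nat.card_ne_zero.2 ⟨⟨⟨f, hf⟩⟩, inferInstance⟩
  rw [h] at h0
  obtain ⟨⟨b, hb⟩⟩ := (Nat.card_ne_zero.1 (Nat.mul_ne_zero_iff.1 h0).1).1
  exact ⟨b, hb⟩

/-- The centraliser order, with the number of two-bases evaluated. -/
theorem card_involCent' [Fintype F] {q : ℕ} (hF : Fintype.card F = q) (hP : IsQuadPair B N c)
    (hn : IsInvolTwo B N c n) {e : ℕ}
    (he : (c = 1 ∧ e = 1) ∨ (c = 0 ∧ (∀ x, N x = 0) ∧ e = 0)) {k r : ℕ} (hr : r ≤ 2)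
    (hdim : finrank F (LinearMap.range n) = 2 * k + r) {f : CfgIdx k r → V}
    (hf : IsAdapted B N c n f) :
    Nat.card (involCent B N n) *
      Nat.card {u : Fin r → perp B (cfgSpan F f) //
        IsUFam (resForm B (perp B (cfgSpan F f))) (resNorm N _) c u} =
      (if r = 2 then q ^ (2 * k + 1) else 1) * sympOrd q k *
        q ^ (∑ i ∈ Finset.range (k + k), (finrank F (LinearMap.ker n) - i - e)) *
        Nat.card (isomGroup (resForm B (perp B (cfgSpan F f)))
          (resNorm N (perp B (cfgSpan F f)))) := by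
  obtain ⟨W, hW⟩ := Submodule.exists_isCompl (LinearMap.ker n)
  obtain ⟨b, hb⟩ := hf.exists_twoBasis hP hn hW.symm hdim
  rw [card_involCent hF hP hn he hW.symm hdim hf, card_twoBasis_eq hF hP hn hW.symm hr hdim hb]

theorem two_mul_sum_sub (d e : ℕ) : ∀ j, j + e ≤ d + 1 →
    2 * ∑ i ∈ Finset.range j, (d - i - e) + j * j = 2 * (j * (d - e)) + j := by
  intro j
  induction j with
  | zero => simp
  | succ j ih =>
    intro h
    rw [Finset.sum_range_succ, show (j + 1) * (d - e) = j * (d - e) + (d - e) by ring,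
      show (j + 1) * (j + 1) = j * j + 2 * j + 1 by ring]
    have := ih (by omega)
    omega

theorem card_ufam_zero {Y : Type*} [AddCommGroup Y] [Module F Y] (β : LinearMap.BilinForm F Y)
    (M : Y → F) (d : F) : Nat.card {u : Fin 0 → Y // IsUFam β M d u} = 1 := by
  have : Unique {u : Fin 0 → Y // IsUFam β M d u} :=
    { default := ⟨![], linearIndependent_empty_type, fun i => i.elim0, fun i => i.elim0⟩
      uniq := fun u => Subtype.ext (funext fun i => i.elim0) }
  exact Nat.card_unique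

section Alt

variable {Y : Type*} [AddCommGroup Y] [Module F Y] [FiniteDimensional F Y] [Fintype F] {q : ℕ}
  (hF : Fintype.card F = q) {β : LinearMap.BilinForm F Y}
include hF

theorem card_ufam_one_alt (hA : β.IsAlt) :
    Nat.card {u : Fin 1 → Y // IsUFam β (fun _ => (0 : F)) 0 u} = q ^ finrank F Y - 1 := by
  rw [← card_ne_zero_vectors hF]
  exact Nat.card_congr
    { toFun := fun u => ⟨u.1 0, u.2.1.ne_zero 0⟩
      invFun := fun x => ⟨fun _ => x.1, linearIndependent_unique_iff.2 x.2, fun _ _ => hA x.1,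
        fun _ => rfl⟩
      left_inv := fun u => Subtype.ext (funext fun i => by fin_cases i; rfl)
      right_inv := fun x => rfl }

theorem card_ufam_two_alt (hA : β.IsAlt) (hI : IsForm (RingHom.id F) β (fun _ => 0)) :
    Nat.card {u : Fin 2 → Y // IsUFam β (fun _ => (0 : F)) 0 u} =
      (q ^ finrank F Y - 1) * (q ^ (finrank F Y - 1) - q) := by
  have : Finite Y := Module.finite_of_finite F
  classical
  have := Fintype.ofFinite Y
  let S := fun x : {x : Y // x ≠ 0} => {y : Y // β x.1 y = 0 ∧ y ∉ Submodule.span F {x.1}}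
  have heq : {u : Fin 2 → Y // IsUFam β (fun _ => (0 : F)) 0 u} ≃ Σ x : {x : Y // x ≠ 0}, S x :=
    { toFun := fun u => ⟨⟨u.1 0, u.2.1.ne_zero 0⟩, u.1 1, u.2.2.1 0 1, by
        intro h
        obtain ⟨a, ha⟩ := Submodule.mem_span_singleton.1 h
        have h1 := Fintype.linearIndependent_iff.1 u.2.1 ![a, -1] (by
          simp [Fin.sum_univ_two, ha]) 1
        simp at h1⟩
      invFun := fun p => ⟨![p.1.1, p.2.1], (LinearIndependent.pair_iff' p.1.2).2 fun a ha =>
          p.2.2.2 (Submodule.mem_span_singleton.2 ⟨a, ha⟩), fun i j => by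
          fin_cases i <;> fin_cases j <;>
            simp [hA p.1.1, hA p.2.1, p.2.2.1, ← LinearMap.IsAlt.neg hA p.1.1 p.2.1],
        fun _ => rfl⟩
      left_inv := fun u => Subtype.ext (funext fun i => by fin_cases i <;> rfl)
      right_inv := fun p => rfl }
  have hS : ∀ x, Nat.card (S x) = q ^ (finrank F Y - 1) - q := by
    intro x
    have hle : Submodule.span F {x.1} ≤ LinearMap.ker (β x.1) := by
      rw [Submodule.span_singleton_le_iff_mem, LinearMap.mem_ker]; exact hA x.1
    obtain ⟨d, hd⟩ := hI.exists_pairing x.2 1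
    have h2 : finrank F (LinearMap.ker (β x.1)) = finrank F Y - 1 := by
      have h1 := LinearMap.finrank_range_add_finrank_ker (β x.1)
      rw [LinearMap.range_eq_top.2 fun a => ⟨a • d, by simp [hd]⟩, finrank_top, finrank_self] at h1
      omega
    have h3 : Nat.card (LinearMap.ker (β x.1)) = Nat.card (Submodule.span F {x.1}) + Nat.card (S x) := by
      rw [← Nat.card_sum]
      refine Nat.card_congr
        { toFun := fun y => if h : (y : Y) ∈ Submodule.span F {x.1} then Sum.inl ⟨y, h⟩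
            else Sum.inr ⟨y, LinearMap.mem_ker.1 y.2, h⟩
          invFun := Sum.elim (fun y => ⟨y, hle y.2⟩) (fun y => ⟨y.1, LinearMap.mem_ker.2 y.2.1⟩)
          left_inv := fun y => by by_cases h : (y : Y) ∈ Submodule.span F {x.1} <;> simp [h]
          right_inv := by rintro (y | y) <;> simp [y.2] }
    rw [natCard_eq_pow hF, natCard_eq_pow hF, h2, finrank_span_singleton x.2, pow_one] at h3
    omega
  rw [Nat.card_congr heq, Nat.card_sigma, Finset.sum_congr rfl fun x _ => hS x, Finset.sum_const,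
    Finset.card_univ, ← Nat.card_eq_fintype_card, card_ne_zero_vectors hF, smul_eq_mul]

end Alt

/-! ### The symplectic group -/

section Sp

variable {m : ℕ}

theorem isQuadPair_sympB : IsQuadPair (sympB m F) (fun _ => 0) (0 : F) :=
  isQuadPair_symp sympB_isAlt isForm_symp

/-- `t - 1` as a linear map. -/
def spNil (t : Matrix.symplecticGroup (Fin m) F) :
    (Fin m ⊕ Fin m → F) →ₗ[F] (Fin m ⊕ Fin m → F) :=
  Matrix.mulVecLin ((t : Matrix (Fin m ⊕ Fin m) (Fin m ⊕ Fin m) F) - 1)

theorem spNil_apply (t : Matrix.symplecticGroup (Fin m) F) (v : Fin m ⊕ Fin m → F) :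
    spNil t v = (spEquiv m F t : (Fin m ⊕ Fin m → F) ≃ₗ[F] _) v - v := by
  simp [spNil, Matrix.sub_mulVec]

theorem spNil_rank (t : Matrix.symplecticGroup (Fin m) F) :
    finrank F (LinearMap.range (spNil t)) =
      ((t : Matrix (Fin m ⊕ Fin m) (Fin m ⊕ Fin m) F) - 1).rank := rfl

theorem nil_isInvol (hP : IsQuadPair B N c)
    (g : isomGroup B N) (h2 : ∀ v, (g : V ≃ₗ[F] V) ((g : V ≃ₗ[F] V) v) = v) :
    IsInvolTwo B N c (((g : V ≃ₗ[F] V) : V →ₗ[F] V) - LinearMap.id) := by
  have hadj : ∀ u v, B ((g : V ≃ₗ[F] V) u) v = B u ((g : V ≃ₗ[F] V) v) := fun u v => by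
    nth_rw 1 [← h2 v]
    exact g.2.1 _ _
  have h2V : ∀ x : V, x + x = 0 := fun x => by
    rw [← two_smul F x, two_eq_zero_of_charTwo, zero_smul]
  refine ⟨fun v => ?_, fun u v => ?_, fun v => ?_⟩
  · simp only [LinearMap.sub_apply, LinearEquiv.coe_coe, LinearMap.id_apply, map_sub, h2]
    have := h2V (v - (g : V ≃ₗ[F] V) v)
    rw [← this]; abel
  · simp [hadj u v]
  · have h3 : (((g : V ≃ₗ[F] V) : V →ₗ[F] V) - LinearMap.id : V →ₗ[F] V) v =
        (g : V ≃ₗ[F] V) v + v := by
      simp only [LinearMap.sub_apply, LinearEquiv.coe_coe, LinearMap.id_apply]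
      rw [sub_eq_add_neg, ← neg_one_smul F v, CharTwo.neg_eq, one_smul]
    rw [h3, hP.add, g.2.2, CharTwo.add_self_eq_zero, zero_add, map_add, hP.alt v, add_zero,
      hP.symm]

theorem sp_isInvol (t : Matrix.symplecticGroup (Fin m) F) (ht : t ^ 2 = 1) :
    IsInvolTwo (sympB m F) (fun _ => 0) 0 (spNil t) := by
  have h : spNil t = ((spEquiv m F t : (Fin m ⊕ Fin m → F) ≃ₗ[F] (Fin m ⊕ Fin m → F)) :
      (Fin m ⊕ Fin m → F) →ₗ[F] (Fin m ⊕ Fin m → F)) - LinearMap.id :=
    LinearMap.ext fun v => spNil_apply t v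
  rw [h]
  refine nil_isInvol isQuadPair_sympB (spEquiv m F t) fun v => ?_
  have h1 := congrArg (fun s => (spEquiv m F s : (Fin m ⊕ Fin m → F) ≃ₗ[F] (Fin m ⊕ Fin m → F)) v) ht
  simp only [sq, map_mul, map_one] at h1
  exact h1

theorem sp_alt_iff (t : Matrix.symplecticGroup (Fin m) F) :
    IsAltInvol (sympB m F) (spNil t) ↔ ∀ v : Fin m ⊕ Fin m → F,
      Cfsg.sympForm m F v ((t : Matrix (Fin m ⊕ Fin m) (Fin m ⊕ Fin m) F).mulVec v) = 0 := by
  refine forall_congr' fun v => ?_
  rw [← sympB_apply, spNil_apply, map_sub, sympB_isAlt v, sub_zero]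
  rfl

theorem commute_iff_involCent (t g : Matrix.symplecticGroup (Fin m) F) :
    g * t = t * g ↔ spEquiv m F g ∈ involCent (sympB m F) (fun _ => 0) (spNil t) := by
  rw [← (spEquiv m F).injective.eq_iff, map_mul, map_mul, mem_involCent]
  constructor
  · intro h v
    have h1 := congrArg (fun s : isomGroup (sympB m F) (fun _ => (0 : F)) =>
      (s : (Fin m ⊕ Fin m → F) ≃ₗ[F] (Fin m ⊕ Fin m → F)) v) h
    rw [spNil_apply, spNil_apply, map_sub]
    exact congrArg (· - _) h1
  · intro h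
    refine Subtype.ext (LinearEquiv.ext fun v => ?_)
    have h1 := h v
    rw [spNil_apply, spNil_apply, map_sub] at h1
    exact sub_left_injective h1

theorem card_centralizer_eq (t : Matrix.symplecticGroup (Fin m) F) :
    Nat.card ↥(Subgroup.centralizer ({t} : Set ↥(Matrix.symplecticGroup (Fin m) F))) =
      Nat.card (involCent (sympB m F) (fun _ => 0) (spNil t)) := by
  refine Nat.card_congr (subgroupEquivOfIff (spEquiv m F) _ _ fun g => ?_).toEquiv
  rw [Subgroup.mem_centralizer_singleton_iff, commute_iff_involCent]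

/-- The centraliser of an involution of `Sp_{2m}(q)` of type `(k, r)`. -/
theorem card_involCent_sp [Fintype F] {q : ℕ} (hF : Fintype.card F = q)
    {n : (Fin m ⊕ Fin m → F) →ₗ[F] (Fin m ⊕ Fin m → F)}
    (hn : IsInvolTwo (sympB m F) (fun _ => 0) 0 n) {k r : ℕ} (hr : r ≤ 2)
    (hdim : finrank F (LinearMap.range n) = 2 * k + r) {f : CfgIdx k r → (Fin m ⊕ Fin m → F)}
    (hf : IsAdapted (sympB m F) (fun _ => 0) 0 n f) :
    ∃ D S U : ℕ, D + 4 * k = 2 * m ∧ 2 * k + r ≤ m ∧
      2 * S + (2 * k) * (2 * k) = 2 * (2 * k * (2 * m - (2 * k + r))) + 2 * k ∧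
      Nat.card (involCent (sympB m F) (fun _ => 0) n) * U =
        (if r = 2 then q ^ (2 * k + 1) else 1) * sympOrd q k * q ^ S * sympOrd q (D / 2) ∧
      (r = 0 → U = 1) ∧ (r = 1 → U = q ^ D - 1) ∧
      (r = 2 → U = (q ^ D - 1) * (q ^ (D - 1) - q)) := by
  have hP : IsQuadPair (sympB m F) (fun _ => 0) (0 : F) := isQuadPair_sympB
  have hV : finrank F (Fin m ⊕ Fin m → F) = 2 * m := by simp [two_mul]
  have hD := hf.toIsCfg.finrank_perp_add hP
  rw [hV] at hD
  have hle := hn.two_mul_rank_le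
  have hker := hn.finrank_ker
  rw [hV] at hle hker
  have hI := hP.form.restrict (hP.form.perp_nondeg (hf.toIsCfg.pairs_nondeg hP))
  have hA : LinearMap.BilinForm.IsAlt (resForm (sympB m F) (perp (sympB m F) (cfgSpan F f))) :=
    fun x => sympB_isAlt (x : Fin m ⊕ Fin m → F)
  obtain ⟨l, hl, hcard⟩ := card_isom_alt hF hI
  refine ⟨_, ∑ i ∈ Finset.range (k + k), (finrank F (LinearMap.ker n) - i - 0), _, hD, by omega,
    ?_, (card_involCent' hF hP hn (Or.inr ⟨rfl, fun _ => rfl, rfl⟩) hr hdim hf).trans ?_,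
    fun h => ?_, fun h => ?_, fun h => ?_⟩
  · have h1 := two_mul_sum_sub (finrank F (LinearMap.ker n)) 0 (k + k) (by omega)
    rw [Nat.sub_zero, ← two_mul] at h1
    rw [← two_mul, h1, show finrank F (LinearMap.ker n) = 2 * m - (2 * k + r) by omega]
  · congr 1
    rw [hl, Nat.mul_div_cancel_left _ (by omega), sympOrd]
    exact hcard
  · subst h; exact card_ufam_zero _ _ _
  · subst h; exact card_ufam_one_alt hF hA
  · subst h; exact card_ufam_two_alt hF hA hI

end Sp

end Cfsg.Agent.Forms
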