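import Cfsg.Agent.Forms.PrimeGraphTools

/-!
# The prime graphs of `PΩ_{2n+1}(q)` and `PSp_{2n}(q)`, `q` odd, coincide
-/

set_option autoImplicit false
set_option linter.unusedSectionVars false

namespace Cfsg.Agent.Forms

open Module Matrix
open LinearMap (BilinForm)

variable {F : Type*} [Field F]

/-- Membership in the centraliser of one map. -/
theorem mem_cent {V : Type*} [AddCommGroup V] [Module F V] {x g : V ≃ₗ[F] V}
    (h : ∀ v, g (x v) = x (g v)) : g ∈ Subgroup.centralizer ({x} : Set (V ≃ₗ[F] V)) :=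
  Subgroup.mem_centralizer_singleton_iff.2 (LinearEquiv.ext h)

theorem eq_one_of_fix {V : Type*} [AddCommGroup V] [Module F V] {X Y : Submodule F V}
    (h : X ⊔ Y = ⊤) {g : V ≃ₗ[F] V} (hX : ∀ x ∈ X, g x = x) (hY : ∀ y ∈ Y, g y = y) : g = 1 := by
  refine LinearEquiv.ext fun v => ?_
  obtain ⟨a, ha, b, hb, rfl⟩ := Submodule.mem_sup.1 (show v ∈ X ⊔ Y by rw [h]; trivial)
  rw [map_add, hX a ha, hY b hb]
  rfl

theorem pow_fix_pos {V : Type*} [AddCommGroup V] [Module F V] (x : V ≃ₗ[F] V) (k : ℕ) {u : V}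
    (hu : u ∈ posSpace x) : (x ^ k) u = u := by
  induction k with
  | zero => rfl
  | succ k ih => rw [pow_succ', LinearEquiv.mul_apply, ih]; exact hu

theorem movedRes_self_order {V : Type*} [AddCommGroup V] [Module F V] (x : V ≃ₗ[F] V)
    (hsup : posSpace x ⊔ movedSpace x = ⊤) :
    orderOf (movedRes x ⟨x, mem_cent fun _ => rfl⟩) = orderOf x := by
  refine Nat.dvd_antisymm ?_ ?_
  · refine (orderOf_map_dvd _ _).trans (dvd_of_eq ?_)
    exact (Subgroup.orderOf_coe (⟨x, mem_cent fun _ => rfl⟩ :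
      Subgroup.centralizer ({x} : Set (V ≃ₗ[F] V)))).symm
  · refine orderOf_dvd_of_pow_eq_one (eq_one_of_fix hsup (fun u hu => pow_fix_pos x _ hu)
      fun w hw => ?_)
    have h := LinearEquiv.congr_fun
      (pow_orderOf_eq_one (movedRes x ⟨x, mem_cent fun _ => rfl⟩)) ⟨w, hw⟩
    rw [← map_pow] at h
    exact congrArg Subtype.val h

theorem movedRes_order {V : Type*} [AddCommGroup V] [Module F V] (x : V ≃ₗ[F] V)
    (g : Subgroup.centralizer ({x} : Set (V ≃ₗ[F] V))) {r : ℕ} (hr : r.Prime)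
    (hg : (g : V ≃ₗ[F] V) ^ r = 1) {w : V} (hw : w ∈ movedSpace x)
    (hne : (g : V ≃ₗ[F] V) w ≠ w) : orderOf (movedRes x g) = r := by
  have : Fact r.Prime := ⟨hr⟩
  refine orderOf_eq_prime ?_ fun h => hne ?_
  · rw [← map_pow, show g ^ r = 1 from Subtype.ext hg, map_one]
  · exact congrArg Subtype.val (LinearEquiv.congr_fun h ⟨w, hw⟩)

theorem orderOf_inl_pair {G H : Type*} [Group G] [Group H] (g : G) :
    orderOf ((g, 1) : G × H) = orderOf g := by
  rw [Prod.orderOf_mk, orderOf_one, Nat.lcm_one_right]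

theorem orderOf_inr_pair {G H : Type*} [Group G] [Group H] (g : H) :
    orderOf ((1, g) : G × H) = orderOf g := by
  rw [Prod.orderOf_mk, orderOf_one, Nat.lcm_one_left]

section Sides

variable [Fintype F] {n : ℕ} {B : BilinForm F (Fin (n + n) → F)} {x : (Fin (n + n) → F) ≃ₗ[F] (Fin (n + n) → F)}
  {N : ℕ}

/-- From the symplectic side: the orthogonal home of the moved space. -/
theorem sp_to_orth_data (h2 : (2 : F) ≠ 0) (hA : B.IsAlt) (hB : B.Nondegenerate)
    (hx : ∀ u v, B (x u) (x v) = B u v) (hxN : x ^ N = 1) (hN : Odd N) (hNF : (N : F) ≠ 0) :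
    posSpace x ⊔ movedSpace x = ⊤ ∧ Even (finrank F (movedSpace x)) ∧
    ∃ (j : ℕ) (β₀ : BilinForm F (Fin (j + 1) → F))
      (e : (movedSpace x × (Fin (j + 1) → F)) ≃ₗ[F] (Unit ⊕ (Fin n ⊕ Fin n) → F)),
      finrank F (movedSpace x) + (j + 1) = 2 * n + 1 ∧ β₀.IsSymm ∧ β₀.Nondegenerate ∧
        ∀ p p', QuadraticMap.polar (qOdd n F) (e p) (e p') =
          twistForm B x p.1 p'.1 + β₀ p.2 p'.2 := by
  have hr : ∀ u v, B u v = 0 → B v u = 0 := fun u v h => by
    rw [← LinearMap.IsAlt.neg hA, h, neg_zero]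
  have hWe : Even (finrank F (movedSpace x)) :=
    alt_finrank_even (B := B.restrict (movedSpace x)) (fun v => hA (v : Fin (n + n) → F))
      fun v hv => Subtype.ext (moved_nondeg hB.1 hr hx hxN hNF v.2 fun y hy => hv ⟨y, hy⟩)
  have hS := twistForm_isSymm hx hA
  have hn := twistForm_left_nondeg hx hB.1 hr hxN hNF hN
  have hle := Submodule.finrank_le (movedSpace x)
  rw [Module.finrank_fin_fun] at hle
  have hd : finrank F (Unit ⊕ (Fin n ⊕ Fin n) → F) = 2 * n + 1 := by simp; omega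
  obtain ⟨β₀, e, hS₀, hn₀, he⟩ := exists_glue_symm (j := 2 * n - finrank F (movedSpace x)) h2 hS
    ⟨hn, fun y hy => hn y fun z => by rw [hS.eq]; exact hy z⟩
    (polarBilin_isSymm (qOdd n F)) (qOdd_nondegenerate h2) (by rw [hd]; omega)
  exact ⟨sup_pos_moved hxN hNF, hWe, _, β₀, e, by omega, hS₀, hn₀, fun p p' => he p p'⟩

variable {y : (Unit ⊕ (Fin n ⊕ Fin n) → F) ≃ₗ[F] (Unit ⊕ (Fin n ⊕ Fin n) → F)}

/-- From the orthogonal side: the symplectic home of the moved space. -/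
theorem orth_to_sp_data (h2 : (2 : F) ≠ 0) (hA : B.IsAlt) (hB : B.Nondegenerate)
    (hy : y ∈ orthGroup (qOdd n F)) (hyN : y ^ N = 1) (hN : Odd N) (hNF : (N : F) ≠ 0) :
    posSpace y ⊔ movedSpace y = ⊤ ∧
    ∃ (j : ℕ) (β₀ : BilinForm F (Fin (j + j) → F))
      (e : (movedSpace y × (Fin (j + j) → F)) ≃ₗ[F] (Fin (n + n) → F)),
      finrank F (movedSpace y) + (j + j) = n + n ∧ β₀.IsAlt ∧ β₀.Nondegenerate ∧
        ∀ p p', B (e p) (e p') =
          twistForm (QuadraticMap.polarBilin (qOdd n F)) y p.1 p'.1 + β₀ p.2 p'.2 := by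
  have hQ := qOdd_nondegenerate (F := F) (m := n) h2
  have hr : ∀ u v, QuadraticMap.polarBilin (qOdd n F) u v = 0 →
      QuadraticMap.polarBilin (qOdd n F) v u = 0 := fun u v h => by
    rw [QuadraticMap.polarBilin_apply_apply, QuadraticMap.polar_comm]; exact h
  have hA' := twistForm_isAlt hy.1 fun u v => QuadraticMap.polar_comm (qOdd n F) u v
  have hn := twistForm_left_nondeg hy.1 hQ.1 hr hyN hNF hN
  obtain ⟨k, hk⟩ := alt_finrank_even hA' hn
  have hle := Submodule.finrank_le (movedSpace y)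
  rw [Module.finrank_fintype_fun_eq_card, Fintype.card_sum, Fintype.card_sum, Fintype.card_fin,
    Fintype.card_unit] at hle
  obtain ⟨β₀, e, hA₀, hn₀, he⟩ := exists_glue_alt (j := n - k) hA' hn hA hB (by omega)
  exact ⟨sup_pos_moved hyN hNF, _, β₀, e, by omega, hA₀, hn₀, he⟩

/-- Elements built on the orthogonal side. -/
theorem glue_mem_orth (h2 : (2 : F) ≠ 0) {k : ℕ} {β₀ : BilinForm F (Fin k → F)}
    (e : (movedSpace x × (Fin k → F)) ≃ₗ[F] (Unit ⊕ (Fin n ⊕ Fin n) → F))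
    (he : ∀ p p', QuadraticMap.polar (qOdd n F) (e p) (e p') =
      twistForm B x p.1 p'.1 + β₀ p.2 p'.2)
    (g : Subgroup.centralizer ({x} : Set ((Fin (n + n) → F) ≃ₗ[F] (Fin (n + n) → F))))
    (hg : ∀ u v, B (g.1 u) (g.1 v) = B u v)
    (u : (Fin k → F) ≃ₗ[F] (Fin k → F)) (hu : ∀ a b, β₀ (u a) (u b) = β₀ a b) :
    prodGlue e (movedRes x g, u) ∈ orthGroup (qOdd n F) :=
  orth_of_polar h2 (prodGlue_preserves (B' := QuadraticMap.polarBilin (qOdd n F)) e he _
    (fun a b => twistForm_preserves hg (fun v => LinearEquiv.congr_fun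
      (Subgroup.mem_centralizer_singleton_iff.1 g.2) v) a b _ _ rfl rfl) hu)

/-- Elements built on the symplectic side. -/
theorem glue_mem_alt {k : ℕ} {β₀ : BilinForm F (Fin k → F)}
    (e : (movedSpace y × (Fin k → F)) ≃ₗ[F] (Fin (n + n) → F))
    (he : ∀ p p', B (e p) (e p') =
      twistForm (QuadraticMap.polarBilin (qOdd n F)) y p.1 p'.1 + β₀ p.2 p'.2)
    (g : Subgroup.centralizer
      ({y} : Set ((Unit ⊕ (Fin n ⊕ Fin n) → F) ≃ₗ[F] (Unit ⊕ (Fin n ⊕ Fin n) → F))))
    (hg : g.1 ∈ orthGroup (qOdd n F))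
    (u : (Fin k → F) ≃ₗ[F] (Fin k → F)) (hu : ∀ a b, β₀ (u a) (u b) = β₀ a b) :
    prodGlue e (movedRes y g, u) ∈ altGroup B :=
  ⟨prodGlue_preserves e he _ (fun a b => twistForm_preserves hg.1 (fun v => LinearEquiv.congr_fun
      (Subgroup.mem_centralizer_singleton_iff.1 g.2) v) a b _ _ rfl rfl) hu, fun _ => rfl⟩

end Sides

section Cases

variable [Fintype F] {n : ℕ} {B : BilinForm F (Fin (n + n) → F)} (h2 : (2 : F) ≠ 0) (hn : 3 ≤ n)
  (hA : B.IsAlt) (hB : B.Nondegenerate) {G : Type*} [Group G] (π : altGroup B →* G)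
  (hπs : Function.Surjective π)
  (hπ : ∀ g : altGroup B, π g = 1 ↔
    ∃ c : F, ∀ x, (g : (Fin (n + n) → F) ≃ₗ[F] (Fin (n + n) → F)) x = c • x)
  (hc : ∀ (g : altGroup B) (c : F),
    (∀ x, (g : (Fin (n + n) → F) ≃ₗ[F] (Fin (n + n) → F)) x = c • x) → c * c = 1)

include h2 hn hA hB hπs hπ hc

set_option quotPrecheck false in
local notation "Ω" => ↥(commutator (orthGroup (qOdd n F)))

theorem two_le_dim_odd : 2 ≤ finrank F (Unit ⊕ (Fin n ⊕ Fin n) → F) := by simp; omega

/-- Odd orders prime to the characteristic. -/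
theorem case_odd {N : ℕ} (hN : Odd N) (hNF : (N : F) ≠ 0) :
    N ∈ Set.range (orderOf : Ω → ℕ) ↔ N ∈ Set.range (orderOf : G → ℕ) := by
  constructor
  · rintro ⟨⟨⟨y, hy⟩, hyΩ⟩, hord⟩
    rw [← Subgroup.orderOf_coe, ← Subgroup.orderOf_coe] at hord
    change orderOf y = N at hord
    obtain ⟨hsup, j, β₀, e, -, hA₀, -, he⟩ :=
      orth_to_sp_data h2 hA hB hy (by rw [← hord, pow_orderOf_eq_one]) hN hNF
    let g : altGroup B := ⟨_, glue_mem_alt e he ⟨y, mem_cent fun _ => rfl⟩ hy 1 fun _ _ => rfl⟩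
    have hg : orderOf g = N := by
      rw [← Subgroup.orderOf_coe, ← hord, ← movedRes_self_order y hsup]
      exact (orderOf_injective _ (prodGlue_injective e) _).trans (orderOf_inl_pair _)
    refine ⟨π g, Nat.dvd_antisymm (hg ▸ orderOf_map_dvd π g) ?_⟩
    obtain ⟨c, hcg⟩ := (hπ (g ^ orderOf (π g))).1 (by rw [map_pow, pow_orderOf_eq_one])
    have h1 : g ^ (2 * orderOf (π g)) = 1 := by
      rw [mul_comm, pow_mul, pow_two]
      exact alt_ext fun v => by
        rw [alt_mul_apply, hcg, hcg, smul_smul, hc _ c hcg, one_smul]; rfl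
    exact (Nat.coprime_two_right.2 hN).dvd_of_dvd_mul_left (hg ▸ orderOf_dvd_of_pow_eq_one h1)
  · rintro ⟨h, hord⟩
    obtain ⟨g, -, hg⟩ := sp_odd_lift π hπ hc hπs hN h hord
    have hgN : (g : (Fin (n + n) → F) ≃ₗ[F] (Fin (n + n) → F)) ^ N = 1 := by
      rw [← hg, ← Subgroup.orderOf_coe, pow_orderOf_eq_one]
    obtain ⟨hsup, -, j, β₀, e, -, hS₀, -, he⟩ := sp_to_orth_data h2 hA hB g.2.1 hgN hN hNF
    let y : orthGroup (qOdd n F) :=
      ⟨_, glue_mem_orth h2 e he ⟨g.1, mem_cent fun _ => rfl⟩ g.2.1 1 fun _ _ => rfl⟩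
    have hy : orderOf y = N := by
      rw [← Subgroup.orderOf_coe, ← hg, ← Subgroup.orderOf_coe g, ← movedRes_self_order g.1 hsup]
      exact (orderOf_injective _ (prodGlue_injective e) _).trans (orderOf_inl_pair _)
    refine ⟨⟨y, odd_mem_commutator h2 (qOdd_nondegenerate h2)
      (two_le_dim_odd h2 hn hA hB π hπs hπ hc) y hN (by rw [← hy, pow_orderOf_eq_one])⟩, ?_⟩
    rw [← Subgroup.orderOf_coe]
    exact hy

/-- The characteristic and an odd prime. -/
theorem case_char {p : ℕ} [hp : Fact p.Prime] [CharP F p] {s : ℕ} (hs : s.Prime) (hs2 : s ≠ 2)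
    (hsp : s ≠ p) : HasPair Ω p s ↔ HasPair G p s := by
  have hp2 : p ≠ 2 := by
    rintro rfl
    exact h2 (by exact_mod_cast CharP.cast_eq_zero F 2)
  have hpodd := hp.out.odd_of_ne_two hp2
  have hsodd := hs.odd_of_ne_two hs2
  have hsF : (s : F) ≠ 0 := fun h =>
    hsp ((Nat.prime_dvd_prime_iff_eq hp.out hs).1 ((CharP.cast_eq_zero_iff F p s).1 h)).symm
  have hdim := two_le_dim_odd h2 hn hA hB π hπs hπ hc
  have hQ := qOdd_nondegenerate (F := F) (m := n) h2
  constructor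
  · rintro ⟨⟨⟨a, ha⟩, haΩ⟩, ⟨⟨x, hx⟩, hxΩ⟩, hcomm, hoa, hox⟩
    rw [← Subgroup.orderOf_coe, ← Subgroup.orderOf_coe] at hoa hox
    change orderOf a = p at hoa
    change orderOf x = s at hox
    have hax : ∀ v, a (x v) = x (a v) := fun v =>
      congrArg (fun k : Ω => ((k : orthGroup (qOdd n F)) :
        (Unit ⊕ (Fin n ⊕ Fin n) → F) ≃ₗ[F] (Unit ⊕ (Fin n ⊕ Fin n) → F)) v) hcomm.eq
    obtain ⟨hsup, j, β₀, e, hj, hA₀, hn₀, he⟩ :=
      orth_to_sp_data h2 hA hB hx (by rw [← hox, pow_orderOf_eq_one]) hsodd hsF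
    let xS : altGroup B := ⟨_, glue_mem_alt e he ⟨x, mem_cent fun _ => rfl⟩ hx 1 fun _ _ => rfl⟩
    have hxS : orderOf (xS : (Fin (n + n) → F) ≃ₗ[F] (Fin (n + n) → F)) = s := by
      rw [← hox, ← movedRes_self_order x hsup]
      exact (orderOf_injective _ (prodGlue_injective e) _).trans (orderOf_inl_pair _)
    have key : ∀ uS : altGroup B, orderOf (uS : (Fin (n + n) → F) ≃ₗ[F] (Fin (n + n) → F)) = p →
        Commute uS xS → HasPair G p s := fun uS hu hcm =>
      ⟨π uS, π xS, hcm.map π, sp_image_order_odd π hπ hc hp.out hp2 hu,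
        sp_image_order_odd π hπ hc hs hs2 hxS⟩
    by_cases hw : ∃ w ∈ movedSpace x, a w ≠ w
    · obtain ⟨w, hw, hne⟩ := hw
      refine key ⟨_, glue_mem_alt e he ⟨a, mem_cent hax⟩ ha 1 fun _ _ => rfl⟩ ?_ ?_
      · refine (orderOf_injective _ (prodGlue_injective e) _).trans ((orderOf_inl_pair _).trans ?_)
        exact movedRes_order x _ hp.out (by rw [← hoa, pow_orderOf_eq_one]) hw hne
      · refine Subtype.ext ?_
        refine (Commute.map (Prod.ext ?_ rfl : Commute (movedRes x ⟨a, mem_cent hax⟩,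
          (1 : (Fin (j + j) → F) ≃ₗ[F] _)) (movedRes x ⟨x, mem_cent fun _ => rfl⟩, 1))
          (prodGlue e)).eq
        exact ((show Commute (⟨a, mem_cent hax⟩ :
          Subgroup.centralizer ({x} : Set ((Unit ⊕ (Fin n ⊕ Fin n) → F) ≃ₗ[F] (Unit ⊕ (Fin n ⊕ Fin n) → F))))
          ⟨x, mem_cent fun _ => rfl⟩ from
          Subtype.ext (LinearEquiv.ext hax)).map (movedRes x)).eq
    push Not at hw
    have hj1 : 1 ≤ j := by
      by_contra hj0
      have hU : finrank F (posSpace x) = 1 := by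
        have h1 := Submodule.finrank_add_eq_of_isCompl (isCompl_pos_moved hQ.1 (fun u v h => by
          rw [QuadraticMap.polarBilin_apply_apply, QuadraticMap.polar_comm]; exact h) hx.1
          (by rw [← hox, pow_orderOf_eq_one]) hsF)
        rw [Module.finrank_fintype_fun_eq_card, Fintype.card_sum, Fintype.card_sum,
          Fintype.card_fin, Fintype.card_unit] at h1
        omega
      obtain ⟨⟨u, hu⟩, hu0, hspan⟩ := finrank_eq_one_iff'.1 hU
      have hau : a u ∈ posSpace x := by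
        change x (a u) = a u
        rw [← hax, show x u = u from hu]
      obtain ⟨c, hcu⟩ := hspan ⟨a u, hau⟩
      replace hcu : c • u = a u := congrArg Subtype.val hcu
      have hpw : ∀ i : ℕ, (a ^ i) u = c ^ i • u := by
        intro i
        induction i with
        | zero => simp
        | succ i ih =>
          rw [pow_succ', LinearEquiv.mul_apply, ih, map_smul, ← hcu, smul_smul, pow_succ]
      have hu0' : u ≠ 0 := fun h => hu0 (Subtype.ext h)
      have hc1 : c = 1 := by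
        have h3 := hpw p
        rw [← hoa, pow_orderOf_eq_one, hoa, LinearEquiv.coe_one, id] at h3
        refine frobenius_inj F p ?_
        rw [frobenius_def, frobenius_def, one_pow]
        have h4 : (c ^ p - 1) • u = 0 := by rw [sub_smul, one_smul, ← h3, sub_self]
        exact sub_eq_zero.1 ((smul_eq_zero.1 h4).resolve_right hu0')
      have ha1 : a = 1 := eq_one_of_fix hsup (fun v hv => by
        obtain ⟨d, hd⟩ := hspan ⟨v, hv⟩
        replace hd : d • u = v := congrArg Subtype.val hd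
        rw [← hd, map_smul, ← hcu, hc1, one_smul]) hw
      rw [ha1, orderOf_one] at hoa
      exact hp.out.one_lt.ne hoa
    obtain ⟨u, hu, hou⟩ := exists_alt_char_order (p := p) hA₀ hn₀
      (by rw [Module.finrank_fin_fun]; omega)
    refine key ⟨prodGlue e (1, u), prodGlue_preserves e he _ (fun _ _ => rfl) hu, fun _ => rfl⟩
      ((orderOf_injective _ (prodGlue_injective e) _).trans ((orderOf_inr_pair _).trans hou))
      (Subtype.ext ?_)
    exact (Commute.map (Prod.ext ((one_mul _).trans (mul_one _).symm)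
      ((mul_one _).trans (one_mul _).symm) : Commute ((1 : movedSpace x ≃ₗ[F] movedSpace x), u)
        (movedRes x ⟨x, mem_cent fun _ => rfl⟩, 1)) (prodGlue e)).eq
  · rintro ⟨a₁, b₁, hcomm, hoa₁, hob₁⟩
    obtain ⟨g, -, hg⟩ := sp_odd_lift π hπ hc hπs (hpodd.mul hsodd) (a₁ * b₁) (by
      rw [hcomm.orderOf_mul_eq_mul_orderOf_of_coprime
        (by rw [hoa₁, hob₁]; exact (Nat.coprime_primes hp.out hs).2 hsp.symm), hoa₁, hob₁])
    rw [← Subgroup.orderOf_coe] at hg
    set gv := (g : (Fin (n + n) → F) ≃ₗ[F] (Fin (n + n) → F))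
    set x := gv ^ p with hxd
    set a := gv ^ s with had
    have hox : orderOf x = s := by
      rw [hxd, orderOf_pow_of_dvd hp.out.ne_zero (hg ▸ dvd_mul_right p s), hg,
        Nat.mul_div_cancel_left _ hp.out.pos]
    have hoa : orderOf a = p := by
      rw [had, orderOf_pow_of_dvd hs.ne_zero (hg ▸ dvd_mul_left s p), hg,
        Nat.mul_div_cancel _ hs.pos]
    have hxB : x ∈ altGroup B := pow_mem g.2 p
    have haB : a ∈ altGroup B := pow_mem g.2 s
    have hax : ∀ v, a (x v) = x (a v) := fun v =>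
      LinearEquiv.congr_fun (Commute.pow_pow_self gv s p).eq v
    obtain ⟨hsup, hev, j, β₀, e, hj, hS₀, hn₀, he⟩ :=
      sp_to_orth_data h2 hA hB hxB.1 (by rw [← hox, pow_orderOf_eq_one]) hsodd hsF
    let xO : orthGroup (qOdd n F) :=
      ⟨_, glue_mem_orth h2 e he ⟨x, mem_cent fun _ => rfl⟩ hxB.1 1 fun _ _ => rfl⟩
    have hxO : orderOf (xO : (Unit ⊕ (Fin n ⊕ Fin n) → F) ≃ₗ[F] (Unit ⊕ (Fin n ⊕ Fin n) → F)) = s := by
      rw [← hox, ← movedRes_self_order x hsup]
      exact (orderOf_injective _ (prodGlue_injective e) _).trans (orderOf_inl_pair _)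
    have key : ∀ uO : orthGroup (qOdd n F),
        orderOf (uO : (Unit ⊕ (Fin n ⊕ Fin n) → F) ≃ₗ[F] (Unit ⊕ (Fin n ⊕ Fin n) → F)) = p →
        Commute uO xO → HasPair Ω p s := fun uO hu hcm =>
      omega_pair
        (odd_mem_commutator h2 hQ hdim uO hpodd
          (by rw [← hu, Subgroup.orderOf_coe, pow_orderOf_eq_one]))
        (odd_mem_commutator h2 hQ hdim xO hsodd
          (by rw [← hxO, Subgroup.orderOf_coe, pow_orderOf_eq_one]))
        (fun v => congrArg (fun k : orthGroup (qOdd n F) =>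
          (k : (Unit ⊕ (Fin n ⊕ Fin n) → F) ≃ₗ[F] (Unit ⊕ (Fin n ⊕ Fin n) → F)) v) hcm.eq) hu hxO
    by_cases hw : ∃ w ∈ movedSpace x, a w ≠ w
    · obtain ⟨w, hw, hne⟩ := hw
      refine key ⟨_, glue_mem_orth h2 e he ⟨a, mem_cent hax⟩ haB.1 1 fun _ _ => rfl⟩ ?_ ?_
      · refine (orderOf_injective _ (prodGlue_injective e) _).trans ((orderOf_inl_pair _).trans ?_)
        exact movedRes_order x _ hp.out (by rw [← hoa, pow_orderOf_eq_one]) hw hne
      · refine Subtype.ext ?_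
        refine (Commute.map (Prod.ext ?_ rfl : Commute (movedRes x ⟨a, mem_cent hax⟩,
          (1 : (Fin (j + 1) → F) ≃ₗ[F] _)) (movedRes x ⟨x, mem_cent fun _ => rfl⟩, 1))
          (prodGlue e)).eq
        exact ((show Commute (⟨a, mem_cent hax⟩ :
          Subgroup.centralizer ({x} : Set ((Fin (n + n) → F) ≃ₗ[F] (Fin (n + n) → F))))
          ⟨x, mem_cent fun _ => rfl⟩ from
          Subtype.ext (LinearEquiv.ext hax)).map (movedRes x)).eq
    push Not at hw
    have hlt : finrank F (movedSpace x) ≠ n + n := by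
      intro h
      have htop : movedSpace x = ⊤ :=
        Submodule.eq_top_of_finrank_eq (by rw [h, Module.finrank_fin_fun])
      have ha1 : a = 1 := LinearEquiv.ext fun v => hw v (htop ▸ Submodule.mem_top)
      rw [ha1, orderOf_one] at hoa
      exact hp.out.one_lt.ne hoa
    have hj2 : 2 ≤ j := by
      obtain ⟨k, hk⟩ := hev
      omega
    let q₀ : QuadraticForm F (Fin (j + 1) → F) :=
      (qOdd n F).comp (e.toLinearMap.comp (LinearMap.inr F _ _))
    have hq₀ : ∀ u v, QuadraticMap.polar q₀ u v = β₀ u v := fun u v => by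
      have h := he (0, u) (0, v)
      simp only [map_zero, zero_add] at h
      rw [← h]
      simp [q₀, QuadraticMap.polar, ← map_add]
    have hq₀n : (QuadraticMap.polarBilin q₀).Nondegenerate :=
      ⟨fun u hu => hn₀.1 u fun v => (hq₀ u v).symm.trans (hu v),
        fun v hv => hn₀.2 v fun u => (hq₀ u v).symm.trans (hv u)⟩
    obtain ⟨u, hou⟩ := exists_orth_char_order (p := p) hq₀n
      (by rw [Module.finrank_fin_fun]; omega)
    refine key ⟨prodGlue e (1, u.1), orth_of_polar h2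
        (prodGlue_preserves (B' := QuadraticMap.polarBilin (qOdd n F)) e he _ (fun _ _ => rfl)
          fun v w => by rw [← hq₀, ← hq₀]; exact u.2.1 v w)⟩
      ((orderOf_injective _ (prodGlue_injective e) _).trans ((orderOf_inr_pair _).trans hou))
      (Subtype.ext ?_)
    exact (Commute.map (Prod.ext ((one_mul _).trans (mul_one _).symm)
      ((mul_one _).trans (one_mul _).symm) : Commute ((1 : movedSpace x ≃ₗ[F] movedSpace x), u.1)
        (movedRes x ⟨x, mem_cent fun _ => rfl⟩, 1)) (prodGlue e)).eq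

/-- Two and the characteristic. -/
theorem case_two_char {p : ℕ} [hp : Fact p.Prime] [CharP F p] :
    HasPair Ω 2 p ∧ HasPair G 2 p := by
  have hp2 : p ≠ 2 := by
    rintro rfl
    exact h2 (by exact_mod_cast CharP.cast_eq_zero F 2)
  have hQ := qOdd_nondegenerate (F := F) (m := n) h2
  have hdim := two_le_dim_odd h2 hn hA hB π hπs hπ hc
  constructor
  · let β : BilinForm F (Fin 2 → F) := (1 : Matrix (Fin 2) (Fin 2) F).toBilin'
    have hβS : β.IsSymm := by
      rw [Matrix.isSymm_toBilin'_iff_isSymm]; exact Matrix.isSymm_one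
    have hβ : β.Nondegenerate :=
      LinearMap.BilinForm.nondegenerate_toBilin'_of_det_ne_zero' _ (by simp)
    obtain ⟨β₀, e, -, hn₀, he⟩ := exists_glue_symm (j := 2 * n - 2) h2 hβS hβ
      (polarBilin_isSymm (qOdd n F)) hQ (by simp; omega)
    let q₀ : QuadraticForm F (Fin (2 * n - 2 + 1) → F) :=
      (qOdd n F).comp (e.toLinearMap.comp (LinearMap.inr F _ _))
    have hq₀ : ∀ u v, QuadraticMap.polar q₀ u v = β₀ u v := fun u v => by
      have h := he (0, u) (0, v)
      simp only [map_zero, zero_add] at h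
      rw [← h]
      simp [q₀, QuadraticMap.polar, ← map_add]
    have hq₀n : (QuadraticMap.polarBilin q₀).Nondegenerate :=
      ⟨fun u hu => hn₀.1 u fun v => (hq₀ u v).symm.trans (hu v),
        fun v hv => hn₀.2 v fun u => (hq₀ u v).symm.trans (hv u)⟩
    obtain ⟨u, hou⟩ := exists_orth_char_order (p := p) hq₀n
      (by rw [Module.finrank_fin_fun]; omega)
    let y : orthGroup (qOdd n F) := ⟨prodGlue e (1, u.1), orth_of_polar h2
      (prodGlue_preserves (B' := QuadraticMap.polarBilin (qOdd n F)) e he _ (fun _ _ => rfl)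
        fun v w => by rw [← hq₀, ← hq₀]; exact u.2.1 v w)⟩
    have hy : orderOf (y : (Unit ⊕ (Fin n ⊕ Fin n) → F) ≃ₗ[F] (Unit ⊕ (Fin n ⊕ Fin n) → F)) = p :=
      (orderOf_injective _ (prodGlue_injective e) _).trans ((orderOf_inr_pair _).trans hou)
    have hval : ∀ i k, QuadraticMap.polar (qOdd n F) (e (Pi.single i 1, 0)) (e (Pi.single k 1, 0)) =
        if i = k then 1 else 0 := fun i k => by
      have h := he (Pi.single i 1, 0) (Pi.single k 1, 0)
      simp only [QuadraticMap.polarBilin_apply_apply] at h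
      rw [h]
      simp [β, Matrix.toBilin'_single, Matrix.one_apply]
    have hQv : ∀ i, qOdd n F (e (Pi.single i 1, 0)) = (2 : F)⁻¹ := fun i => by
      have h := hval i i
      rw [polar_self_two_mul, if_pos rfl] at h
      exact eq_inv_of_mul_eq_one_right h
    obtain ⟨z, hz, hoz, hzc⟩ := exists_pair_involution h2 hQ hdim
      (u := e (Pi.single 0 1, 0)) (v := e (Pi.single 1 1, 0))
      (by rw [hval, if_neg (by decide)]) (by rw [hQv]; exact inv_ne_zero h2) (by rw [hQv, hQv])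
    have hfix : ∀ w, (y : (Unit ⊕ (Fin n ⊕ Fin n) → F) ≃ₗ[F] (Unit ⊕ (Fin n ⊕ Fin n) → F)) (e (w, 0)) = e (w, 0) := fun w => by
      simp [y]
    exact omega_pair hz
      (odd_mem_commutator h2 hQ hdim y (hp.out.odd_of_ne_two hp2)
        (by rw [← hy, Subgroup.orderOf_coe, pow_orderOf_eq_one]))
      (hzc y (hfix _) (hfix _)) hoz hy
  · obtain ⟨β, hβA, hβ⟩ := exists_altForm (F := F) (d := 1 + 1) (k := 1) rfl
    obtain ⟨β₀, e, hA₀, hn₀, he⟩ := exists_glue_alt (j := n - 1) hβA hβ.1 hA hB (by simp; omega)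
    obtain ⟨u, hu, hou⟩ := exists_alt_char_order (p := p) hA₀ hn₀
      (by rw [Module.finrank_fin_fun]; omega)
    have : Nontrivial (Fin (n - 1 + (n - 1)) → F) :=
      Module.nontrivial_of_finrank_pos (R := F) (by rw [Module.finrank_fin_fun]; omega)
    exact sp_pair_block π hπ hc h2 e he (h := 1) (fun _ _ => rfl) hu hp.out hp2
      ((orderOf_inr_pair _).trans hou)

/-- An element with a fixed vector of odd prime order on the orthogonal side gives `2 s`. -/
theorem sp_two_of_orth {s : ℕ} (hs : s.Prime) (hs2 : s ≠ 2) (hsF : (s : F) ≠ 0)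
    {x : (Unit ⊕ (Fin n ⊕ Fin n) → F) ≃ₗ[F] (Unit ⊕ (Fin n ⊕ Fin n) → F)}
    (hx : x ∈ orthGroup (qOdd n F)) (hox : orderOf x = s)
    (hlt : finrank F (movedSpace x) ≠ n + n) : HasPair G 2 s := by
  obtain ⟨hsup, j, β₀, e, hj, -, -, he⟩ :=
    orth_to_sp_data h2 hA hB hx (by rw [← hox, pow_orderOf_eq_one]) (hs.odd_of_ne_two hs2) hsF
  have : Nontrivial (Fin (j + j) → F) :=
    Module.nontrivial_of_finrank_pos (R := F) (by rw [Module.finrank_fin_fun]; omega)
  have : Nontrivial (movedSpace x) := by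
    rw [Submodule.nontrivial_iff_ne_bot]
    intro hbot
    rw [hbot, sup_bot_eq] at hsup
    have hx1 : x = 1 := LinearEquiv.ext fun v =>
      (show v ∈ posSpace x by rw [hsup]; trivial)
    rw [hx1, orderOf_one] at hox
    exact hs.one_lt.ne hox
  refine sp_pair_block π hπ hc h2 e he (h := movedRes x ⟨x, mem_cent fun _ => rfl⟩)
    (fun a b => twistForm_preserves hx.1 (fun _ => rfl) a b _ _ rfl rfl) (u := 1) (fun _ _ => rfl)
    hs hs2 ((orderOf_inl_pair _).trans ?_)
  rw [movedRes_self_order x hsup, hox]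

/-- An element with a fixed vector of odd prime order on the symplectic side gives `2 s`. -/
theorem omega_two_of_sp {s : ℕ} (hs : s.Prime) (hs2 : s ≠ 2) (hsF : (s : F) ≠ 0)
    {x : (Fin (n + n) → F) ≃ₗ[F] (Fin (n + n) → F)} (hx : x ∈ altGroup B) (hox : orderOf x = s)
    (hlt : finrank F (movedSpace x) ≠ n + n) : HasPair Ω 2 s := by
  have hQ := qOdd_nondegenerate (F := F) (m := n) h2
  have hdim := two_le_dim_odd h2 hn hA hB π hπs hπ hc
  obtain ⟨hsup, ⟨k, hk⟩, j, β₀, e, hj, hS₀, hn₀, he⟩ :=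
    sp_to_orth_data h2 hA hB hx.1 (by rw [← hox, pow_orderOf_eq_one]) (hs.odd_of_ne_two hs2) hsF
  have hle := Submodule.finrank_le (movedSpace x)
  rw [Module.finrank_fin_fun] at hle
  obtain ⟨v, hv1, hv2, -⟩ := exists_orth_family h2 j hS₀ hn₀ (by rw [Module.finrank_fin_fun])
  let y : orthGroup (qOdd n F) :=
    ⟨_, glue_mem_orth h2 e he ⟨x, mem_cent fun _ => rfl⟩ hx.1 1 fun _ _ => rfl⟩
  have hy : orderOf (y : (Unit ⊕ (Fin n ⊕ Fin n) → F) ≃ₗ[F] (Unit ⊕ (Fin n ⊕ Fin n) → F)) = s := by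
    rw [← hox, ← movedRes_self_order x hsup]
    exact (orderOf_injective _ (prodGlue_injective e) _).trans (orderOf_inl_pair _)
  have hval : ∀ i l, QuadraticMap.polar (qOdd n F) (e (0, v i)) (e (0, v l)) = β₀ (v i) (v l) :=
    fun i l => by rw [he]; simp
  have hQv : ∀ i, i ≠ Fin.last j → qOdd n F (e (0, v i)) = (2 : F)⁻¹ := fun i hi => by
    have h := hval i i
    rw [polar_self_two_mul, hv2 i hi] at h
    exact eq_inv_of_mul_eq_one_right h
  let i₀ : Fin (j + 1) := ⟨0, by omega⟩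
  let i₁ : Fin (j + 1) := ⟨1, by omega⟩
  have hi₀ : i₀ ≠ Fin.last j := fun h => by
    have := congrArg Fin.val h; simp [i₀] at this; omega
  have hi₁ : i₁ ≠ Fin.last j := fun h => by
    have := congrArg Fin.val h; simp [i₁] at this; omega
  obtain ⟨z, hz, hoz, hzc⟩ := exists_pair_involution h2 hQ hdim
    (u := e (0, v i₀)) (v := e (0, v i₁))
    (by rw [hval]; exact hv1 _ _ fun h => by simp [i₀, i₁, Fin.ext_iff] at h)
    (by rw [hQv _ hi₀]; exact inv_ne_zero h2) (by rw [hQv _ hi₀, hQv _ hi₁])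
  have hfix : ∀ u, (y : (Unit ⊕ (Fin n ⊕ Fin n) → F) ≃ₗ[F] (Unit ⊕ (Fin n ⊕ Fin n) → F)) (e (0, u)) = e (0, u) := fun u => by
    simp [y]
  exact omega_pair hz
    (odd_mem_commutator h2 hQ hdim y (hs.odd_of_ne_two hs2)
      (by rw [← hy, Subgroup.orderOf_coe, pow_orderOf_eq_one]))
    (hzc y (hfix _) (hfix _)) hoz hy

/-- Two and an odd prime: from the symplectic side. -/
theorem two_sp_to_omega {s : ℕ} (hs : s.Prime) (hs2 : s ≠ 2) (hsF : (s : F) ≠ 0)
    (h : HasPair G 2 s) : HasPair Ω 2 s := by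
  obtain ⟨a₁, b₁, hcomm, hoa₁, hob₁⟩ := h
  have hsodd := hs.odd_of_ne_two hs2
  have hQ := qOdd_nondegenerate (F := F) (m := n) h2
  have hdim := two_le_dim_odd h2 hn hA hB π hπs hπ hc
  obtain ⟨g, rfl⟩ := hπs a₁
  obtain ⟨x, rfl, hox⟩ := sp_odd_lift π hπ hc hπs hsodd b₁ hob₁
  have hgx := sp_lift_commute π hπ hc hsodd hox hcomm
  rw [← Subgroup.orderOf_coe] at hox
  set xv := (x : (Fin (n + n) → F) ≃ₗ[F] (Fin (n + n) → F))
  set gv := (g : (Fin (n + n) → F) ≃ₗ[F] (Fin (n + n) → F))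
  by_cases hlt : finrank F (movedSpace xv) ≠ n + n
  · exact omega_two_of_sp h2 hn hA hB π hπs hπ hc hs hs2 hsF x.2 hox hlt
  push Not at hlt
  have hgns : ¬ ∃ c : F, ∀ v, gv v = c • v := fun h => by
    rw [(hπ g).2 h, orderOf_one] at hoa₁
    omega
  obtain ⟨c, hcg⟩ := (hπ (g * g)).1 (by rw [map_mul, ← pow_two, ← hoa₁, pow_orderOf_eq_one])
  have htop : movedSpace xv = ⊤ :=
    Submodule.eq_top_of_finrank_eq (by rw [hlt, Module.finrank_fin_fun])
  obtain ⟨hsup, -, j, β₀, e, -, -, -, he⟩ :=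
    sp_to_orth_data h2 hA hB x.2.1 (by rw [← hox, pow_orderOf_eq_one]) hsodd hsF
  let C := Subgroup.centralizer ({xv} : Set ((Fin (n + n) → F) ≃ₗ[F] (Fin (n + n) → F)))
  let Ψ : C →* ((Unit ⊕ (Fin n ⊕ Fin n) → F) ≃ₗ[F] (Unit ⊕ (Fin n ⊕ Fin n) → F)) :=
    (prodGlue e).comp ((MonoidHom.inl _ _).comp (movedRes xv))
  have hΨ : ∀ k : C, Ψ k = prodGlue e (movedRes xv k, 1) := fun k => rfl
  let gC : C := ⟨gv, mem_cent fun v => congrArg (fun k : altGroup B =>
    ((k : (Fin (n + n) → F) ≃ₗ[F] (Fin (n + n) → F)) v : Fin (n + n) → F)) hgx.eq⟩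
  let nC : C := ⟨LinearEquiv.neg F, mem_cent fun v => by simp⟩
  let xC : C := ⟨xv, mem_cent fun _ => rfl⟩
  have hmem : ∀ k : C, (∀ u v, B (k.1 u) (k.1 v) = B u v) → Ψ k ∈ orthGroup (qOdd n F) :=
    fun k hk => glue_mem_orth h2 e he k hk 1 fun _ _ => rfl
  have hgB : ∀ u v, B (gC.1 u) (gC.1 v) = B u v := g.2.1
  have hnB : ∀ u v, B (nC.1 u) (nC.1 v) = B u v := fun u v => by simp [nC]
  let Zg : orthGroup (qOdd n F) := ⟨Ψ gC, hmem gC hgB⟩
  let Zn : orthGroup (qOdd n F) := ⟨Ψ nC, hmem nC hnB⟩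
  let X : orthGroup (qOdd n F) := ⟨Ψ xC, hmem xC x.2.1⟩
  have hX : orderOf (X : (Unit ⊕ (Fin n ⊕ Fin n) → F) ≃ₗ[F] (Unit ⊕ (Fin n ⊕ Fin n) → F)) = s := by
    rw [← hox, ← movedRes_self_order xv hsup]
    exact (orderOf_injective _ (prodGlue_injective e) _).trans (orderOf_inl_pair _)
  have hXmem := odd_mem_commutator h2 hQ hdim X hsodd
    (by rw [← hX, Subgroup.orderOf_coe, pow_orderOf_eq_one])
  have hinj : ∀ k : C, Ψ k = 1 → k.1 = 1 := fun k hk => by
    rw [hΨ] at hk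
    have h1 : movedRes xv k = 1 :=
      congrArg Prod.fst (prodGlue_injective e (hk.trans (map_one _).symm))
    exact LinearEquiv.ext fun v =>
      congrArg Subtype.val (LinearEquiv.congr_fun h1 ⟨v, htop ▸ Submodule.mem_top⟩)
  have finish : ∀ k : C, ∀ hk : Ψ k ∈ orthGroup (qOdd n F),
      (⟨Ψ k, hk⟩ : orthGroup (qOdd n F)) ∈ commutator (orthGroup (qOdd n F)) →
      k.1 ≠ 1 → (∀ v, k.1 (k.1 v) = v) → HasPair Ω 2 s := by
    intro k hk hkΩ hk1 hkk
    refine omega_pair hkΩ hXmem (fun v => ?_) (orderOf_eq_prime ?_ fun h => hk1 (hinj k h)) hX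
    · exact LinearEquiv.congr_fun ((Commute.map (Subtype.ext
        (Subgroup.mem_centralizer_singleton_iff.1 k.2) : Commute k xC) Ψ).eq) v
    · rw [← map_pow, show k ^ 2 = 1 from Subtype.ext (LinearEquiv.ext fun v => by
        rw [SubmonoidClass.coe_pow, pow_two, LinearEquiv.mul_apply, hkk]; rfl), map_one]
  have hn1 : nC.1 ≠ 1 := fun h => hgns (by
    exfalso
    obtain ⟨v, hv⟩ : ∃ v : Fin (n + n) → F, v ≠ 0 :=
      ⟨Pi.single ⟨0, by omega⟩ 1, by simp⟩
    have h1 : -v = v := LinearEquiv.congr_fun h v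
    have h3 : (2 : F) • v = 0 := by
      rw [two_smul]; nth_rewrite 1 [← h1]; exact neg_add_cancel v
    exact hv ((smul_eq_zero.1 h3).resolve_left h2))
  rcases mul_self_eq_one_iff.1 (hc (g * g) c hcg) with rfl | rfl
  · have hgg : ∀ v, gv (gv v) = v := fun v => by
      have := hcg v; rwa [alt_mul_apply, one_smul] at this
    have hdet : ∀ k : C, (∀ u v, B (k.1 u) (k.1 v) = B u v) →
        LinearEquiv.det (Ψ k) = 1 := by
      intro k hk
      rw [hΨ, det_prodGlue, map_one, mul_one]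
      let eT := LinearEquiv.ofTop (movedSpace xv) htop
      have h1 : k.1 = (eT.symm.trans (movedRes xv k)).trans eT :=
        LinearEquiv.ext fun v => rfl
      have h3 := det_of_alt hA hB k.1 hk
      rwa [h1, LinearEquiv.det_conj] at h3
    have := Module.finite_of_finite F (M := Unit ⊕ (Fin n ⊕ Fin n) → F)
    have hmemI : ∀ k : C, ∀ hk : (∀ u v, B (k.1 u) (k.1 v) = B u v),
        spinor (qOdd n F) h2 ⟨Ψ k, hmem k hk⟩ = 1 →
        (⟨Ψ k, hmem k hk⟩ : orthGroup (qOdd n F)) ∈ commutator (orthGroup (qOdd n F)) :=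
      fun k hk hsp => (mem_commutator_iff h2 hQ hdim).2 ⟨hdet k hk, hsp⟩
    rcases Int.units_eq_one_or (spinor (qOdd n F) h2 Zg) with h1 | h1
    · exact finish gC (hmem gC hgB) (hmemI gC hgB h1)
        (fun h => hgns ⟨1, fun v => by rw [one_smul]; exact LinearEquiv.congr_fun h v⟩) hgg
    rcases Int.units_eq_one_or (spinor (qOdd n F) h2 Zn) with h3 | h3
    · exact finish nC (hmem nC hnB) (hmemI nC hnB h3) hn1 fun v => by simp [nC]
    have hngB : ∀ u v, B ((nC * gC).1 u) ((nC * gC).1 v) = B u v := fun u v =>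
      (hnB _ _).trans (hgB u v)
    refine finish (nC * gC) (hmem _ hngB) (hmemI _ hngB ?_) (fun h => hgns ⟨-1, fun v => ?_⟩) fun v => ?_
    · have h4 : (⟨Ψ (nC * gC), hmem _ hngB⟩ : orthGroup (qOdd n F)) = Zn * Zg :=
        Subtype.ext (map_mul Ψ nC gC)
      rw [h4, map_mul, h1, h3]
      rfl
    · have h5 : -gv v = v := LinearEquiv.congr_fun h v
      rw [neg_one_smul]
      exact neg_eq_iff_eq_neg.1 h5
    · change -gv (-gv v) = v
      rw [map_neg, neg_neg, hgg]
  · have hsq : Zn = Zg * Zg := Subtype.ext <| by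
      change Ψ nC = Ψ gC * Ψ gC
      rw [← map_mul]
      refine congrArg Ψ (Subtype.ext (LinearEquiv.ext fun v => ?_))
      have := hcg v
      rw [alt_mul_apply, neg_one_smul] at this
      exact this.symm
    refine finish nC (hmem nC hnB) ?_ hn1 fun v => by simp [nC]
    change Zn ∈ _
    rw [hsq]
    exact sq_mem_commutator h2 hQ hdim Zg

/-- A torus element with the order divisible by `4 s`. -/
theorem sp_two_of_torus {s N : ℕ} (hs : s.Prime) (hs2 : s ≠ 2) (h4 : 4 ∣ N) (hsN : s ∣ N)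
    (hN0 : N ≠ 0) {a : (Fin (n + n) → F) ≃ₗ[F] (Fin (n + n) → F)}
    (ha : ∀ u v, B (a u) (a v) = B u v)
    (haN : ∀ j, (a : Module.End F (Fin (n + n) → F)) ^ j = 1 ↔ N ∣ j) : HasPair G 2 s := by
  have h4s : 4 * s ∣ N := by
    refine Nat.Coprime.mul_dvd_of_dvd_of_dvd ?_ h4 hsN
    rw [show 4 = 2 ^ 2 from rfl]
    exact ((Nat.coprime_primes Nat.prime_two hs).2 hs2.symm).pow_left 2
  obtain ⟨t, rfl⟩ := h4s
  let g : altGroup B := ⟨a, ha, fun _ => rfl⟩ 
  set h := g ^ t
  obtain ⟨c, hcg⟩ := (hπ (h ^ orderOf (π h))).1 (by rw [map_pow, pow_orderOf_eq_one])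
  have h1 : h ^ (orderOf (π h) * 2) = 1 := by
    rw [pow_mul, pow_two]
    exact alt_ext fun v => by
      rw [alt_mul_apply, hcg, hcg, smul_smul, hc _ c hcg, one_smul]; rfl
  have h3 : 4 * s * t ∣ t * (orderOf (π h) * 2) := by
    rw [← haN, equiv_pow_eq_one_iff, pow_mul]
    exact congrArg Subtype.val h1
  have ht : 0 < t := Nat.pos_of_ne_zero fun h0 => hN0 (by rw [h0, mul_zero])
  have h5 : 2 * s ∣ orderOf (π h) := by
    rw [mul_comm t] at h3
    have h6 := Nat.dvd_of_mul_dvd_mul_right ht h3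
    rw [show 4 * s = 2 * s * 2 by ring] at h6
    exact Nat.dvd_of_mul_dvd_mul_right two_pos h6
  refine (mem_range_iff_hasPair Nat.prime_two hs hs2.symm).1
    ⟨π h ^ (orderOf (π h) / (2 * s)), orderOf_pow_orderOf_div ?_ h5⟩
  have hfin : IsOfFinOrder (π h) := MonoidHom.isOfFinOrder π (isOfFinOrder_of_finite h)
  exact hfin.orderOf_pos.ne'

/-- A torus in a proper block. -/
theorem sp_two_of_block {s i N : ℕ} (hs : s.Prime) (hs2 : s ≠ 2) (hi : 1 ≤ i) (hin : i < n)
    (hsN : s ∣ N) (hN0 : N ≠ 0) {β : BilinForm F (Fin (i + i) → F)} (hβA : β.IsAlt)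
    (hβ : β.Nondegenerate) {a : (Fin (i + i) → F) ≃ₗ[F] (Fin (i + i) → F)}
    (ha : ∀ u v, β (a u) (a v) = β u v)
    (haN : ∀ j, (a : Module.End F (Fin (i + i) → F)) ^ j = 1 ↔ N ∣ j) : HasPair G 2 s := by
  obtain ⟨β₀, e, -, -, he⟩ := exists_glue_alt (j := n - i) hβA hβ.1 hA hB (by simp; omega)
  have : Nontrivial (Fin (i + i) → F) :=
    Module.nontrivial_of_finrank_pos (R := F) (by rw [Module.finrank_fin_fun]; omega)
  have : Nontrivial (Fin (n - i + (n - i)) → F) :=
    Module.nontrivial_of_finrank_pos (R := F) (by rw [Module.finrank_fin_fun]; omega)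
  obtain ⟨t, rfl⟩ := hsN
  let g : altGroup β := ⟨a, ha, fun _ => rfl⟩
  refine sp_pair_block π hπ hc h2 e he (h := a ^ t) (fun u v => (g ^ t).2.1 u v) (u := 1)
    (fun _ _ => rfl) hs hs2 ((orderOf_inl_pair _).trans ?_)
  have : Fact s.Prime := ⟨hs⟩
  refine orderOf_eq_prime ?_ fun h => ?_
  · rw [← pow_mul, ← equiv_pow_eq_one_iff, haN, mul_comm]
  · rw [← equiv_pow_eq_one_iff, haN] at h
    have ht : t ≠ 0 := fun h0 => hN0 (by rw [h0, mul_zero])
    have h7 := Nat.le_of_dvd (Nat.pos_of_ne_zero ht) h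
    have h8 : 2 * t ≤ s * t := Nat.mul_le_mul_right t hs.two_le
    omega

/-- Two and an odd prime: from the orthogonal side. -/
theorem two_omega_to_sp {p : ℕ} [hp : Fact p.Prime] [CharP F p] {s : ℕ} (hs : s.Prime)
    (hs2 : s ≠ 2) (hsp : s ≠ p) (h : HasPair Ω 2 s) : HasPair G 2 s := by
  classical
  have hsF : (s : F) ≠ 0 := fun h =>
    hsp ((Nat.prime_dvd_prime_iff_eq hp.out hs).1 ((CharP.cast_eq_zero_iff F p s).1 h)).symm
  have hsodd := hs.odd_of_ne_two hs2
  have hQ := qOdd_nondegenerate (F := F) (m := n) h2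
  have hdim := two_le_dim_odd h2 hn hA hB π hπs hπ hc
  obtain ⟨⟨⟨z, hz⟩, hzΩ⟩, ⟨⟨x, hx⟩, hxΩ⟩, hcomm, hoz, hox⟩ := h
  rw [← Subgroup.orderOf_coe, ← Subgroup.orderOf_coe] at hoz hox
  change orderOf z = 2 at hoz
  change orderOf x = s at hox
  have hzx : ∀ v, z (x v) = x (z v) := fun v =>
    congrArg (fun k : Ω => ((k : orthGroup (qOdd n F)) :
      (Unit ⊕ (Fin n ⊕ Fin n) → F) ≃ₗ[F] (Unit ⊕ (Fin n ⊕ Fin n) → F)) v) hcomm.eq
  have hzz : ∀ v, z (z v) = v := fun v => by
    rw [← LinearEquiv.mul_apply, ← pow_two, ← hoz, pow_orderOf_eq_one]; rfl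
  by_cases hlt : finrank F (movedSpace x) ≠ n + n
  · exact sp_two_of_orth h2 hn hA hB π hπs hπ hc hs hs2 hsF hx hox hlt
  push Not at hlt
  obtain ⟨hsup, j, β₀, e, hj, -, -, he⟩ :=
    orth_to_sp_data h2 hA hB hx (by rw [← hox, pow_orderOf_eq_one]) hsodd hsF
  let xS : altGroup B := ⟨_, glue_mem_alt e he ⟨x, mem_cent fun _ => rfl⟩ hx 1 fun _ _ => rfl⟩
  have hxS : orderOf (xS : (Fin (n + n) → F) ≃ₗ[F] (Fin (n + n) → F)) = s := by
    rw [← hox, ← movedRes_self_order x hsup]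
    exact (orderOf_injective _ (prodGlue_injective e) _).trans (orderOf_inl_pair _)
  let zS : altGroup B := ⟨_, glue_mem_alt e he ⟨z, mem_cent hzx⟩ hz 1 fun _ _ => rfl⟩
  have hzS : ∀ w u, (zS : (Fin (n + n) → F) ≃ₗ[F] (Fin (n + n) → F)) (e (w, u)) =
      e (movedRes x ⟨z, mem_cent hzx⟩ w, u) := fun w u => by simp [zS]
  have hzS2 : ∀ v, (zS : (Fin (n + n) → F) ≃ₗ[F] (Fin (n + n) → F)) ((zS : (Fin (n + n) → F) ≃ₗ[F] (Fin (n + n) → F)) v) = v := by
    intro v
    obtain ⟨⟨w, u⟩, rfl⟩ := e.surjective v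
    rw [hzS, hzS]
    exact congrArg (fun t => e (t, u)) (Subtype.ext (hzz w))
  have hcmS : Commute zS xS := alt_ext fun v => by
    obtain ⟨⟨w, u⟩, rfl⟩ := e.surjective v
    simp only [alt_mul_apply, zS, xS, prodGlue_apply]
    exact congrArg (fun t => e (t, u)) (Subtype.ext (hzx w))
  by_cases hns : ∃ c : F, ∀ v, (zS : (Fin (n + n) → F) ≃ₗ[F] (Fin (n + n) → F)) v = c • v
  swap
  · exact ⟨π zS, π xS, hcmS.map π,
      sp_image_order_two π hπ hc hns ⟨1, fun v => by rw [one_smul, hzS2]⟩,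
      sp_image_order_odd π hπ hc hs hs2 hxS⟩
  obtain ⟨c, hcS⟩ := hns
  have hzW : ∀ w ∈ movedSpace x, z w = c • w := fun w hw => by
    have h1 := hcS (e (⟨w, hw⟩, 0))
    rw [hzS, ← map_smul] at h1
    exact congrArg Subtype.val (Prod.ext_iff.1 (e.injective h1)).1
  -- the fixed line
  have hr : ∀ u v, QuadraticMap.polarBilin (qOdd n F) u v = 0 →
      QuadraticMap.polarBilin (qOdd n F) v u = 0 := fun u v h => by
    rw [QuadraticMap.polarBilin_apply_apply, QuadraticMap.polar_comm]; exact h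
  have hxs : x ^ s = 1 := by rw [← hox, pow_orderOf_eq_one]
  have hcompl := isCompl_pos_moved hQ.1 hr hx.1 hxs hsF
  have hU : finrank F (posSpace x) = 1 := by
    have h1 := Submodule.finrank_add_eq_of_isCompl hcompl
    rw [Module.finrank_fintype_fun_eq_card, Fintype.card_sum, Fintype.card_sum,
      Fintype.card_fin, Fintype.card_unit] at h1
    omega
  obtain ⟨⟨u, hu⟩, hu0, hspan⟩ := finrank_eq_one_iff'.1 hU
  have hzu : z u ∈ posSpace x := by
    change x (z u) = z u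
    rw [← hzx, show x u = u from hu]
  obtain ⟨d, hdu⟩ := hspan ⟨z u, hzu⟩
  replace hdu : d • u = z u := congrArg Subtype.val hdu
  have hd1 : d * d = 1 := by
    have h1 := hzz u
    rw [← hdu, map_smul, ← hdu, smul_smul] at h1
    have h3 : (d * d - 1) • u = 0 := by rw [sub_smul, one_smul, h1, sub_self]
    exact sub_eq_zero.1 ((smul_eq_zero.1 h3).resolve_right fun h => hu0 (Subtype.ext h))
  have hzU : ∀ v ∈ posSpace x, z v = d • v := fun v hv => by
    obtain ⟨t, ht⟩ := hspan ⟨v, hv⟩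
    replace ht : t • u = v := congrArg Subtype.val ht
    rw [← ht, map_smul, ← hdu, smul_comm]
  have hcc : c * c = 1 := hc zS c hcS
  let e₁ : (movedSpace x × posSpace x) ≃ₗ[F] (Unit ⊕ (Fin n ⊕ Fin n) → F) :=
    Submodule.prodEquivOfIsCompl _ _ hcompl.symm
  have he₁ : ∀ w v, e₁ (w, v) = (w : Unit ⊕ (Fin n ⊕ Fin n) → F) + v := fun w v => rfl
  have hdet : LinearEquiv.det z = 1 := ((mem_commutator_iff h2 hQ hdim).1 hzΩ).1
  have hm1 : (-1 : F) ≠ 1 := fun h => h2 (by linear_combination -h)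
  rcases mul_self_eq_one_iff.1 hcc with rfl | rfl <;>
    rcases mul_self_eq_one_iff.1 hd1 with rfl | rfl
  · exfalso
    have hz1 : z = 1 := eq_one_of_fix hsup (fun v hv => by rw [hzU v hv, one_smul])
      fun w hw => by rw [hzW w hw, one_smul]
    rw [hz1, orderOf_one] at hoz
    omega
  · exfalso
    have hzg : z = prodGlue e₁ (1, LinearEquiv.neg F) := LinearEquiv.ext fun v => by
      obtain ⟨⟨w, t⟩, rfl⟩ := e₁.surjective v
      rw [prodGlue_apply, he₁, he₁, map_add, hzW w w.2, hzU t t.2, one_smul, neg_one_smul]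
      rfl
    rw [hzg, det_prodGlue, map_one, one_mul] at hdet
    have h1 := congrArg Units.val hdet
    rw [det_neg_equiv, hU, pow_one, Units.val_one] at h1
    exact hm1 h1
  swap
  · exfalso
    have hzg : z = LinearEquiv.neg F := LinearEquiv.ext fun v => by
      obtain ⟨⟨w, t⟩, rfl⟩ := e₁.surjective v
      rw [he₁, map_add, hzW w w.2, hzU t t.2, neg_one_smul, neg_one_smul, LinearEquiv.neg_apply,
        neg_add]
    have h1 := congrArg Units.val hdet
    rw [hzg, det_neg_equiv, Units.val_one, Module.finrank_fintype_fun_eq_card] at h1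
    simp [Fintype.card_sum, pow_add, ← two_mul] at h1
    exact hm1 h1
  -- `z = -1` on the moved space: the discriminant is a square
  have hzz₁ : ∀ w t, z (e₁ (w, t)) = e₁ (-w, t) := fun w t => by
    rw [he₁, he₁, map_add, hzW w w.2, hzU t t.2, one_smul, neg_one_smul]
    rfl
  set β := LinearMap.BilinForm.restrict (QuadraticMap.polarBilin (qOdd n F)) (movedSpace x) with hβdef
  have hβS : β.IsSymm := ⟨fun a b => QuadraticMap.polar_comm (qOdd n F) _ _⟩
  have hβn : β.Nondegenerate :=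
    ⟨fun a ha => Subtype.ext (moved_nondeg hQ.1 hr hx.1 hxs hsF a.2 fun y hy => ha ⟨y, hy⟩),
      fun b hb => Subtype.ext (moved_nondeg hQ.1 hr hx.1 hxs hsF b.2
        fun y hy => hr _ _ (hb ⟨y, hy⟩))⟩
  obtain ⟨b, hb⟩ := disc_square_of_negGlue (β := β)
    (β₀ := LinearMap.BilinForm.restrict (QuadraticMap.polarBilin (qOdd n F)) (posSpace x)) h2 hQ hdim e₁ hβS hβn
    (fun p p' => by
      obtain ⟨⟨a, a'⟩, b, b'⟩ := p, p'
      rw [he₁, he₁]
      simp only [QuadraticMap.polar_add_left, QuadraticMap.polar_add_right]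
      have h1 : QuadraticMap.polar (qOdd n F) (a : Unit ⊕ (Fin n ⊕ Fin n) → F) b' = 0 :=
        hr _ _ (pos_moved_orth hx.1 b'.2 a.2)
      have h3 : QuadraticMap.polar (qOdd n F) (a' : Unit ⊕ (Fin n ⊕ Fin n) → F) b = 0 :=
        pos_moved_orth hx.1 a'.2 b.2
      rw [h1, h3, zero_add, add_zero]
      rfl)
    (m := n + n - 1) (by omega) ⟨n, by omega⟩ (z := ⟨z, hz⟩) hzΩ hzz₁
  by_cases hblk : ∃ i, 1 ≤ i ∧ i < n ∧
      (s ∣ Fintype.card F ^ i + 1 ∨ s ∣ Fintype.card F ^ i - 1)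
  · obtain ⟨i, hi, hin, hsd⟩ := hblk
    obtain ⟨β', hβ'A, hβ'⟩ := exists_altForm (F := F) (d := i + i) (k := i) rfl
    have hqi : 1 < Fintype.card F ^ i := Nat.one_lt_pow (by omega) Fintype.one_lt_card
    rcases hsd with hsd | hsd
    · obtain ⟨a, ha, haN⟩ := exists_torus_plus (by omega : 0 < i) β' hβ'A hβ'
      exact sp_two_of_block h2 hn hA hB π hπs hπ hc hs hs2 hi hin hsd (by omega) hβ'A hβ' ha haN
    · obtain ⟨a, ha, haN⟩ := exists_torus_minus (by omega : 0 < i) β' hβ'A hβ'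
      exact sp_two_of_block h2 hn hA hB π hπs hπ hc hs hs2 hi hin hsd (by omega) hβ'A hβ' ha haN
  push Not at hblk
  set q := Fintype.card F with hq
  have hsq : ¬ s ∣ q := fun h => by
    obtain ⟨k, -, hk⟩ := FiniteField.card F p
    rw [hq, hk] at h
    exact hsp ((Nat.prime_dvd_prime_iff_eq hs hp.out).1 (hs.dvd_of_dvd_pow h))
  have hqodd : Odd q := by
    rw [Nat.odd_iff]
    refine FiniteField.odd_card_of_char_ne_two fun h => h2 ?_
    have := ringChar.Nat.cast_ringChar (R := F); rw [h] at this; simpa using this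
  have hdiv : ∀ X, s ∣ 2 * q ^ (n * (n - 1)) * X *
      ∏ i ∈ Finset.range (n - 1), (q ^ (2 * (i + 1)) - 1) → s ∣ X := by
    intro X hX
    rcases hs.dvd_mul.1 hX with hX | hX
    · rcases hs.dvd_mul.1 hX with hX | hX
      · rcases hs.dvd_mul.1 hX with hX | hX
        · exact absurd ((Nat.prime_dvd_prime_iff_eq hs Nat.prime_two).1 hX) hs2
        · exact absurd (hs.dvd_of_dvd_pow hX) hsq
      · exact hX
    · obtain ⟨i, hi, hX⟩ := (Prime.dvd_finsetProd_iff hs.prime _).1 hX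
      rw [Finset.mem_range] at hi
      rw [show 2 * (i + 1) = (i + 1) * 2 by ring, pow_mul, ← one_pow 2, Nat.sq_sub_sq] at hX
      obtain ⟨h1, h3⟩ := hblk (i + 1) (by omega) (by omega)
      rcases hs.dvd_mul.1 hX with hX | hX
      · exact absurd hX h1
      · exact absurd hX h3
  have hqn : 1 < q ^ n := Nat.one_lt_pow (by omega) Fintype.one_lt_card
  let g := movedRes x ⟨x, mem_cent fun _ => rfl⟩
  have hgo : orderOf g = s := (movedRes_self_order x hsup).trans hox
  have hgβ : ∀ a b, β (g a) (g b) = β a b := fun a b => hx.1 _ _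
  have hmod : q ^ n % 4 = if Even (n * (q - 1) / 2) then 1 else 3 := by
    obtain ⟨k, hk⟩ := hqodd
    have e1 : n * (q - 1) / 2 = n * k := by
      rw [hk, Nat.add_sub_cancel, show n * (2 * k) = n * k * 2 by ring, Nat.mul_div_cancel _ two_pos]
    rw [e1, Nat.pow_mod]
    rcases Nat.even_or_odd k with hk' | hk'
    · rw [if_pos (Nat.even_mul.2 (Or.inr hk')), show q % 4 = 1 by obtain ⟨l, rfl⟩ := hk'; omega]
      simp
    · have hq4 : q % 4 = 3 := by obtain ⟨l, rfl⟩ := hk'; omega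
      rcases Nat.even_or_odd n with hn' | hn'
      · obtain ⟨l, rfl⟩ := hn'
        rw [if_pos (Nat.even_mul.2 (Or.inl ⟨l, rfl⟩)), hq4, ← two_mul, pow_mul, Nat.pow_mod]
        simp
      · rw [if_neg (Nat.not_even_iff_odd.2 (hn'.mul hk'))]
        obtain ⟨l, rfl⟩ := hn'
        rw [hq4, pow_succ, pow_mul, Nat.mul_mod, Nat.pow_mod]
        simp
  by_cases hev : Even (n * (q - 1) / 2)
  · rw [if_pos hev] at hmod
    have h1 := dvd_card_of_model h2 hβS hβn (qPlus n F) qPlus_nondegenerate (m := n + n - 1)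
      (by omega) (by simp; omega) b (hb.mul (by
        rw [toMatrix_polarBilin, coe_qPlus]
        exact (isSquare_gram_plus rfl hqodd _).2 hev)) g hgβ
    rw [hgo, coe_qPlus, card_isometryGroup_plus n rfl (by omega), ← hq] at h1
    obtain ⟨a, ha, haN⟩ := exists_torus_minus (by omega : 0 < n) B hA hB
    exact sp_two_of_torus h2 hn hA hB π hπs hπ hc hs hs2 (N := q ^ n - 1) (by omega) (hdiv _ h1)
      (by omega) ha haN
  · rw [if_neg hev] at hmod
    obtain ⟨δ, hδ⟩ := exists_nonsquare_of_two_ne_zero h2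
    have hab : ∀ z₁ z₂ : F, z₁ ^ 2 + 0 * z₁ * z₂ + (-δ) * z₂ ^ 2 = 0 → z₁ = 0 ∧ z₂ = 0 := by
      intro z₁ z₂ h
      by_cases h0 : z₂ = 0
      · subst h0
        exact ⟨pow_eq_zero_iff two_ne_zero |>.1 (by linear_combination h), rfl⟩
      · exact absurd ⟨z₁ / z₂, by field_simp; linear_combination -h⟩ hδ
    have h1 := dvd_card_of_model h2 hβS hβn (qMinus (n - 1) F 0 (-δ))
      (qMinus_nondegenerate _ _ (disc_ne_zero hab)) (m := n + n - 1)
      (by omega) (by simp; omega) b (hb.mul (by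
        rw [toMatrix_polarBilin, coe_qMinus]
        refine (isSquare_gram_minus rfl hqodd _ _ hab _).2 ?_
        rw [show n - 1 + 1 = n by omega]
        exact hev)) g hgβ
    rw [hgo, coe_qMinus, card_isometryGroup_minus (n - 1) rfl 0 (-δ) hab, ← hq,
      show n - 1 + 1 = n by omega] at h1
    obtain ⟨a, ha, haN⟩ := exists_torus_plus (by omega : 0 < n) B hA hB
    exact sp_two_of_torus h2 hn hA hB π hπs hπ hc hs hs2 (N := q ^ n + 1) (by omega) (hdiv _ h1)
      (by omega) ha haN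

theorem primeGraph_eq (p : ℕ) [hp : Fact p.Prime] [CharP F p] {r s : ℕ} (hr : r.Prime)
    (hs : s.Prime) (hrs : r ≠ s) :
    (r * s ∈ Set.range (orderOf : Ω → ℕ)) ↔ r * s ∈ Set.range (orderOf : G → ℕ) := by
  have hp2 : p ≠ 2 := by
    rintro rfl
    exact h2 (by exact_mod_cast CharP.cast_eq_zero F 2)
  have hF : ∀ t : ℕ, t.Prime → t ≠ p → (t : F) ≠ 0 := fun t ht htp h =>
    htp ((Nat.prime_dvd_prime_iff_eq hp.out ht).1 ((CharP.cast_eq_zero_iff F p t).1 h)).symm
  have htwo : ∀ t : ℕ, t.Prime → t ≠ 2 → (HasPair Ω 2 t ↔ HasPair G 2 t) := by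
    intro t ht ht2
    rcases eq_or_ne t p with rfl | htp
    · exact iff_of_true (case_two_char h2 hn hA hB π hπs hπ hc).1
        (case_two_char h2 hn hA hB π hπs hπ hc).2
    · exact ⟨two_omega_to_sp h2 hn hA hB π hπs hπ hc (p := p) ht ht2 htp,
        two_sp_to_omega h2 hn hA hB π hπs hπ hc ht ht2 (hF t ht htp)⟩
  rw [mem_range_iff_hasPair hr hs hrs, mem_range_iff_hasPair hr hs hrs]
  rcases eq_or_ne r 2 with rfl | hr2
  · exact htwo s hs hrs.symm
  rcases eq_or_ne s 2 with rfl | hs2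
  · rw [hasPair_comm r 2, hasPair_comm (G := G) r 2]
    exact htwo r hr hrs
  rcases eq_or_ne r p with rfl | hrp
  · exact case_char h2 hn hA hB π hπs hπ hc hs hs2 hrs.symm
  rcases eq_or_ne s p with rfl | hsp
  · rw [hasPair_comm r s, hasPair_comm (G := G) r s]
    exact case_char h2 hn hA hB π hπs hπ hc hr hr2 hrs
  rw [← mem_range_iff_hasPair hr hs hrs, ← mem_range_iff_hasPair hr hs hrs]
  exact case_odd h2 hn hA hB π hπs hπ hc ((hr.odd_of_ne_two hr2).mul (hs.odd_of_ne_two hs2))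
    (by push_cast; exact mul_ne_zero (hF r hr hrp) (hF s hs hsp))

end Cases

end Cfsg.Agent.Forms
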