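import Cfsg.Agent.Linear.Transvection
import Cfsg.Prelude.Def_ClassicalGeometry

/-!
# Transvections of `SL_n` up to conjugacy
-/

set_option autoImplicit false

namespace Cfsg.Agent.Forms

open Matrix
open scoped commutatorElement

variable {F : Type*} [Field F] {ι : Type} [Fintype ι] [DecidableEq ι]

/-- A transvection is `1 + a wᵀ` with `w ⬝ a = 0`. -/
theorem exists_vecMulVec_of_isTransvection {t : Matrix ι ι F} (ht : Cfsg.IsTransvection t) :
    ∃ a w : ι → F, a ≠ 0 ∧ w ≠ 0 ∧ w ⬝ᵥ a = 0 ∧ t = 1 + vecMulVec a w := by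
  obtain ⟨h1, h2⟩ := ht
  rw [Matrix.rank, finrank_eq_one_iff'] at h1
  obtain ⟨⟨a, ha⟩, hne, hspan⟩ := h1
  have hcol : ∀ j, ∃ c : F, c • a = (t - 1) *ᵥ Pi.single j 1 := by
    intro j
    obtain ⟨c, hc⟩ := hspan ⟨(t - 1) *ᵥ Pi.single j 1, LinearMap.mem_range_self (t - 1).mulVecLin _⟩
    exact ⟨c, congrArg Subtype.val hc⟩
  choose w hw using hcol
  have ha0 : a ≠ 0 := fun h => hne (Subtype.ext h)
  have hN : t - 1 = vecMulVec a w := by
    ext i j
    have := congrFun (hw j) i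
    simp [Matrix.mulVec_single, Matrix.vecMulVec_apply] at this ⊢
    rw [← this]; ring
  have hw0 : w ≠ 0 := by
    intro h
    obtain ⟨x, hx⟩ := ha
    rw [hN, h, vecMulVec_zero, Matrix.mulVecLin_zero, LinearMap.zero_apply] at hx
    exact ha0 hx.symm
  refine ⟨a, w, ha0, hw0, ?_, by rw [← hN, add_sub_cancel]⟩
  rw [hN, vecMulVec_mul_vecMulVec] at h2
  obtain ⟨i, hi⟩ := Function.ne_iff.1 ha0
  obtain ⟨j, hj⟩ := Function.ne_iff.1 hw0
  have := congrFun (congrFun h2 i) j
  simp [Matrix.vecMulVec_apply] at this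
  simp only [Pi.zero_apply] at hi hj
  simpa [hi, hj] using this

/-- A non-zero row extends to an element of `SL_n` up to a scalar. -/
theorem exists_SL_row {n : ℕ} (w : Fin (n + 1) → F) (hw : w ≠ 0) :
    ∃ (M : Matrix.SpecialLinearGroup (Fin (n + 1)) F) (c : F), w = c • (M : Matrix (Fin (n + 1)) (Fin (n + 1)) F) 0 := by
  obtain ⟨i, hi⟩ := Function.ne_iff.1 hw
  simp only [Pi.zero_apply] at hi
  have hdet : ((1 : Matrix (Fin (n + 1)) (Fin (n + 1)) F).updateRow i w).det = w i := by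
    have h := det_updateRow_sum (1 : Matrix (Fin (n + 1)) (Fin (n + 1)) F) i w
    have hsum : (∑ k, w k • (1 : Matrix (Fin (n + 1)) (Fin (n + 1)) F) k) = w := by
      funext l; simp [Finset.sum_apply, Matrix.one_apply]
    rw [hsum, det_one, smul_eq_mul, mul_one] at h
    exact h
  set N := ((1 : Matrix (Fin (n + 1)) (Fin (n + 1)) F).updateRow i w).submatrix
    (Equiv.swap 0 i) id with hN
  have hN0 : N 0 = w := by funext l; simp [hN]
  have hNdet : N.det ≠ 0 := by
    rw [hN, Matrix.det_permute, hdet]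
    exact mul_ne_zero ((Units.isUnit _).map (Int.castRingHom F)).ne_zero hi
  refine ⟨⟨N.updateRow 0 (N.det⁻¹ • N 0), ?_⟩, N.det, ?_⟩
  · rw [det_updateRow_smul, updateRow_eq_self, inv_mul_cancel₀ hNdet]
  · show w = N.det • (N.updateRow 0 (N.det⁻¹ • N 0)) 0
    rw [updateRow_self, smul_smul, mul_inv_cancel₀ hNdet, one_smul, hN0]

/-- A transvection is conjugate to one supported on the first column. -/
theorem exists_conj_first_col {n : ℕ} (t : Matrix.SpecialLinearGroup (Fin (n + 1)) F)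
    (ht : Cfsg.IsTransvection (t : Matrix (Fin (n + 1)) (Fin (n + 1)) F)) :
    ∃ (g : Matrix.SpecialLinearGroup (Fin (n + 1)) F) (v : Fin (n + 1) → F), v ≠ 0 ∧ v 0 = 0 ∧
      ((g⁻¹ * t * g : Matrix.SpecialLinearGroup (Fin (n + 1)) F) : Matrix (Fin (n + 1)) (Fin (n + 1)) F) =
        1 + vecMulVec v (Pi.single 0 1) := by
  obtain ⟨a, w, ha, hw, hwa, hta⟩ := exists_vecMulVec_of_isTransvection ht
  obtain ⟨M, c, hc⟩ := exists_SL_row w hw
  have hc0 : c ≠ 0 := fun h => hw (by rw [hc, h, zero_smul])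
  have hrow : w ᵥ* ((M⁻¹ : Matrix.SpecialLinearGroup _ F) : Matrix (Fin (n + 1)) (Fin (n + 1)) F) = c • Pi.single 0 1 := by
    rw [hc, smul_vecMul]
    congr 1
    rw [show (M : Matrix (Fin (n + 1)) (Fin (n + 1)) F) 0 = Pi.single 0 1 ᵥ* (M : Matrix (Fin (n + 1)) (Fin (n + 1)) F) from
      (single_one_vecMul _ _).symm, vecMul_vecMul, ← Matrix.SpecialLinearGroup.coe_mul, mul_inv_cancel,
      Matrix.SpecialLinearGroup.coe_one, vecMul_one]
  refine ⟨M⁻¹, c • ((M : Matrix (Fin (n + 1)) (Fin (n + 1)) F) *ᵥ a), ?_, ?_, ?_⟩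
  · intro h
    have h1 := congrArg (fun x => ((M⁻¹ : Matrix.SpecialLinearGroup _ F) : Matrix (Fin (n + 1)) (Fin (n + 1)) F) *ᵥ x)
      ((smul_eq_zero.1 h).resolve_left hc0)
    simp only [mulVec_mulVec, ← Matrix.SpecialLinearGroup.coe_mul, inv_mul_cancel,
      Matrix.SpecialLinearGroup.coe_one, one_mulVec, mulVec_zero] at h1
    exact ha h1
  · rw [hc, smul_dotProduct] at hwa
    exact hwa
  · rw [inv_inv, Matrix.SpecialLinearGroup.coe_mul, Matrix.SpecialLinearGroup.coe_mul, hta, mul_add, add_mul,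
      mul_one, ← Matrix.SpecialLinearGroup.coe_mul, mul_inv_cancel, Matrix.SpecialLinearGroup.coe_one,
      mul_vecMulVec, vecMulVec_mul, hrow, vecMulVec_smul, smul_vecMulVec]

/-- All transvections of `SL_3` are conjugate. -/
theorem isConj_transvection_three (t : Matrix.SpecialLinearGroup (Fin 3) F)
    (ht : Cfsg.IsTransvection (t : Matrix (Fin 3) (Fin 3) F)) :
    IsConj (Matrix.SpecialLinearGroup.transvection (show (1 : Fin 3) ≠ 0 by decide) (1 : F)) t := by
  obtain ⟨g, v, hv, hv0, hgt⟩ := exists_conj_first_col t ht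
  obtain ⟨P, hP⟩ : ∃ P : Matrix.SpecialLinearGroup (Fin 3) F,
      (P : Matrix (Fin 3) (Fin 3) F) *ᵥ Pi.single 1 1 = v ∧
      Pi.single 0 1 ᵥ* (P : Matrix (Fin 3) (Fin 3) F) = Pi.single 0 1 := by
    by_cases h1 : v 1 = 0
    · have h2 : v 2 ≠ 0 := fun h2 => hv (funext fun i => by fin_cases i <;> assumption)
      refine ⟨⟨!![1, 0, 0; 0, 0, -(v 2)⁻¹; 0, v 2, 0], by simp [det_fin_three, h2]⟩, ?_, ?_⟩
      · funext i; fin_cases i <;> simp [hv0, h1]
      · funext i; fin_cases i <;> simp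
    · refine ⟨⟨!![1, 0, 0; 0, v 1, 0; 0, v 2, (v 1)⁻¹], by simp [det_fin_three, h1]⟩, ?_, ?_⟩
      · funext i; fin_cases i <;> simp [hv0]
      · funext i; fin_cases i <;> simp
  have hT : Pi.single 0 1 ᵥ* ((P⁻¹ : Matrix.SpecialLinearGroup _ F) : Matrix (Fin 3) (Fin 3) F) = Pi.single 0 1 := by
    conv_lhs => rw [← hP.2]
    rw [vecMul_vecMul, ← Matrix.SpecialLinearGroup.coe_mul, mul_inv_cancel, Matrix.SpecialLinearGroup.coe_one,
      vecMul_one]
  refine isConj_iff.2 ⟨g * P, ?_⟩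
  have hE : (Matrix.SpecialLinearGroup.transvection (show (1 : Fin 3) ≠ 0 by decide) (1 : F) :
      Matrix (Fin 3) (Fin 3) F) = 1 + vecMulVec (Pi.single 1 1) (Pi.single 0 1) := by
    rw [Matrix.SpecialLinearGroup.transvection_coe]
    ext i j
    fin_cases i <;> fin_cases j <;> simp [vecMulVec_apply]
  have key : P * Matrix.SpecialLinearGroup.transvection (show (1 : Fin 3) ≠ 0 by decide) (1 : F) * P⁻¹ =
      g⁻¹ * t * g := by
    apply Subtype.ext
    rw [hgt, Matrix.SpecialLinearGroup.coe_mul, Matrix.SpecialLinearGroup.coe_mul, hE, mul_add, add_mul, mul_one,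
      ← Matrix.SpecialLinearGroup.coe_mul, mul_inv_cancel, Matrix.SpecialLinearGroup.coe_one, mul_vecMulVec,
      vecMulVec_mul, hP.1, hT]
  calc g * P * _ * (g * P)⁻¹ = g * (P * Matrix.SpecialLinearGroup.transvection
        (show (1 : Fin 3) ≠ 0 by decide) (1 : F) * P⁻¹) * g⁻¹ := by group
    _ = t := by rw [key]; group

/-- Involutions of `PSL_3(4)` are images of transvections. -/
theorem exists_transvection_of_orderOf_two [Fintype F] (hF : Fintype.card F = 4)
    (x : Matrix.ProjectiveSpecialLinearGroup (Fin 3) F) (hx : orderOf x = 2) :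
    ∃ t : Matrix.SpecialLinearGroup (Fin 3) F,
      Cfsg.IsTransvection (t : Matrix (Fin 3) (Fin 3) F) ∧ QuotientGroup.mk t = x := by
  obtain ⟨hx2, hx1⟩ := orderOf_eq_prime_iff.1 hx
  obtain ⟨A, rfl⟩ := QuotientGroup.mk_surjective x
  rw [← QuotientGroup.mk_pow, QuotientGroup.eq_one_iff] at hx2
  obtain ⟨c, hc, hcA⟩ := Matrix.SpecialLinearGroup.mem_center_iff.1 hx2
  rw [Fintype.card_fin] at hc
  have hC : (A ^ 2) ∈ Subgroup.center (Matrix.SpecialLinearGroup (Fin 3) F) := hx2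
  set t := A * A ^ 2
  have ht1 : (QuotientGroup.mk t : Matrix.ProjectiveSpecialLinearGroup (Fin 3) F) =
      QuotientGroup.mk A := by
    rw [QuotientGroup.mk_mul, (QuotientGroup.eq_one_iff (A ^ 2)).2 hC, mul_one]
  have ht2 : t ^ 2 = 1 := by
    have h3 : (A ^ 2) ^ 3 = 1 := by
      refine Subtype.ext ?_
      rw [Matrix.SpecialLinearGroup.coe_pow, ← hcA, ← map_pow, hc, map_one]
      rfl
    calc t ^ 2 = (A ^ 2) ^ 3 := by simp only [t]; group
      _ = 1 := h3
  refine ⟨t, ?_, ht1⟩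
  have hp := (CharP.exists F)
  obtain ⟨p, hp⟩ := hp
  obtain ⟨n, hprime, hn⟩ := FiniteField.card F p
  have : p = 2 := by
    rw [hF] at hn
    have hdvd : p ∣ 4 := hn ▸ dvd_pow_self p n.2.ne'
    have := Nat.le_of_dvd (by norm_num) hdvd
    interval_cases p <;> first | rfl | omega | norm_num at hprime
  subst this
  set N := (t : Matrix (Fin 3) (Fin 3) F) - 1 with hN
  have hN2 : N * N = 0 := by
    have h := congrArg (fun g : Matrix.SpecialLinearGroup (Fin 3) F => (g : Matrix (Fin 3) (Fin 3) F)) ht2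
    simp only [sq, Matrix.SpecialLinearGroup.coe_mul, Matrix.SpecialLinearGroup.coe_one] at h
    have h2 : (2 : Matrix (Fin 3) (Fin 3) F) = 0 := by
      ext i j
      simp [Matrix.ofNat_apply, CharTwo.two_eq_zero]
    calc N * N = (t : Matrix (Fin 3) (Fin 3) F) * t - 1 - 2 * N := by rw [hN]; noncomm_ring
      _ = 0 := by rw [h, h2, zero_mul, sub_self, sub_zero]
  have hN0 : N ≠ 0 := by
    intro h
    refine hx1 ?_
    rw [← ht1, show t = 1 from Subtype.ext (sub_eq_zero.1 h)]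
    rfl
  refine ⟨?_, hN2⟩
  have h1 : LinearMap.range N.mulVecLin ≤ LinearMap.ker N.mulVecLin := by
    rintro _ ⟨y, rfl⟩
    simp [LinearMap.mem_ker, mulVec_mulVec, hN2]
  have h2 := Submodule.finrank_mono h1
  have h3 := N.mulVecLin.finrank_range_add_finrank_ker
  rw [Module.finrank_fin_fun] at h3
  have h4 : N.rank ≠ 0 := by
    intro h
    rw [Matrix.rank, Submodule.finrank_eq_zero, LinearMap.range_eq_bot] at h
    refine hN0 (Matrix.ext fun i j => ?_)
    have := congrFun (LinearMap.congr_fun h (Pi.single j 1)) i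
    simpa using this
  change N.rank = 1
  rw [Matrix.rank] at h4 ⊢
  omega

end Cfsg.Agent.Forms
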