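import Cfsg.Agent.Forms.SympMatrix
import Cfsg.Agent.KnownB.Proj.Symp.Transv

/-!
`Sp₄(F)` over any field is generated by its eight root subgroups.
-/

set_option autoImplicit false

namespace Cfsg.Agent.Forms

open Matrix
open KnownB.Proj.Symp (T T_mulVec T_conj T_smul T_add sp_ext sp_mul_mulVec sp_inv_mulVec
  sp_mulVec_ne)

section Ring

variable (R : Type*) [CommRing R]

/-- The root vectors of type `C₂` in the order of the roots of the table of type `B₂`. -/
def rootE : Fin 8 → Matrix (Fin 2 ⊕ Fin 2) (Fin 2 ⊕ Fin 2) R :=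
  ![Matrix.fromBlocks 0 0 !![-1, 0; 0, 0] 0,
    Matrix.fromBlocks 0 0 !![0, -1; -1, 0] 0,
    Matrix.fromBlocks !![0, 0; 1, 0] 0 0 !![0, -1; 0, 0],
    Matrix.fromBlocks 0 0 !![0, 0; 0, 1] 0,
    Matrix.fromBlocks 0 !![0, 0; 0, 1] 0 0,
    Matrix.fromBlocks !![0, 1; 0, 0] 0 0 !![0, 0; -1, 0],
    Matrix.fromBlocks 0 !![0, -1; -1, 0] 0 0,
    Matrix.fromBlocks 0 !![-1, 0; 0, 0] 0 0]

theorem rootE_mul_self (r : Fin 8) : rootE R r * rootE R r = 0 := by
  fin_cases r <;> simp [rootE, Matrix.fromBlocks_multiply, Matrix.vecHead, Matrix.vecTail] <;>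
    (ext i j; fin_cases i <;> fin_cases j <;> simp)

theorem rootE_hamil (r : Fin 8) :
    rootE R r * Matrix.J (Fin 2) R + Matrix.J (Fin 2) R * (rootE R r).transpose = 0 ∧
      rootE R r * Matrix.J (Fin 2) R * (rootE R r).transpose = 0 := by
  fin_cases r <;> constructor <;>
    simp [rootE, Matrix.J, Matrix.fromBlocks_multiply, Matrix.fromBlocks_transpose,
      Matrix.fromBlocks_add] <;>
    (ext i j; fin_cases i <;> fin_cases j <;>
      simp [Matrix.vecMul, dotProduct, Fin.sum_univ_two])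

theorem rootE_mem (r : Fin 8) (t : R) :
    1 + t • rootE R r ∈ Matrix.symplecticGroup (Fin 2) R := by
  obtain ⟨h1, h2⟩ := rootE_hamil R r
  rw [SymplecticGroup.mem_iff]
  calc (1 + t • rootE R r) * Matrix.J (Fin 2) R * (1 + t • rootE R r).transpose
      = Matrix.J (Fin 2) R + t • (rootE R r * Matrix.J (Fin 2) R +
          Matrix.J (Fin 2) R * (rootE R r).transpose) +
          (t * t) • (rootE R r * Matrix.J (Fin 2) R * (rootE R r).transpose) := by
        simp only [Matrix.transpose_add, Matrix.transpose_smul, Matrix.transpose_one, Matrix.add_mul,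
          Matrix.mul_add, Matrix.one_mul, Matrix.mul_one, Matrix.smul_mul, Matrix.mul_smul, smul_smul,
          smul_add]
        abel
    _ = Matrix.J (Fin 2) R := by rw [h1, h2, smul_zero, smul_zero, add_zero, add_zero]

/-- The root elements. -/
def rootU (r : Fin 8) (t : R) : Matrix.symplecticGroup (Fin 2) R := ⟨_, rootE_mem R r t⟩

theorem rootU_val (r : Fin 8) (t : R) : (rootU R r t).1 = 1 + t • rootE R r := rfl

theorem rootU_inv_val (r : Fin 8) (t : R) :
    ((rootU R r t)⁻¹ : Matrix.symplecticGroup (Fin 2) R).1 = 1 - t • rootE R r := by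
  have h : (rootU R r t)⁻¹ = rootU R r (-t) := by
    refine inv_eq_of_mul_eq_one_right (Subtype.ext ?_)
    show (1 + t • rootE R r) * (1 + (-t) • rootE R r) = 1
    simp [Matrix.mul_add, Matrix.add_mul, rootE_mul_self]
  rw [h, rootU_val, neg_smul, sub_eq_add_neg]

end Ring

section Field

variable {F : Type*} [Field F]

local notation "Vm" => (Fin 2 ⊕ Fin 2 → F)

/-- The subgroup generated by the root elements. -/
def rootGen (F : Type*) [Field F] : Subgroup (Matrix.symplecticGroup (Fin 2) F) :=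
  Subgroup.closure {g | ∃ r t, g = rootU F r t}

theorem rootU_mem_rootGen (r : Fin 8) (t : F) : rootU F r t ∈ rootGen F :=
  Subgroup.subset_closure ⟨r, t, rfl⟩

/-- A vector from its four coordinates. -/
def fourVec (a b c d : F) : Vm := Sum.elim ![a, b] ![c, d]

theorem fourVec_eta (v : Vm) :
    v = fourVec (v (.inl 0)) (v (.inl 1)) (v (.inr 0)) (v (.inr 1)) := by
  funext i
  rcases i with i | i <;> fin_cases i <;> rfl

theorem rootU_fourVec (t a b c d : F) :
    (rootU F 0 t).1 *ᵥ fourVec a b c d = fourVec a b (c - t * a) d ∧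
    (rootU F 2 t).1 *ᵥ fourVec a b c d = fourVec a (b + t * a) (c - t * d) d ∧
    (rootU F 3 t).1 *ᵥ fourVec a b c d = fourVec a b c (d + t * b) ∧
    (rootU F 4 t).1 *ᵥ fourVec a b c d = fourVec a (b + t * d) c d ∧
    (rootU F 5 t).1 *ᵥ fourVec a b c d = fourVec (a + t * b) b c (d - t * c) ∧
    (rootU F 7 t).1 *ᵥ fourVec a b c d = fourVec (a - t * c) b c d := by
  refine ⟨?_, ?_, ?_, ?_, ?_, ?_⟩ <;>
    (funext i
     rcases i with i | i <;> fin_cases i <;>
      simp [rootU_val, rootE, fourVec, Matrix.mulVec, dotProduct, Fintype.sum_sum_type,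
        Matrix.one_apply] <;> ring)

/-- The root elements move every non-zero vector to the first basis vector. -/
theorem exists_rootGen_move (v : Vm) (hv : v ≠ 0) :
    ∃ g ∈ rootGen F, g.1 *ᵥ v = fourVec 1 0 0 0 := by
  suffices H : ∀ a b c d : F, fourVec a b c d ≠ 0 →
      ∃ g ∈ rootGen F, g.1 *ᵥ fourVec a b c d = fourVec 1 0 0 0 by
    rw [fourVec_eta v] at hv ⊢
    exact H _ _ _ _ hv
  have step : ∀ (r : Fin 8) (t : F) (x y : Vm), (rootU F r t).1 *ᵥ x = y →
      (∃ g ∈ rootGen F, g.1 *ᵥ y = fourVec 1 0 0 0) → ∃ g ∈ rootGen F, g.1 *ᵥ x = fourVec 1 0 0 0 := by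
    rintro r t x y hxy ⟨g, hg, hgy⟩
    exact ⟨g * rootU F r t, mul_mem hg (rootU_mem_rootGen r t), by rw [sp_mul_mulVec, hxy, hgy]⟩
  have h0 : ∀ t a b c d, (rootU F 0 t).1 *ᵥ fourVec a b c d = fourVec a b (c - t * a) d :=
    fun t a b c d => (rootU_fourVec t a b c d).1
  have h2 : ∀ t a b c d, (rootU F 2 t).1 *ᵥ fourVec a b c d = fourVec a (b + t * a) (c - t * d) d :=
    fun t a b c d => (rootU_fourVec t a b c d).2.1
  have h3 : ∀ t a b c d, (rootU F 3 t).1 *ᵥ fourVec a b c d = fourVec a b c (d + t * b) :=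
    fun t a b c d => (rootU_fourVec t a b c d).2.2.1
  have h4 : ∀ t a b c d, (rootU F 4 t).1 *ᵥ fourVec a b c d = fourVec a (b + t * d) c d :=
    fun t a b c d => (rootU_fourVec t a b c d).2.2.2.1
  have h5 : ∀ t a b c d, (rootU F 5 t).1 *ᵥ fourVec a b c d = fourVec (a + t * b) b c (d - t * c) :=
    fun t a b c d => (rootU_fourVec t a b c d).2.2.2.2.1
  have h7 : ∀ t a b c d, (rootU F 7 t).1 *ᵥ fourVec a b c d = fourVec (a - t * c) b c d :=
    fun t a b c d => (rootU_fourVec t a b c d).2.2.2.2.2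
  have fin : ∃ g ∈ rootGen F, g.1 *ᵥ fourVec 1 0 0 0 = fourVec (1 : F) 0 0 0 :=
    ⟨1, one_mem _, Matrix.one_mulVec _⟩
  -- second coordinate one, last coordinate zero
  have hB : ∀ a c, ∃ g ∈ rootGen F, g.1 *ᵥ fourVec a (1 : F) c 0 = fourVec 1 0 0 0 := by
    intro a c
    refine step 5 (1 - a) _ (fourVec 1 1 c (0 - (1 - a) * c)) (by rw [h5]; congr 1 <;> ring) ?_
    refine step 3 ((1 - a) * c) _ (fourVec 1 1 c 0) (by rw [h3]; congr 1; ring) ?_
    refine step 0 c _ (fourVec 1 1 0 0) (by rw [h0]; congr 1; ring) ?_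
    exact step 2 (-1) _ _ (by rw [h2]; congr 1 <;> ring) fin
  -- first coordinate one, in the first plane
  have hA : ∀ c, ∃ g ∈ rootGen F, g.1 *ᵥ fourVec (1 : F) 0 c 0 = fourVec 1 0 0 0 := fun c =>
    step 0 c _ _ (by rw [h0]; congr 1; ring) fin
  intro a b c d hne
  by_cases hd : d = 0
  · subst hd
    by_cases hb : b = 0
    · subst hb
      by_cases hc : c = 0
      · subst hc
        have ha : a ≠ 0 := fun h => hne (by
          subst h
          funext i
          rcases i with i | i <;> fin_cases i <;> rfl)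
        refine step 0 (-a⁻¹) _ (fourVec a 0 1 0) (by rw [h0]; congr 1; field_simp; ring) ?_
        exact step 7 (a - 1) _ (fourVec 1 0 1 0) (by rw [h7]; congr 1; ring) (hA 1)
      · exact step 7 ((a - 1) / c) _ (fourVec 1 0 c 0) (by rw [h7]; congr 1; field_simp; ring) (hA c)
    · refine step 3 (1 / b) _ (fourVec a b c 1) (by rw [h3]; congr 1; field_simp; ring) ?_
      refine step 4 (1 - b) _ (fourVec a 1 c 1) (by rw [h4]; congr 1; ring) ?_
      exact step 3 (-1) _ (fourVec a 1 c 0) (by rw [h3]; congr 1; ring) (hB a c)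
  · refine step 4 ((1 - b) / d) _ (fourVec a 1 c d) (by rw [h4]; congr 1; field_simp; ring) ?_
    exact step 3 (-d) _ (fourVec a 1 c 0) (by rw [h3]; congr 1; ring) (hB a c)

/-- The root elements generate `Sp₄`. -/
theorem rootGen_eq_top : rootGen F = ⊤ := by
  refine eq_top_iff.2 ?_
  rw [← symplectic_transvection_closure, Subgroup.closure_le]
  rintro A ⟨w, c, hA⟩
  rw [show A = T w c from Subtype.ext hA]
  rcases eq_or_ne w 0 with rfl | hw
  · rw [show T (0 : Vm) c = 1 from sp_ext fun x => by simp [T_mulVec]]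
    exact one_mem _
  obtain ⟨g, hg, hgw⟩ := exists_rootGen_move w hw
  have h1 : T (fourVec 1 0 0 0 : Vm) c ∈ rootGen F := by
    suffices h : ∃ t, T (fourVec 1 0 0 0 : Vm) c = rootU F 7 t by
      obtain ⟨t, ht⟩ := h
      rw [ht]
      exact rootU_mem_rootGen _ _
    refine ⟨-c, sp_ext fun x => ?_⟩
    rw [T_mulVec, sympForm_eq, Fin.sum_univ_two, fourVec_eta x,
      (rootU_fourVec (-c) _ _ _ _).2.2.2.2.2]
    funext i
    rcases i with i | i <;> fin_cases i <;> simp [fourVec]
  have h2 := T_conj g⁻¹ (fourVec 1 0 0 0 : Vm) c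
  rw [← hgw, sp_inv_mulVec] at h2
  rw [← h2, hgw, inv_inv]
  exact mul_mem (mul_mem (inv_mem hg) h1) hg

end Field

end Cfsg.Agent.Forms
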