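import Cfsg.Prelude.Def_ChevB2
import Cfsg.Prelude.Def_Classical
import Cfsg.Agent.Chev.Sparse
import Cfsg.Agent.Forms.SpFourRoots

/-!
The adjoint representation of `Sp₄(F)` on the Chevalley basis of type `B₂ = C₂`: the group generated
by the matrices `x_r(t)` is `PSp₄(F)`.
-/

set_option autoImplicit false

namespace Cfsg.Agent.Forms

open Matrix
open Cfsg.Lie (chevB2)

local notation "Ix" => (Fin 2 ⊕ Fin 8)
local notation "M4" R:max => Matrix (Fin 2 ⊕ Fin 2) (Fin 2 ⊕ Fin 2) R

section Ring

variable (R : Type*) [CommRing R]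

/-- The Chevalley basis of the Lie algebra of `Sp₄`. -/
def adBasis : Ix → M4 R :=
  Sum.elim
    ![Matrix.diagonal (Sum.elim ![1, -1] ![-1, 1]), Matrix.diagonal (Sum.elim ![0, 1] ![0, -1])]
    (rootE R)

variable {R}

/-- The coordinates on the Chevalley basis. -/
def adCo (Y : M4 R) : Ix → R :=
  Sum.elim ![Y (.inl 0) (.inl 0), Y (.inl 0) (.inl 0) + Y (.inl 1) (.inl 1)]
    ![-Y (.inr 0) (.inl 0), -Y (.inr 1) (.inl 0), Y (.inl 1) (.inl 0), Y (.inr 1) (.inl 1),
      Y (.inl 1) (.inr 1), Y (.inl 0) (.inl 1), -Y (.inl 0) (.inr 1), -Y (.inl 0) (.inr 0)]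

theorem adCo_add (Y Z : M4 R) : adCo (Y + Z) = adCo Y + adCo Z := by
  funext k
  rcases k with k | k <;> fin_cases k <;> simp [adCo] <;> ring1

theorem adCo_smul (c : R) (Y : M4 R) : adCo (c • Y) = c • adCo Y := by
  funext k
  rcases k with k | k <;> fin_cases k <;> simp [adCo] <;> ring1

/-- The coordinates as a linear map. -/
def adCoL : M4 R →ₗ[R] (Ix → R) where
  toFun := adCo
  map_add' := adCo_add
  map_smul' := adCo_smul

theorem adCo_map {S : Type*} [CommRing S] (f : R →+* S) (Y : M4 R) (k : Ix) :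
    adCo (Y.map f) k = f (adCo Y k) := by
  rcases k with k | k <;> fin_cases k <;> simp [adCo]

variable (R)

theorem adBasis_map (j : Ix) : adBasis R j = (adBasis ℤ j).map (Int.castRingHom R) := by
  ext a b
  rcases j with j | j <;> fin_cases j <;> rcases a with a | a <;> rcases b with b | b <;>
    fin_cases a <;> fin_cases b <;> simp [adBasis, rootE]

variable {R}

/-- Every element of the Lie algebra is the combination of its coordinates. -/
theorem adCo_sum {Y : M4 R} (h : (Y * Matrix.J (Fin 2) R).IsSymm) :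
    ∑ k, adCo Y k • adBasis R k = Y := by
  have e : ∀ a b, (Y * Matrix.J (Fin 2) R) b a = (Y * Matrix.J (Fin 2) R) a b := fun a b => h.apply a b
  simp only [Matrix.mul_apply, Matrix.J, Fintype.sum_sum_type, Fin.sum_univ_two] at e
  have e1 := e (.inl 0) (.inl 1)
  have e2 := e (.inl 0) (.inr 0)
  have e3 := e (.inl 0) (.inr 1)
  have e4 := e (.inl 1) (.inr 0)
  have e5 := e (.inl 1) (.inr 1)
  have e6 := e (.inr 0) (.inr 1)
  simp at e1 e2 e3 e4 e5 e6
  rw [Fintype.sum_sum_type]
  show ∑ i : Fin 2, _ + ∑ s : Fin 8, _ = _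
  rw [Fin.sum_univ_two, Fin.sum_univ_eight]
  ext a b
  simp only [Matrix.add_apply, Matrix.smul_apply, smul_eq_mul]
  rcases a with a | a <;> rcases b with b | b <;> fin_cases a <;> fin_cases b <;>
    simp [adCo, adBasis, rootE, e1, e2, e3, e4, e5, e6]

theorem adBasis_symm (j : Ix) : (adBasis R j * Matrix.J (Fin 2) R).IsSymm := by
  have h : (adBasis ℤ j * Matrix.J (Fin 2) ℤ).IsSymm := by
    revert j
    unfold Matrix.IsSymm
    decide +kernel
  have hJ : Matrix.J (Fin 2) R = (Matrix.J (Fin 2) ℤ).map (Int.castRingHom R) := by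
    ext a b
    rcases a with a | a <;> rcases b with b | b <;> simp [Matrix.J, Matrix.one_apply]
  rw [adBasis_map R j, hJ, ← Matrix.map_mul]
  exact h.map _

theorem adCo_adBasis (j k : Ix) : adCo (adBasis R j) k = if k = j then 1 else 0 := by
  have h : adCo (adBasis ℤ j) k = if k = j then 1 else 0 := by
    revert j k
    decide +kernel
  rw [adBasis_map R j, adCo_map, h]
  split_ifs <;> simp

end Ring

section Field

variable (F : Type*) [Field F]

/-- The matrix of the conjugation by `g` on the Chevalley basis. -/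
def adMat (g : Matrix.symplecticGroup (Fin 2) F) : Matrix Ix Ix F :=
  Matrix.of fun k j => adCo (g.1 * adBasis F j * (g⁻¹ : Matrix.symplecticGroup (Fin 2) F).1) k

variable {F}

theorem conj_symm (g : Matrix.symplecticGroup (Fin 2) F) {Y : M4 F}
    (h : (Y * Matrix.J (Fin 2) F).IsSymm) :
    (g.1 * Y * (g⁻¹ : Matrix.symplecticGroup (Fin 2) F).1 * Matrix.J (Fin 2) F).IsSymm := by
  have hg : g.1 * Matrix.J (Fin 2) F * g.1.transpose = Matrix.J (Fin 2) F :=
    SymplecticGroup.mem_iff.1 g.2
  have hinv : (g⁻¹ : Matrix.symplecticGroup (Fin 2) F).1 * g.1 = 1 :=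
    congrArg Subtype.val (inv_mul_cancel g)
  have h1 : (g⁻¹ : Matrix.symplecticGroup (Fin 2) F).1 * Matrix.J (Fin 2) F =
      Matrix.J (Fin 2) F * g.1.transpose := by
    conv_lhs => rw [← hg]
    rw [← Matrix.mul_assoc, ← Matrix.mul_assoc, hinv, Matrix.one_mul]
  have h2 : g.1 * Y * (g⁻¹ : Matrix.symplecticGroup (Fin 2) F).1 * Matrix.J (Fin 2) F =
      g.1 * (Y * Matrix.J (Fin 2) F) * g.1.transpose := by
    rw [Matrix.mul_assoc _ _ (Matrix.J (Fin 2) F), h1]
    simp only [Matrix.mul_assoc]
  rw [h2, Matrix.IsSymm, Matrix.transpose_mul, Matrix.transpose_mul, Matrix.transpose_transpose, h.eq]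
  simp only [Matrix.mul_assoc]

theorem adCo_conj_sum (g : Matrix.symplecticGroup (Fin 2) F) (j : Ix) :
    ∑ k, adMat F g k j • adBasis F k =
      g.1 * adBasis F j * (g⁻¹ : Matrix.symplecticGroup (Fin 2) F).1 :=
  adCo_sum (conj_symm g (adBasis_symm j))

theorem adMat_one : adMat F 1 = 1 := by
  ext k j
  simp [adMat, adCo_adBasis, Matrix.one_apply]

theorem adMat_mul (g h : Matrix.symplecticGroup (Fin 2) F) :
    adMat F (g * h) = adMat F g * adMat F h := by
  ext k j
  have e : (g * h).1 * adBasis F j * ((g * h)⁻¹ : Matrix.symplecticGroup (Fin 2) F).1 =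
      ∑ m, adMat F h m j • (g.1 * adBasis F m * (g⁻¹ : Matrix.symplecticGroup (Fin 2) F).1) := by
    rw [_root_.mul_inv_rev]
    show g.1 * h.1 * adBasis F j *
      ((h⁻¹ : Matrix.symplecticGroup (Fin 2) F).1 * (g⁻¹ : Matrix.symplecticGroup (Fin 2) F).1) = _
    calc _ = g.1 * (∑ m, adMat F h m j • adBasis F m) *
          (g⁻¹ : Matrix.symplecticGroup (Fin 2) F).1 := by
          rw [adCo_conj_sum h j]; simp only [Matrix.mul_assoc]
      _ = _ := by simp only [Matrix.mul_sum, Matrix.sum_mul, Matrix.mul_smul, Matrix.smul_mul]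
  show adCo _ k = _
  rw [e, show adCo (∑ m, adMat F h m j • (g.1 * adBasis F m *
      (g⁻¹ : Matrix.symplecticGroup (Fin 2) F).1)) = adCoL (∑ m, adMat F h m j •
        (g.1 * adBasis F m * (g⁻¹ : Matrix.symplecticGroup (Fin 2) F).1)) from rfl, map_sum,
    Finset.sum_apply, Matrix.mul_apply]
  refine Finset.sum_congr rfl fun m _ => ?_
  rw [map_smul, Pi.smul_apply, smul_eq_mul, mul_comm]
  rfl

variable (F)

/-- The adjoint representation. -/
noncomputable def adHom : Matrix.symplecticGroup (Fin 2) F →* GL Ix F :=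
  MonoidHom.toHomUnits
    { toFun := adMat F
      map_one' := adMat_one
      map_mul' := adMat_mul }

theorem adHom_val (g : Matrix.symplecticGroup (Fin 2) F) : (adHom F g : Matrix Ix Ix F) = adMat F g :=
  rfl

theorem adData : ∀ (r : Fin 8) (k j : Ix),
    (Chev.entryVal (Chev.colA chevB2 r 1 (Chev.idxN chevB2 j)) (Chev.idxN chevB2 k) =
        adCo (rootE ℤ r * adBasis ℤ j - adBasis ℤ j * rootE ℤ r) k) ∧
    (Chev.entryVal (Chev.colA chevB2 r 2 (Chev.idxN chevB2 j)) (Chev.idxN chevB2 k) =
        -adCo (rootE ℤ r * adBasis ℤ j * rootE ℤ r) k) ∧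
    (Chev.entryVal (Chev.colA chevB2 r 3 (Chev.idxN chevB2 j)) (Chev.idxN chevB2 k) = (0 : ℤ)) := by
  decide +kernel

theorem entryVal_cast (L : List (ℕ × ℤ)) (k : ℕ) :
    (Chev.entryVal L k : F) = ((Chev.entryVal L k : ℤ) : F) := by
  induction L with
  | nil => simp [Chev.entryVal]
  | cons a L ih =>
    simp only [Chev.entryVal, List.map_cons, List.sum_cons] at ih ⊢
    rw [ih]
    split <;> simp

theorem rootE_map (r : Fin 8) : rootE F r = (rootE ℤ r).map (Int.castRingHom F) := by
  simpa [adBasis] using adBasis_map F (Sum.inr r : Ix)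

theorem adMat_rootU (r : Fin 8) (t : F) :
    adMat F (rootU F r t) = chevB2.xMat F r t := by
  ext k j
  refine Eq.trans ?_
    (Chev.xMat_entry (D := chevB2) (by decide +kernel) (by decide +kernel) (by decide +kernel) r t k j).symm
  obtain ⟨d1, d2, d3⟩ := adData r k j
  have hc1 : ((adCo (rootE ℤ r * adBasis ℤ j - adBasis ℤ j * rootE ℤ r) k : ℤ) : F) =
      adCo (rootE F r * adBasis F j - adBasis F j * rootE F r) k := by
    show (Int.castRingHom F) _ = _
    rw [← adCo_map, Matrix.map_sub _ (fun a b => map_sub _ a b), Matrix.map_mul,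
      Matrix.map_mul, ← adBasis_map, ← rootE_map]
  have hc2 : ((adCo (rootE ℤ r * adBasis ℤ j * rootE ℤ r) k : ℤ) : F) =
      adCo (rootE F r * adBasis F j * rootE F r) k := by
    show (Int.castRingHom F) _ = _
    rw [← adCo_map, Matrix.map_mul, Matrix.map_mul, ← adBasis_map, ← rootE_map]
  have e : (rootU F r t).1 * adBasis F j * ((rootU F r t)⁻¹ : Matrix.symplecticGroup (Fin 2) F).1 =
      adBasis F j + t • (rootE F r * adBasis F j - adBasis F j * rootE F r) +
        (-(t * t)) • (rootE F r * adBasis F j * rootE F r) := by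
    rw [rootU_inv_val, rootU_val]
    simp only [Matrix.add_mul, Matrix.one_mul, Matrix.mul_sub, Matrix.mul_one, Matrix.smul_mul,
      Matrix.mul_smul, smul_sub, neg_smul]
    module
  show adCo _ k = _
  rw [e, adCo_add, adCo_add, adCo_smul, adCo_smul]
  simp only [Pi.add_apply, Pi.smul_apply, smul_eq_mul, adCo_adBasis, Finset.sum_range_succ,
    Finset.sum_range_zero, zero_add, entryVal_cast F, d1, d2, d3, Int.cast_neg, Int.cast_zero, hc1, hc2]
  split_ifs <;> first | ring1 | contradiction

theorem range_adHom : (adHom F).range = chevB2.group F := by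
  rw [MonoidHom.range_eq_map, ← rootGen_eq_top (F := F), rootGen, MonoidHom.map_closure]
  refine congrArg Subgroup.closure (Set.ext fun g => ?_)
  constructor
  · rintro ⟨_, ⟨r, t, rfl⟩, rfl⟩
    exact ⟨r, t, adMat_rootU F r t⟩
  · rintro ⟨r, t, h⟩
    exact ⟨_, ⟨r, t, rfl⟩, Units.ext ((adMat_rootU F r t).trans h.symm)⟩

theorem ker_adHom : (adHom F).ker = Subgroup.center (Matrix.symplecticGroup (Fin 2) F) := by
  ext g
  rw [MonoidHom.mem_ker, Subgroup.mem_center_iff]
  have hinv : g.1 * (g⁻¹ : Matrix.symplecticGroup (Fin 2) F).1 = 1 :=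
    congrArg Subtype.val (mul_inv_cancel g)
  have hinv' : (g⁻¹ : Matrix.symplecticGroup (Fin 2) F).1 * g.1 = 1 :=
    congrArg Subtype.val (inv_mul_cancel g)
  constructor
  · intro h
    have hm : adMat F g = 1 := congrArg Units.val h
    have hc : ∀ r, g.1 * rootE F r = rootE F r * g.1 := fun r => by
      have h2 := adCo_conj_sum g (Sum.inr r : Ix)
      rw [hm] at h2
      simp only [Matrix.one_apply, ite_smul, one_smul, zero_smul, Finset.sum_ite_eq', Finset.mem_univ,
        if_true] at h2
      conv_rhs => rw [show rootE F r = adBasis F (Sum.inr r : Ix) from rfl, h2]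
      rw [Matrix.mul_assoc, hinv', Matrix.mul_one]
      rfl
    intro x
    have hx : x ∈ rootGen F := by rw [rootGen_eq_top]; trivial
    have hle : rootGen F ≤ Subgroup.centralizer {g} := by
      refine (Subgroup.closure_le _).2 ?_
      rintro _ ⟨r, t, rfl⟩
      refine Subgroup.mem_centralizer_singleton_iff.2 (Subtype.ext ?_)
      show (rootU F r t).1 * g.1 = g.1 * (rootU F r t).1
      rw [rootU_val, Matrix.add_mul, Matrix.mul_add, Matrix.smul_mul, Matrix.mul_smul, hc r,
        Matrix.one_mul, Matrix.mul_one]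
    exact Subgroup.mem_centralizer_singleton_iff.1 (hle hx)
  · intro h
    refine Units.ext ?_
    show adMat F g = 1
    have hc : ∀ r, g.1 * rootE F r = rootE F r * g.1 := fun r => by
      have h2 : (rootU F r 1).1 * g.1 = g.1 * (rootU F r 1).1 := congrArg Subtype.val (h (rootU F r 1))
      rw [rootU_val, one_smul, Matrix.add_mul, Matrix.mul_add, Matrix.one_mul, Matrix.mul_one] at h2
      exact (add_left_cancel h2).symm
    have hh : ∀ j : Ix, g.1 * adBasis F j = adBasis F j * g.1 := by
      have comm : ∀ a b, g.1 * (rootE F a * rootE F b - rootE F b * rootE F a) =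
          (rootE F a * rootE F b - rootE F b * rootE F a) * g.1 := fun a b => by
        rw [Matrix.mul_sub, Matrix.sub_mul, ← Matrix.mul_assoc, ← Matrix.mul_assoc, hc a, hc b,
          Matrix.mul_assoc, Matrix.mul_assoc, hc a, hc b, ← Matrix.mul_assoc, ← Matrix.mul_assoc]
      have k1 : adBasis ℤ (Sum.inl (0 : Fin 2) : Ix) = rootE ℤ 5 * rootE ℤ 2 - rootE ℤ 2 * rootE ℤ 5 := by
        decide +kernel
      have k2 : adBasis ℤ (Sum.inl (1 : Fin 2) : Ix) = rootE ℤ 4 * rootE ℤ 3 - rootE ℤ 3 * rootE ℤ 4 := by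
        decide +kernel
      rintro (j | r)
      · obtain rfl | rfl : j = 0 ∨ j = 1 := by omega
        · convert comm 5 2 using 2 <;>
            rw [adBasis_map, k1, Matrix.map_sub _ (fun a b => map_sub _ a b), Matrix.map_mul,
              Matrix.map_mul, ← rootE_map, ← rootE_map]
        · convert comm 4 3 using 2 <;>
            rw [adBasis_map, k2, Matrix.map_sub _ (fun a b => map_sub _ a b), Matrix.map_mul,
              Matrix.map_mul, ← rootE_map, ← rootE_map]
      · exact hc r
    ext k j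
    show adCo _ k = _
    rw [hh j, Matrix.mul_assoc, hinv, Matrix.mul_one, adCo_adBasis, Matrix.one_apply]

/-- `B₂(F) ≅ PSp₄(F)`. -/
noncomputable def chevB2EquivPSp : Cfsg.PSp 2 F ≃* chevB2.group F :=
  (QuotientGroup.quotientMulEquivOfEq (ker_adHom F).symm).trans
    ((QuotientGroup.quotientKerEquivRange (adHom F)).trans
      (MulEquiv.subgroupCongr (range_adHom F)))

end Field

end Cfsg.Agent.Forms
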