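import Cfsg.Agent.Forms.PrimeGraphTools
import Cfsg.Agent.Forms.SympDichotomy

/-!
# Adjacency in the prime graph of `PSp_{2n}(q)`, away from the prime two

A semisimple isometry of prime order `r` moves at least `2η(k)` dimensions, `k` the order of `q`
modulo `r`: on an invariant cyclic line it is either a norm one element of a quadratic extension, or
the line is totally isotropic.
-/

set_option autoImplicit false

namespace Cfsg.Agent.Forms

open Module Polynomial
open LinearMap (BilinForm)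

variable {F : Type*} [Field F]

/-! ### Orders modulo a prime -/

/-- The `η` of an order: itself when odd, its half when even. -/
def EtaOf (k η : ℕ) : Prop := (Odd k ∧ η = k) ∨ (Even k ∧ 2 * η = k)

theorem dvd_pow_sub_one_iff {q r d : ℕ} (hq : 1 ≤ q) :
    r ∣ q ^ d - 1 ↔ orderOf ((q : ℕ) : ZMod r) ∣ d := by
  rw [orderOf_dvd_iff_pow_eq_one, ← ZMod.natCast_eq_zero_iff,
    Nat.cast_sub (Nat.one_le_pow _ _ hq), Nat.cast_pow, Nat.cast_one, sub_eq_zero]

theorem orderOf_mod_pos {q r : ℕ} [Fact r.Prime] (hr : ¬ r ∣ q) :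
    0 < orderOf ((q : ℕ) : ZMod r) := by
  refine Nat.pos_of_ne_zero fun h => ?_
  have h1 : orderOf ((q : ℕ) : ZMod r) ∣ r - 1 :=
    orderOf_dvd_of_pow_eq_one (ZMod.pow_card_sub_one_eq_one
      (fun h0 => hr ((ZMod.natCast_eq_zero_iff q r).1 h0)))
  rw [h, zero_dvd_iff] at h1
  have := (Fact.out : r.Prime).two_le
  omega

theorem half_data {q r h : ℕ} [Fact r.Prime] (hr2 : r ≠ 2) {k η : ℕ}
    (hk : k = orderOf ((q : ℕ) : ZMod r)) (hη : EtaOf k η) (hd : r ∣ q ^ h + 1) :
    Even k ∧ η ∣ h ∧ ∀ t, h = η * t → Odd t := by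
  have h1 : ((q : ℕ) : ZMod r) ^ h = -1 := by
    refine eq_neg_of_add_eq_zero_left ?_
    have := (ZMod.natCast_eq_zero_iff (q ^ h + 1) r).2 hd
    push_cast at this
    exact this
  have h2 : k ∣ 2 * h := by
    rw [hk, orderOf_dvd_iff_pow_eq_one, mul_comm, pow_mul, h1]; simp
  have hne : ¬ k ∣ h := by
    rw [hk, orderOf_dvd_iff_pow_eq_one, h1]
    intro h3
    have h4 : ((2 : ℕ) : ZMod r) = 0 := by push_cast; linear_combination -h3
    exact hr2 ((Nat.prime_dvd_prime_iff_eq Fact.out Nat.prime_two).1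
      ((ZMod.natCast_eq_zero_iff 2 r).1 h4))
  have hev : Even k := by
    rcases Nat.even_or_odd k with he | ho
    · exact he
    · exact absurd ((Nat.coprime_two_right.2 ho).dvd_of_dvd_mul_left h2) hne
  rcases hη with ⟨ho, -⟩ | ⟨-, he⟩
  · exact absurd hev (Nat.not_even_iff_odd.2 ho)
  refine ⟨hev, Nat.dvd_of_mul_dvd_mul_left two_pos (he ▸ h2), fun t ht => ?_⟩
  refine Nat.not_even_iff_odd.1 fun hte => hne ?_
  obtain ⟨u, rfl⟩ := hte
  exact ⟨u, by rw [ht, ← he]; ring⟩

theorem eta_le {k η : ℕ} (hη : EtaOf k η) : η ≤ k := by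
  rcases hη with ⟨-, rfl⟩ | ⟨-, he⟩ <;> omega

theorem eta_pos {k η : ℕ} (hη : EtaOf k η) (hk : 0 < k) : 0 < η := by
  rcases hη with ⟨-, rfl⟩ | ⟨-, he⟩ <;> omega

/-- `r` divides `q ^ η + 1` or `q ^ η - 1`. -/
theorem dvd_eta_torus {q r : ℕ} [Fact r.Prime] (hq : 1 ≤ q) {k η : ℕ}
    (hk : k = orderOf ((q : ℕ) : ZMod r)) (hk0 : 0 < k) (hη : EtaOf k η) :
    (Odd k ∧ r ∣ q ^ η - 1) ∨ (Even k ∧ r ∣ q ^ η + 1) := by
  rcases hη with ⟨ho, rfl⟩ | ⟨he, h2⟩
  · exact Or.inl ⟨ho, (dvd_pow_sub_one_iff hq).2 (hk ▸ dvd_rfl)⟩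
  refine Or.inr ⟨he, ?_⟩
  rw [← ZMod.natCast_eq_zero_iff]
  push_cast
  have hsq : ((q : ℕ) : ZMod r) ^ η * ((q : ℕ) : ZMod r) ^ η = 1 := by
    rw [← pow_add, ← two_mul, h2, hk, pow_orderOf_eq_one]
  rcases mul_self_eq_one_iff.1 hsq with h | h
  · have := orderOf_dvd_of_pow_eq_one h
    rw [← hk] at this
    have := Nat.le_of_dvd (by omega) this
    omega
  · rw [h, neg_add_cancel]

/-! ### Cyclic lines -/

section Line

variable [Fintype F] {V : Type*} [AddCommGroup V] [Module F V] [FiniteDimensional F V]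
  {B : BilinForm F V} {a : V ≃ₗ[F] V}

/-- A totally isotropic subspace has at most half the dimension. -/
theorem isotropic_finrank_le (hA : B.IsAlt) (hB : B.Nondegenerate) {M : Submodule F V}
    (hM : ∀ x ∈ M, ∀ y ∈ M, B x y = 0) : finrank F M + finrank F M ≤ finrank F V := by
  have hle : M ≤ B.orthogonal M := fun y hy x hx => hM x hx y hy
  have h1 := LinearMap.BilinForm.finrank_orthogonal hB M
  have h2 := Submodule.finrank_mono hle
  have h3 := Submodule.finrank_le M
  omega

theorem line_range_le {S : Submodule F V} (hS : ∀ v ∈ S, a v ∈ S) (q : F[X]) {v : V} (hv : v ∈ S) :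
    aeval (a : Module.End F V) q v ∈ S := by
  induction q using Polynomial.induction_on' with
  | add p q hp hq => rw [map_add, LinearMap.add_apply]; exact S.add_mem hp hq
  | monomial k c =>
    rw [aeval_monomial, ← Algebra.smul_def, LinearMap.smul_apply]
    refine S.smul_mem _ ?_
    induction k with
    | zero => simpa using hv
    | succ k ih => rw [pow_succ', Module.End.mul_apply]; exact hS _ ih

/-- A cyclic line inside an invariant subspace. -/
theorem exists_line (hA : B.IsAlt) (ha : ∀ x y, B (a x) (a y) = B x y) {S : Submodule F V}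
    (hS : ∀ v ∈ S, a v ∈ S) (h0 : S ≠ ⊥) :
    ∃ M : Submodule F V, M ≤ S ∧ M ≠ ⊥ ∧
      (∀ v ∈ M, (a ^ (Fintype.card F ^ finrank F M - 1)) v = v) ∧
      ((∃ h, finrank F M = h + h ∧ ∀ v ∈ M, (a ^ (Fintype.card F ^ h + 1)) v = v) ∨
        ∀ x ∈ M, ∀ y ∈ M, B x y = 0) := by
  classical
  obtain ⟨v₀, hv₀, hv₀0⟩ := Submodule.exists_mem_ne_zero_of_ne_bot h0
  set c : Module.End F V := (a : Module.End F V)
  have key : ∀ (d : ℕ) (P : F[X]), P.natDegree ≤ d → P ≠ 0 → ∀ v ∈ S, v ≠ 0 → aeval c P v = 0 →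
      ∃ f : F[X], f.Monic ∧ Irreducible f ∧ ∃ w ∈ S, w ≠ 0 ∧ aeval c f w = 0 := by
    intro d
    induction d with
    | zero =>
      intro P hP hP0 v hv hv0 h
      rw [eq_C_of_natDegree_le_zero hP, aeval_C, Module.algebraMap_end_apply, smul_eq_zero] at h
      exact absurd (h.resolve_right hv0) fun hc => hP0 (by
        rw [eq_C_of_natDegree_le_zero hP, hc, map_zero])
    | succ d ih =>
      intro P hP hP0 v hv hv0 h
      by_cases hu : IsUnit P
      · obtain ⟨u, huu, rfl⟩ := Polynomial.isUnit_iff.1 hu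
        rw [aeval_C, Module.algebraMap_end_apply, smul_eq_zero] at h
        exact absurd (h.resolve_right hv0) huu.ne_zero
      obtain ⟨f, hfm, hfi, g, rfl⟩ := Polynomial.exists_monic_irreducible_factor P hu
      by_cases hg : aeval c g v = 0
      · have hg0 : g ≠ 0 := fun h0 => hP0 (by rw [h0, mul_zero])
        have hd : g.natDegree ≤ d := by
          rw [natDegree_mul hfm.ne_zero hg0] at hP
          have := hfi.natDegree_pos
          omega
        exact ih g hd hg0 v hv hv0 hg
      · refine ⟨f, hfm, hfi, _, line_range_le hS g hv, hg, ?_⟩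
        rwa [map_mul, Module.End.mul_apply] at h
  obtain ⟨f, hmon, hirr, v, hv, hv0, hfv⟩ := key _ (minpoly F c) le_rfl
    (minpoly.ne_zero (Algebra.IsIntegral.isIntegral c)) v₀ hv₀ hv₀0 (by rw [minpoly.aeval]; rfl)
  obtain ⟨φ, hi, hφ1, hφ⟩ := exists_cyclic c hirr hmon hv0 hfv
  haveI := Fact.mk hirr
  haveI : Module.Finite F (AdjoinRoot f) := (AdjoinRoot.powerBasis hirr.ne_zero).finite
  haveI : Finite (AdjoinRoot f) := Module.finite_of_finite F
  haveI := Fintype.ofFinite (AdjoinRoot f)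
  have hdim : finrank F (LinearMap.range φ) = f.natDegree := by
    rw [LinearMap.finrank_range_of_inj hi, (AdjoinRoot.powerBasis hirr.ne_zero).finrank,
      AdjoinRoot.powerBasis_dim]
  have hr0 : AdjoinRoot.root f ≠ 0 := cyclic_root_ne_zero hi hφ
  have hpow : ∀ (m : ℕ) x, (a ^ m) (φ x) = φ (AdjoinRoot.root f ^ m * x) := by
    intro m
    induction m with
    | zero => intro x; simp
    | succ m ih =>
      intro x
      rw [pow_succ', LinearEquiv.mul_apply, ih, cyclic_root hφ, pow_succ', mul_assoc]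
  refine ⟨LinearMap.range φ, ?_, fun hb => hv0 ?_, ?_, ?_⟩
  · rintro _ ⟨x, rfl⟩
    obtain ⟨q, rfl⟩ := AdjoinRoot.mk_surjective x
    rw [← mul_one (AdjoinRoot.mk f q), hφ, hφ1]
    exact line_range_le hS q hv
  · have h1 : φ 1 ∈ LinearMap.range φ := LinearMap.mem_range_self φ 1
    rw [hb, Submodule.mem_bot, hφ1] at h1
    exact h1
  · rintro _ ⟨x, rfl⟩
    have hc : Fintype.card (AdjoinRoot f) = Fintype.card F ^ f.natDegree := by
      rw [Module.card_eq_pow_finrank (K := F), (AdjoinRoot.powerBasis hirr.ne_zero).finrank,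
        AdjoinRoot.powerBasis_dim]
    rw [hpow, hdim, ← hc, FiniteField.pow_card_sub_one_eq_one _ hr0, one_mul]
  · by_cases hC : aeval (AdjoinRoot.root f)⁻¹ f ≠ 0 ∨ AdjoinRoot.root f * AdjoinRoot.root f = 1
    · right
      rintro _ ⟨x, rfl⟩ _ ⟨y, rfl⟩
      exact cyclic_isotropic hA ha hi hφ hC x y
    · push Not at hC
      left
      obtain ⟨h, -, hd, hh⟩ := root_pow_half hC.1 hC.2 hr0
      refine ⟨h, hdim.trans hd, ?_⟩
      rintro _ ⟨x, rfl⟩
      rw [hpow, ← Nat.card_eq_fintype_card, hh, one_mul]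

omit [Fintype F] [FiniteDimensional F V] in
/-- An exponent fixing a vector moved by `a` is a multiple of the prime order. -/
theorem prime_dvd_of_fix {r E : ℕ} (hr : r.Prime) (har : a ^ r = 1) {v : V} (hv : a v ≠ v)
    (hE : (a ^ E) v = v) : r ∣ E := by
  by_contra h
  obtain ⟨c, -, hc⟩ := Nat.exists_mul_mod_eq_one_of_coprime
    ((hr.coprime_iff_not_dvd.2 h).symm) hr.one_lt
  refine hv ?_
  have h1 : ∀ j : ℕ, ((a ^ E) ^ j) v = v := by
    intro j
    induction j with
    | zero => rfl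
    | succ j ih => rw [pow_succ', LinearEquiv.mul_apply, ih, hE]
  have h2 := h1 c
  rw [← pow_mul, ← Nat.mod_add_div (E * c) r, hc, pow_add, pow_one, pow_mul, har, one_pow,
    mul_one] at h2
  exact h2

/-- An isometry of prime order moves at least `2 η` dimensions. -/
theorem two_eta_le (hA : B.IsAlt) (hB : B.Nondegenerate) (ha : ∀ x y, B (a x) (a y) = B x y)
    {r : ℕ} (hr : r.Prime) (hr2 : r ≠ 2) (hrF : (r : F) ≠ 0) (har : a ^ r = 1) (hne : a ≠ 1)
    {k η : ℕ} (hk : k = orderOf ((Fintype.card F : ℕ) : ZMod r)) (hη : EtaOf k η) :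
    2 * η ≤ finrank F (movedSpace a) := by
  haveI : Fact r.Prime := ⟨hr⟩
  have hrB : ∀ x y, B x y = 0 → B y x = 0 := fun x y h => by
    rw [← LinearMap.IsAlt.neg hA, h, neg_zero]
  have hc := isCompl_pos_moved hB.1 hrB ha har hrF
  have hW : movedSpace a ≠ ⊥ := fun h => hne (LinearEquiv.ext fun v => by
    have := (mem_movedSpace (a := a)).2 ⟨v, rfl⟩
    rw [h, Submodule.mem_bot, sub_eq_zero] at this
    exact this)
  have hnd : (B.restrict (movedSpace a)).Nondegenerate :=
    ⟨fun x hx => Subtype.ext (moved_nondeg hB.1 hrB ha har hrF x.2 fun y hy => hx ⟨y, hy⟩),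
      fun y hy => Subtype.ext (moved_nondeg hB.1 hrB ha har hrF y.2
        fun z hz => hrB _ _ (hy ⟨z, hz⟩))⟩
  obtain ⟨M, hMW, hM0, hMq, hcase⟩ :=
    exists_line hA ha (fun v hv => apply_mem_movedSpace (fun _ => rfl) hv) hW
  obtain ⟨v, hvM, hv0⟩ := Submodule.exists_mem_ne_zero_of_ne_bot hM0
  have hav : a v ≠ v := fun h =>
    hv0 (Submodule.disjoint_def.1 hc.disjoint v h (hMW hvM))
  have hq1 : 1 ≤ Fintype.card F := Fintype.card_pos
  have hle := Submodule.finrank_mono hMW
  rcases hcase with ⟨h, hd, hh⟩ | hiso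
  · obtain ⟨-, hdvd, -⟩ := half_data hr2 hk hη (prime_dvd_of_fix hr har hav (hh v hvM))
    have hh0 : 0 < h := by
      rcases Nat.eq_zero_or_pos h with rfl | h0
      · exact absurd (Submodule.finrank_eq_zero.1 (by simpa using hd)) hM0
      · exact h0
    have := Nat.le_of_dvd hh0 hdvd
    omega
  · have hd := (dvd_pow_sub_one_iff hq1).1 (prime_dvd_of_fix hr har hav (hMq v hvM))
    rw [← hk] at hd
    have hpos : 0 < finrank F M :=
      Nat.pos_of_ne_zero fun h => hM0 (Submodule.finrank_eq_zero.1 h)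
    have h1 := Nat.le_of_dvd hpos hd
    have h2 := isotropic_finrank_le (B := B.restrict (movedSpace a))
      (M := M.comap (movedSpace a).subtype) (fun x => hA (x : V)) hnd
      (fun x hx y hy => hiso _ hx _ hy)
    rw [LinearEquiv.finrank_eq (Submodule.comapSubtypeEquivOfLe hMW)] at h2
    have := eta_le hη
    omega

/-- The same bound inside a non-degenerate invariant subspace. -/
theorem two_eta_le_of_sub (hA : B.IsAlt) (ha : ∀ x y, B (a x) (a y) = B x y) {S : Submodule F V}
    (hS : ∀ v ∈ S, a v ∈ S) (hSn : ∀ x ∈ S, (∀ y ∈ S, B x y = 0) → x = 0)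
    {r : ℕ} (hr : r.Prime) (hr2 : r ≠ 2) (hrF : (r : F) ≠ 0) (har : a ^ r = 1)
    (hne : ∃ v ∈ S, a v ≠ v)
    {k η : ℕ} (hk : k = orderOf ((Fintype.card F : ℕ) : ZMod r)) (hη : EtaOf k η) :
    2 * η ≤ finrank F S := by
  let aS : S ≃ₗ[F] S := LinearEquiv.ofBijective ((a : V →ₗ[F] V).restrict hS) (by
    have hinj : Function.Injective ((a : V →ₗ[F] V).restrict hS) := fun x y h =>
      Subtype.ext (a.injective (congrArg Subtype.val h))
    exact ⟨hinj, LinearMap.injective_iff_surjective.1 hinj⟩)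
  have hval : ∀ x : S, ((aS x : S) : V) = a x := fun x => rfl
  have hpow : ∀ (m : ℕ) (x : S), (((aS ^ m) x : S) : V) = (a ^ m) x := by
    intro m
    induction m with
    | zero => intro x; rfl
    | succ m ih =>
      intro x
      rw [pow_succ', pow_succ', LinearEquiv.mul_apply, LinearEquiv.mul_apply, hval, ih]
  obtain ⟨v, hv, hav⟩ := hne
  refine (two_eta_le (B := B.restrict S) (a := aS) (fun x => hA (x : V))
    ⟨fun x hx => Subtype.ext (hSn x x.2 fun y hy => hx ⟨y, hy⟩),
      fun y hy => Subtype.ext (hSn y y.2 fun z hz => by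
        rw [← LinearMap.IsAlt.neg hA]
        exact neg_eq_zero.2 (hy ⟨z, hz⟩))⟩
    (fun x y => ha _ _) hr hr2 hrF (LinearEquiv.ext fun x => Subtype.ext ?_) (fun h => hav ?_) hk hη).trans
    (Submodule.finrank_le _)
  · rw [hpow, har]
    rfl
  · exact congrArg Subtype.val (LinearEquiv.congr_fun h ⟨v, hv⟩)

end Line

/-! ### Existence -/

/-- An isometry whose order is a given divisor of `q ^ η ± 1`. -/
theorem exists_alt_elem [Fintype F] {m η t : ℕ} (hη : 0 < η) (hm : η ≤ m) (ht : 0 < t)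
    (hdiv : t ∣ Fintype.card F ^ η + 1 ∨ t ∣ Fintype.card F ^ η - 1)
    (B : BilinForm F (Fin (m + m) → F)) (hA : B.IsAlt) (hB : B.Nondegenerate) :
    ∃ g : (Fin (m + m) → F) ≃ₗ[F] (Fin (m + m) → F),
      (∀ x y, B (g x) (g y) = B x y) ∧ orderOf g = t := by
  obtain ⟨β, hβA, hβ⟩ := exists_altForm (F := F) (d := η + η) (k := η) rfl
  obtain ⟨β₀, e, -, -, he⟩ := exists_glue_alt (j := m - η) hβA hβ.1 hA hB (by simp; omega)
  have key : ∀ E, 0 < E → t ∣ E → ∀ a : (Fin (η + η) → F) ≃ₗ[F] (Fin (η + η) → F),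
      (∀ x y, β (a x) (a y) = β x y) → (∀ j, (a : Module.End F (Fin (η + η) → F)) ^ j = 1 ↔ E ∣ j) →
      ∃ g : (Fin (m + m) → F) ≃ₗ[F] (Fin (m + m) → F),
        (∀ x y, B (g x) (g y) = B x y) ∧ orderOf g = t := by
    intro E hE htE a ha haE
    have hord : orderOf a = E := by
      refine Nat.dvd_antisymm (orderOf_dvd_of_pow_eq_one ?_) ?_
      · rw [← equiv_pow_eq_one_iff, haE]
      · rw [← haE, equiv_pow_eq_one_iff, pow_orderOf_eq_one]
    let g₀ : altGroup β := ⟨a, ha, fun _ => rfl⟩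
    refine ⟨prodGlue e (a ^ (E / t), 1),
      prodGlue_preserves e he _ (fun x y => (g₀ ^ (E / t)).2.1 x y) (fun _ _ => rfl), ?_⟩
    rw [orderOf_injective _ (prodGlue_injective e), Prod.orderOf_mk, orderOf_one,
      Nat.lcm_one_right, ← hord]
    exact orderOf_pow_orderOf_div (by omega) (hord ▸ htE)
  have hq : 1 < Fintype.card F ^ η := Nat.one_lt_pow (by omega) Fintype.one_lt_card
  rcases hdiv with hd | hd
  · obtain ⟨a, ha, haE⟩ := exists_torus_plus hη β hβA hβ
    exact key _ (by omega) hd a ha haE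
  · obtain ⟨a, ha, haE⟩ := exists_torus_minus hη β hβA hβ
    exact key _ (by omega) hd a ha haE

/-! ### The two criteria -/

section Criteria

variable [Fintype F] {n : ℕ} {B : BilinForm F (Fin (n + n) → F)} (hA : B.IsAlt)
  (hB : B.Nondegenerate) {G : Type*} [Group G] (π : altGroup B →* G)
  (hπs : Function.Surjective π)
  (hπ : ∀ g : altGroup B, π g = 1 ↔
    ∃ c : F, ∀ x, (g : (Fin (n + n) → F) ≃ₗ[F] (Fin (n + n) → F)) x = c • x)
  (hc : ∀ (g : altGroup B) (c : F),
    (∀ x, (g : (Fin (n + n) → F) ≃ₗ[F] (Fin (n + n) → F)) x = c • x) → c * c = 1)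

include hπs hπ hc

/-- Orders prime to two pass between `Sp` and `PSp`; all orders in characteristic two. -/
theorem range_iff_alt {N : ℕ} (hN : Odd N ∨ (2 : F) = 0) :
    N ∈ Set.range (orderOf : G → ℕ) ↔
      ∃ g : (Fin (n + n) → F) ≃ₗ[F] (Fin (n + n) → F), g ∈ altGroup B ∧ orderOf g = N := by
  have hinj : (2 : F) = 0 → Function.Injective π := fun h2 => by
    refine (injective_iff_map_eq_one π).2 fun g hg => ?_
    obtain ⟨c, hcg⟩ := (hπ g).1 hg
    have hc1 : c = 1 := by
      have h1 : (c - 1) * (c - 1) = 0 := by linear_combination hc g c hcg + (1 - c) * h2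
      exact sub_eq_zero.1 (mul_self_eq_zero.1 h1)
    exact alt_ext fun x => by rw [hcg, hc1, one_smul]; rfl
  constructor
  · rintro ⟨h, hh⟩
    rcases hN with hN | h2
    · obtain ⟨g, -, hg⟩ := sp_odd_lift π hπ hc hπs hN h hh
      exact ⟨g.1, g.2, by rw [Subgroup.orderOf_coe, hg]⟩
    · obtain ⟨g, rfl⟩ := hπs h
      exact ⟨g.1, g.2, by rw [Subgroup.orderOf_coe, ← orderOf_injective π (hinj h2), hh]⟩
  · rintro ⟨g, hg, hgo⟩
    refine ⟨π ⟨g, hg⟩, ?_⟩
    have hgo' : orderOf (⟨g, hg⟩ : altGroup B) = N := by rw [← hgo, ← Subgroup.orderOf_coe]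
    rcases hN with hN | h2
    · refine Nat.dvd_antisymm (hgo' ▸ orderOf_map_dvd π _) ?_
      obtain ⟨c, hcg⟩ := (hπ ((⟨g, hg⟩ : altGroup B) ^ orderOf (π ⟨g, hg⟩))).1
        (by rw [map_pow, pow_orderOf_eq_one])
      have h1 : (⟨g, hg⟩ : altGroup B) ^ (2 * orderOf (π ⟨g, hg⟩)) = 1 := by
        rw [mul_comm, pow_mul, pow_two]
        exact alt_ext fun v => by
          rw [alt_mul_apply, hcg, hcg, smul_smul, hc _ c hcg, one_smul]; rfl
      exact (Nat.coprime_two_right.2 hN).dvd_of_dvd_mul_left (hgo' ▸ orderOf_dvd_of_pow_eq_one h1)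
    · rw [orderOf_injective π (hinj h2), hgo']

include hA hB

theorem eta_le_of_dvd {r : ℕ} (hr : r.Prime) (hr2 : r ≠ 2) (hrF : (r : F) ≠ 0)
    (hrG : r ∣ Nat.card G) {k η : ℕ} (hk : k = orderOf ((Fintype.card F : ℕ) : ZMod r))
    (hη : EtaOf k η) : η ≤ n := by
  haveI : Fact r.Prime := ⟨hr⟩
  have : Finite G := Finite.of_surjective π hπs
  obtain ⟨h, hh⟩ := exists_prime_orderOf_dvd_card' r hrG
  obtain ⟨g, hg, hgo⟩ := (range_iff_alt π hπs hπ hc (Or.inl (hr.odd_of_ne_two hr2))).1 ⟨h, hh⟩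
  have h1 := two_eta_le hA hB hg.1 hr hr2 hrF (by rw [← hgo, pow_orderOf_eq_one])
    (fun h1 => by rw [h1, orderOf_one] at hgo; exact hr.one_lt.ne hgo) hk hη
  have h2 := Submodule.finrank_le (movedSpace g)
  rw [Module.finrank_fin_fun] at h2
  omega

theorem char_criterion {p : ℕ} [hp : Fact p.Prime] [CharP F p] {r : ℕ} (hr : r.Prime)
    (hr2 : r ≠ 2) (hrp : r ≠ p) {k η : ℕ} (hk : k = orderOf ((Fintype.card F : ℕ) : ZMod r))
    (hη : EtaOf k η) : r * p ∉ Set.range (orderOf : G → ℕ) ↔ n - 1 < η := by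
  classical
  haveI : Fact r.Prime := ⟨hr⟩
  have hrq : ¬ r ∣ Fintype.card F := fun h => by
    obtain ⟨m, -, hm⟩ := FiniteField.card F p
    rw [hm] at h
    exact hrp ((Nat.prime_dvd_prime_iff_eq hr hp.out).1 (hr.dvd_of_dvd_pow h))
  have hk0 : 0 < k := hk ▸ orderOf_mod_pos hrq
  have hrF : (r : F) ≠ 0 := fun h =>
    hrp ((Nat.prime_dvd_prime_iff_eq hp.out hr).1 ((CharP.cast_eq_zero_iff F p r).1 h)).symm
  have hN : Odd (r * p) ∨ (2 : F) = 0 := by
    rcases eq_or_ne p 2 with rfl | hp2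
    · exact Or.inr (by exact_mod_cast CharP.cast_eq_zero F 2)
    · exact Or.inl ((hr.odd_of_ne_two hr2).mul (hp.out.odd_of_ne_two hp2))
  rw [range_iff_alt π hπs hπ hc hN, not_exists]
  constructor
  · intro hno
    by_contra hle
    push Not at hle
    obtain ⟨β, hβA, hβ⟩ := exists_altForm (F := F) (d := η + η) (k := η) rfl
    have hη0 := eta_pos hη hk0
    obtain ⟨β₀, e, hA₀, hn₀, he⟩ := exists_glue_alt (j := n - η) hβA hβ.1 hA hB (by simp; omega)
    obtain ⟨h, hh, hho⟩ := exists_alt_elem hη0 le_rfl hr.pos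
      ((dvd_eta_torus Fintype.card_pos hk hk0 hη).symm.imp And.right And.right) β hβA hβ
    obtain ⟨u, hu, hou⟩ := exists_alt_char_order (p := p) hA₀ hn₀
      (by rw [Module.finrank_fin_fun]; omega)
    refine hno (prodGlue e (h, u)) ⟨⟨prodGlue_preserves e he _ hh hu, fun _ => rfl⟩, ?_⟩
    rw [orderOf_injective _ (prodGlue_injective e), Prod.orderOf_mk, hho, hou]
    exact ((Nat.coprime_primes hr hp.out).2 hrp).lcm_eq_mul
  · rintro hlt g ⟨hgm, hgo⟩
    set x := g ^ p with hxd
    set u := g ^ r with hud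
    have hox : orderOf x = r := by
      rw [hxd, orderOf_pow_of_dvd hp.out.ne_zero (hgo ▸ dvd_mul_left p r), hgo,
        Nat.mul_div_cancel _ hp.out.pos]
    have hou : orderOf u = p := by
      rw [hud, orderOf_pow_of_dvd hr.ne_zero (hgo ▸ dvd_mul_right r p), hgo,
        Nat.mul_div_cancel_left _ hr.pos]
    have hx : x ∈ altGroup B := pow_mem hgm p
    have hu : u ∈ altGroup B := pow_mem hgm r
    have hxu : ∀ v, x (u v) = u (x v) := fun v =>
      LinearEquiv.congr_fun (Commute.pow_pow_self g p r).eq v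
    have hxr : x ^ r = 1 := by rw [← hox, pow_orderOf_eq_one]
    have hx1 : x ≠ 1 := fun h => by rw [h, orderOf_one] at hox; exact hr.one_lt.ne hox
    have hrB : ∀ v w, B v w = 0 → B w v = 0 := fun v w h => by
      rw [← LinearMap.IsAlt.neg hA, h, neg_zero]
    have hcompl := isCompl_pos_moved hB.1 hrB hx.1 hxr hrF
    have hbd := two_eta_le hA hB hx.1 hr hr2 hrF hxr hx1 hk hη
    by_cases htop : movedSpace x ≠ ⊤
    · have h1 := Submodule.finrank_lt htop
      rw [Module.finrank_fin_fun] at h1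
      obtain ⟨m, hm⟩ := alt_finrank_even (B := B.restrict (movedSpace x)) (fun v => hA _)
        fun v hv => Subtype.ext
          (moved_nondeg hB.1 hrB hx.1 hxr hrF v.2 fun y hy => hv ⟨y, hy⟩)
      omega
    push Not at htop
    have hfpf : ∀ v, x v = v → v = 0 := fun v hv =>
      Submodule.disjoint_def.1 hcompl.disjoint v hv (htop ▸ Submodule.mem_top)
    -- the unipotent part
    set N : Module.End F (Fin (n + n) → F) := (u : Module.End F (Fin (n + n) → F)) - 1 with hNd
    have hNapp : ∀ v, N v = u v - v := fun v => rfl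
    have hNp : N ^ p = 0 := by
      haveI : CharP (Module.End F (Fin (n + n) → F)) p := by
        haveI : Nontrivial (Module.End F (Fin (n + n) → F)) := by
          by_contra hnt
          rw [not_nontrivial_iff_subsingleton] at hnt
          exact hx1 (LinearEquiv.toLinearMap_injective (Subsingleton.elim _ _))
        exact charP_of_injective_algebraMap (algebraMap F _).injective p
      rw [hNd, sub_pow_char_of_commute p (Commute.one_right _), one_pow,
        (equiv_pow_eq_one_iff u p).2 (by rw [← hou, pow_orderOf_eq_one]), sub_self]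
    have hN0 : N ≠ 0 := fun h => by
      have : u = 1 := LinearEquiv.ext fun v => sub_eq_zero.1 ((hNapp v).symm.trans (by rw [h]; rfl))
      rw [this, orderOf_one] at hou
      exact hp.out.one_lt.ne hou
    have hex : ∃ i, N ^ (i + 1) = 0 :=
      ⟨p - 1, by rw [Nat.sub_add_cancel hp.out.one_le]; exact hNp⟩
    set i := Nat.find hex
    have hi0 : i ≠ 0 := fun h => hN0 (by
      have h1 : N ^ (i + 1) = 0 := Nat.find_spec hex
      rwa [h, pow_one] at h1)
    have hNi : N ^ i ≠ 0 := fun h => Nat.find_min hex (show i - 1 < i by omega)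
      (by rw [Nat.sub_add_cancel (by omega)]; exact h)
    obtain ⟨v₀, hv₀⟩ : ∃ v, (N ^ i) v ≠ 0 := by
      by_contra h
      push Not at h
      exact hNi (LinearMap.ext h)
    have hS0 : LinearMap.ker N ⊓ LinearMap.range N ≠ ⊥ := fun hb => hv₀ (by
      rw [← Submodule.mem_bot F, ← hb]
      refine ⟨LinearMap.mem_ker.2 ?_, ⟨(N ^ (i - 1)) v₀, ?_⟩⟩
      · rw [← Module.End.mul_apply, ← pow_succ', Nat.find_spec hex]; rfl
      · rw [← Module.End.mul_apply, ← pow_succ', Nat.sub_add_cancel (by omega)])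
    have hNx : ∀ v, N (x v) = x (N v) := fun v => by rw [hNapp, hNapp, map_sub, hxu]
    obtain ⟨M, hMS, hM0, hMq, hcase⟩ := exists_line (a := x) (S := LinearMap.ker N ⊓ LinearMap.range N)
      hA hx.1 (fun v hv => ⟨LinearMap.mem_ker.2 (by
        rw [hNx, LinearMap.mem_ker.1 hv.1, map_zero]),
        let ⟨w, hw⟩ := hv.2; ⟨x w, by rw [hNx, hw]⟩⟩) hS0
    obtain ⟨v, hvM, hv0⟩ := Submodule.exists_mem_ne_zero_of_ne_bot hM0
    have hxv : x v ≠ v := fun h => hv0 (hfpf v h)
    have hKer : finrank F (LinearMap.ker N) < n + n := by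
      have h1 := Submodule.finrank_lt (s := LinearMap.ker N) fun h => hN0 (LinearMap.ker_eq_top.1 h)
      rwa [Module.finrank_fin_fun] at h1
    have hMK := Submodule.finrank_mono (hMS.trans inf_le_left)
    have hη0 := eta_pos hη hk0
    have hd0 : 0 < finrank F M :=
      Nat.pos_of_ne_zero fun h => hM0 (Submodule.finrank_eq_zero.1 h)
    rcases hcase with ⟨h, hd, hh⟩ | hiso
    · obtain ⟨-, hdvd, -⟩ := half_data hr2 hk hη (prime_dvd_of_fix hr hxr hxv (hh v hvM))
      have := Nat.le_of_dvd (by omega : 0 < h) hdvd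
      omega
    have hkd := (dvd_pow_sub_one_iff Fintype.card_pos).1
      (prime_dvd_of_fix hr hxr hxv (hMq v hvM))
    rw [← hk] at hkd
    have hk1 := Nat.le_of_dvd hd0 hkd
    have hdn := isotropic_finrank_le hA hB hiso
    rw [Module.finrank_fin_fun] at hdn
    rcases hη with ⟨hko, rfl⟩ | ⟨-, he⟩
    swap
    · omega
    have hdn' : finrank F M = n := by omega
    have hnodd : Odd n := by
      have : n = η := by omega
      rwa [this]
    -- the line is the whole fixed space of the unipotent part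
    have hMM : B.orthogonal M = M := by
      refine (Submodule.eq_of_le_of_finrank_le (show M ≤ B.orthogonal M from fun y hy z hz => hiso z hz y hy) ?_).symm
      rw [LinearMap.BilinForm.finrank_orthogonal hB, Module.finrank_fin_fun]
      omega
    have hKI : ∀ w, N w = 0 → ∀ z, B w (N z) = 0 := fun w hw z => by
      have huw : u w = w := sub_eq_zero.1 ((hNapp w).symm.trans hw)
      rw [hNapp, map_sub, sub_eq_zero]
      conv_lhs => rw [← huw]
      exact hu.1 w z
    have hKM : LinearMap.ker N = M := by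
      refine le_antisymm (fun w hw => ?_) (hMS.trans inf_le_left)
      rw [← hMM]
      intro m hm
      obtain ⟨z, rfl⟩ := (hMS hm).2
      exact hrB _ _ (hKI w hw z)
    have hIM : ∀ z, N z ∈ M := fun z => by
      rw [← hMM]
      intro m hm
      exact hKI m (LinearMap.mem_ker.1 (hMS hm).1) z
    -- the symmetric form on the quotient
    have hNN : ∀ y z, B (N y) (N z) = 0 := fun y z => hiso _ (hIM y) _ (hIM z)
    have hright : ∀ y z, z ∈ M → B (N y) z = 0 := fun y z hz => hiso _ (hIM y) _ hz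
    let b₁ : (Fin (n + n) → F) →ₗ[F] ((Fin (n + n) → F) ⧸ M) →ₗ[F] F :=
      { toFun := fun y => M.liftQ (B (N y)) fun z hz => LinearMap.mem_ker.2 (hright y z hz)
        map_add' := fun y y' => Submodule.linearMap_qext _ (LinearMap.ext fun z => by simp)
        map_smul' := fun c y => Submodule.linearMap_qext _ (LinearMap.ext fun z => by simp) }
    let b : BilinForm F ((Fin (n + n) → F) ⧸ M) := M.liftQ b₁ fun y hy => LinearMap.mem_ker.2 (by
      refine Submodule.linearMap_qext _ (LinearMap.ext fun z => ?_)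
      have hy0 : N y = 0 := LinearMap.mem_ker.1 (by rw [hKM]; exact hy)
      simp [b₁, hy0])
    have hb : ∀ y z, b (Submodule.Quotient.mk y) (Submodule.Quotient.mk z) = B (N y) z :=
      fun y z => rfl
    have hbS : ∀ y z, b y z = b z y := by
      intro y z
      obtain ⟨y, rfl⟩ := Submodule.Quotient.mk_surjective _ y
      obtain ⟨z, rfl⟩ := Submodule.Quotient.mk_surjective _ z
      rw [hb, hb]
      have h1 := hu.1 y z
      have h2 := hNN y z
      have h3 : B y (N z) = -B (N z) y := (LinearMap.IsAlt.neg hA (N z) y).symm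
      simp only [hNapp] at h2 h3 ⊢
      simp only [map_sub, LinearMap.sub_apply] at h2 h3 ⊢
      linear_combination h1 - h2 - h3
    have hbn : ∀ y, (∀ z, b y z = 0) → y = 0 := by
      intro y hy
      obtain ⟨y, rfl⟩ := Submodule.Quotient.mk_surjective _ y
      refine (Submodule.Quotient.mk_eq_zero _).2 ?_
      rw [← hKM]
      exact LinearMap.mem_ker.2 (hB.1 _ fun z => (hb y z).symm.trans (hy _))
    have hxM : M.map (x : (Fin (n + n) → F) →ₗ[F] (Fin (n + n) → F)) = M := by
      refine Submodule.eq_of_le_of_finrank_le ?_ (x.finrank_map_eq M).ge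
      rintro _ ⟨w, hw, rfl⟩
      rw [← hKM] at hw ⊢
      refine LinearMap.mem_ker.2 ?_
      change N (x w) = 0
      rw [hNx, LinearMap.mem_ker.1 hw, map_zero]
    let xb : ((Fin (n + n) → F) ⧸ M) ≃ₗ[F] ((Fin (n + n) → F) ⧸ M) :=
      Submodule.Quotient.equiv M M x hxM
    have hxb : ∀ y, xb (Submodule.Quotient.mk y) = Submodule.Quotient.mk (x y) := fun y => rfl
    have hxbB : ∀ y z, b (xb y) (xb z) = b y z := by
      intro y z
      obtain ⟨y, rfl⟩ := Submodule.Quotient.mk_surjective _ y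
      obtain ⟨z, rfl⟩ := Submodule.Quotient.mk_surjective _ z
      rw [hxb, hxb, hb, hb, hNx, hx.1]
    have hxbr : xb ^ r = 1 := by
      have hpw : ∀ (m : ℕ) y, (xb ^ m) (Submodule.Quotient.mk y) =
          Submodule.Quotient.mk ((x ^ m) y) := by
        intro m
        induction m with
        | zero => intro y; rfl
        | succ m ih =>
          intro y
          rw [pow_succ', LinearEquiv.mul_apply, ih, hxb, pow_succ', LinearEquiv.mul_apply]
      refine LinearEquiv.ext fun y => ?_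
      obtain ⟨y, rfl⟩ := Submodule.Quotient.mk_surjective _ y
      rw [hpw, hxr]
      rfl
    have hbr : ∀ y z, b y z = 0 → b z y = 0 := fun y z h => by rw [hbS]; exact h
    have hmtop : movedSpace xb = ⊤ := by
      have hinjD : Function.Injective ((x : (Fin (n + n) → F) →ₗ[F] (Fin (n + n) → F)) -
          (LinearMap.id : (Fin (n + n) → F) →ₗ[F] (Fin (n + n) → F))) := by
        rw [← LinearMap.ker_eq_bot, LinearMap.ker_eq_bot']
        exact fun v hv => hfpf v (sub_eq_zero.1 hv)
      rw [eq_top_iff]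
      intro y _
      obtain ⟨y, rfl⟩ := Submodule.Quotient.mk_surjective _ y
      obtain ⟨w, hw⟩ := LinearMap.injective_iff_surjective.1 hinjD y
      refine mem_movedSpace.2 ⟨Submodule.Quotient.mk w, ?_⟩
      rw [hxb, ← Submodule.Quotient.mk_sub]
      exact congrArg _ hw
    obtain ⟨m, hm⟩ := alt_finrank_even (twistForm_isAlt hxbB hbS)
      (twistForm_left_nondeg hxbB hbn hbr hxbr hrF (hr.odd_of_ne_two hr2))
    rw [hmtop, finrank_top] at hm
    have hqd := Submodule.finrank_quotient_add_finrank M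
    rw [Module.finrank_fin_fun] at hqd
    obtain ⟨c, hcn⟩ := hnodd
    omega

theorem odd_criterion {r s : ℕ} (hr : r.Prime) (hs : s.Prime) (hr2 : r ≠ 2) (hs2 : s ≠ 2)
    (hrF : (r : F) ≠ 0) (hsF : (s : F) ≠ 0) (hrs : r ≠ s) (hrq : ¬ r ∣ Fintype.card F)
    (hsq : ¬ s ∣ Fintype.card F) (hsG : s ∣ Nat.card G) {k l ηk ηl : ℕ}
    (hk : k = orderOf ((Fintype.card F : ℕ) : ZMod r))
    (hl : l = orderOf ((Fintype.card F : ℕ) : ZMod s)) (hηk : EtaOf k ηk) (hηl : EtaOf l ηl)
    (hkl : ηk ≤ ηl) :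
    r * s ∉ Set.range (orderOf : G → ℕ) ↔ (n < ηk + ηl ∧ ¬ ∃ t : ℕ, Odd t ∧ l = k * t) := by
  classical
  haveI : Fact r.Prime := ⟨hr⟩
  haveI : Fact s.Prime := ⟨hs⟩
  have hk0 : 0 < k := hk ▸ orderOf_mod_pos hrq
  have hl0 : 0 < l := hl ▸ orderOf_mod_pos hsq
  have hηk0 := eta_pos hηk hk0
  have hηl0 := eta_pos hηl hl0
  have hq1 : 1 ≤ Fintype.card F := Fintype.card_pos
  have hcop : Nat.Coprime r s := (Nat.coprime_primes hr hs).2 hrs
  rw [range_iff_alt π hπs hπ hc (Or.inl ((hr.odd_of_ne_two hr2).mul (hs.odd_of_ne_two hs2))),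
    not_exists]
  constructor
  · intro hno
    constructor
    · by_contra hle
      push Not at hle
      obtain ⟨β, hβA, hβ⟩ := exists_altForm (F := F) (d := ηk + ηk) (k := ηk) rfl
      obtain ⟨β₀, e, hA₀, hn₀, he⟩ :=
        exists_glue_alt (j := n - ηk) hβA hβ.1 hA hB (by simp; omega)
      obtain ⟨g₁, hg₁, ho₁⟩ := exists_alt_elem hηk0 le_rfl hr.pos
        ((dvd_eta_torus hq1 hk hk0 hηk).symm.imp And.right And.right) β hβA hβ
      obtain ⟨g₂, hg₂, ho₂⟩ := exists_alt_elem hηl0 (m := n - ηk) (by omega) hs.pos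
        ((dvd_eta_torus hq1 hl hl0 hηl).symm.imp And.right And.right) β₀ hA₀ hn₀
      refine hno (prodGlue e (g₁, g₂)) ⟨⟨prodGlue_preserves e he _ hg₁ hg₂, fun _ => rfl⟩, ?_⟩
      rw [orderOf_injective _ (prodGlue_injective e), Prod.orderOf_mk, ho₁, ho₂]
      exact hcop.lcm_eq_mul
    · rintro ⟨t, ht, hlt⟩
      have hdiv : r * s ∣ Fintype.card F ^ ηl + 1 ∨ r * s ∣ Fintype.card F ^ ηl - 1 := by
        rcases dvd_eta_torus hq1 hl hl0 hηl with ⟨hlo, hls⟩ | ⟨hle, hls⟩
        · refine Or.inr (hcop.mul_dvd_of_dvd_of_dvd ((dvd_pow_sub_one_iff hq1).2 ?_) hls)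
          rcases hηl with ⟨-, hh⟩ | ⟨he, -⟩
          · exact hk ▸ ⟨t, hh.trans hlt⟩
          · exact absurd he (Nat.not_even_iff_odd.2 hlo)
        · refine Or.inl (hcop.mul_dvd_of_dvd_of_dvd ?_ hls)
          have hke : Even k := by
            rcases Nat.even_or_odd k with h | h
            · exact h
            · exact absurd (hlt ▸ hle) (Nat.not_even_iff_odd.2 (h.mul ht))
          rcases dvd_eta_torus hq1 hk hk0 hηk with ⟨hko, -⟩ | ⟨-, hkr⟩
          · exact absurd hke (Nat.not_even_iff_odd.2 hko)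
          have h2k : 2 * ηk = k := by
            rcases hηk with ⟨ho, -⟩ | ⟨-, h⟩
            · exact absurd hke (Nat.not_even_iff_odd.2 ho)
            · exact h
          have h2l : 2 * ηl = l := by
            rcases hηl with ⟨ho, -⟩ | ⟨-, h⟩
            · exact absurd hle (Nat.not_even_iff_odd.2 ho)
            · exact h
          have hηlt : ηl = ηk * t := by nlinarith [h2k, h2l, hlt]
          rw [← ZMod.natCast_eq_zero_iff] at hkr ⊢
          push_cast at hkr ⊢
          rw [hηlt, pow_mul, eq_neg_of_add_eq_zero_left hkr, ht.neg_one_pow, neg_add_cancel]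
      obtain ⟨g, hg, ho⟩ := exists_alt_elem hηl0
        (eta_le_of_dvd hA hB π hπs hπ hc hs hs2 hsF hsG hl hηl) (Nat.mul_pos hr.pos hs.pos) hdiv
        B hA hB
      exact hno g ⟨⟨hg, fun _ => rfl⟩, ho⟩
  · rintro ⟨hsum, hnt⟩ g ⟨hgm, hgo⟩
    set x := g ^ s with hxd
    set y := g ^ r with hyd
    have hox : orderOf x = r := by
      rw [hxd, orderOf_pow_of_dvd hs.ne_zero (hgo ▸ dvd_mul_left s r), hgo,
        Nat.mul_div_cancel _ hs.pos]
    have hoy : orderOf y = s := by
      rw [hyd, orderOf_pow_of_dvd hr.ne_zero (hgo ▸ dvd_mul_right r s), hgo,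
        Nat.mul_div_cancel_left _ hr.pos]
    have hx : x ∈ altGroup B := pow_mem hgm s
    have hy : y ∈ altGroup B := pow_mem hgm r
    have hxy : ∀ v, x (y v) = y (x v) := fun v =>
      LinearEquiv.congr_fun (Commute.pow_pow_self g s r).eq v
    have hxr : x ^ r = 1 := by rw [← hox, pow_orderOf_eq_one]
    have hys : y ^ s = 1 := by rw [← hoy, pow_orderOf_eq_one]
    have hx1 : x ≠ 1 := fun h => by rw [h, orderOf_one] at hox; exact hr.one_lt.ne hox
    have hy1 : y ≠ 1 := fun h => by rw [h, orderOf_one] at hoy; exact hs.one_lt.ne hoy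
    have hrB : ∀ v w, B v w = 0 → B w v = 0 := fun v w h => by
      rw [← LinearMap.IsAlt.neg hA, h, neg_zero]
    have hcx := isCompl_pos_moved hB.1 hrB hx.1 hxr hrF
    have hcy := isCompl_pos_moved hB.1 hrB hy.1 hys hsF
    have hsumx := Submodule.finrank_add_eq_of_isCompl hcx
    have hsumy := Submodule.finrank_add_eq_of_isCompl hcy
    rw [Module.finrank_fin_fun] at hsumx hsumy
    have hbx := two_eta_le hA hB hx.1 hr hr2 hrF hxr hx1 hk hηk
    have hby := two_eta_le hA hB hy.1 hs hs2 hsF hys hy1 hl hηl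
    by_cases hU : ∃ v ∈ posSpace x, y v ≠ v
    · have h1 := two_eta_le_of_sub hA hy.1 (S := posSpace x)
        (fun v hv => by
          change x (y v) = y v
          rw [hxy, show x v = v from hv])
        (fun v hv h => pos_nondeg hB.1 hx.1 hxr hrF hv h) hs hs2 hsF hys hU hl hηl
      omega
    by_cases hU' : ∃ v ∈ posSpace y, x v ≠ v
    · have h1 := two_eta_le_of_sub hA hx.1 (S := posSpace y)
        (fun v hv => by
          change y (x v) = x v
          rw [← hxy, show y v = v from hv])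
        (fun v hv h => pos_nondeg hB.1 hy.1 hys hsF hv h) hr hr2 hrF hxr hU' hk hηk
      omega
    push Not at hU hU'
    have hg' : ∀ v ∈ movedSpace x, g v ∈ movedSpace x := fun v hv =>
      apply_mem_movedSpace (fun w => LinearEquiv.congr_fun (Commute.self_pow g s).eq w) hv
    have hW : movedSpace x ≠ ⊥ := fun h => hx1 (LinearEquiv.ext fun v => by
      have := (mem_movedSpace (a := x)).2 ⟨v, rfl⟩
      rw [h, Submodule.mem_bot, sub_eq_zero] at this
      exact this)
    obtain ⟨M, hMW, hM0, hMq, hcase⟩ := exists_line hA hgm.1 hg' hW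
    obtain ⟨v, hvM, hv0⟩ := Submodule.exists_mem_ne_zero_of_ne_bot hM0
    have hxv : x v ≠ v := fun h => hv0 (Submodule.disjoint_def.1 hcx.disjoint v h (hMW hvM))
    have hyv : y v ≠ v := fun h => hxv (hU' v h)
    have hfix : ∀ (E j : ℕ), (g ^ E) v = v → ((g ^ j) ^ E) v = v := by
      intro E j hE
      rw [← pow_mul, mul_comm, pow_mul]
      induction j with
      | zero => rfl
      | succ j ih => rw [pow_succ', LinearEquiv.mul_apply, ih, hE]
    have hd0 : 0 < finrank F M :=
      Nat.pos_of_ne_zero fun h => hM0 (Submodule.finrank_eq_zero.1 h)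
    have hMn := Submodule.finrank_le M
    rw [Module.finrank_fin_fun] at hMn
    rcases hcase with ⟨h, hd, hh⟩ | hiso
    · obtain ⟨hke, ⟨a, ha⟩, hak⟩ :=
        half_data hr2 hk hηk (prime_dvd_of_fix hr hxr hxv (hfix _ s (hh v hvM)))
      obtain ⟨hle, ⟨b, hb⟩, hbl⟩ :=
        half_data hs2 hl hηl (prime_dvd_of_fix hs hys hyv (hfix _ r (hh v hvM)))
      by_cases hdv : ηk ∣ ηl
      · obtain ⟨c, hc'⟩ := hdv
        refine hnt ⟨c, ?_, ?_⟩
        · have hao := hak a ha
          have : a = c * b := by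
            have h1 : ηk * a = ηk * (c * b) := by rw [← ha, ← mul_assoc, ← hc', ← hb]
            exact Nat.eq_of_mul_eq_mul_left hηk0 h1
          rw [this] at hao
          exact (Nat.odd_mul.1 hao).1
        · have h2k : 2 * ηk = k := by
            rcases hηk with ⟨ho, -⟩ | ⟨-, h2⟩
            · exact absurd hke (Nat.not_even_iff_odd.2 ho)
            · exact h2
          have h2l : 2 * ηl = l := by
            rcases hηl with ⟨ho, -⟩ | ⟨-, h2⟩
            · exact absurd hle (Nat.not_even_iff_odd.2 ho)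
            · exact h2
          rw [← h2l, ← h2k, hc', mul_assoc]
      · have hb2 : 2 ≤ b := by
          rcases Nat.lt_or_ge b 2 with hlt | hge
          · exfalso
            rcases Nat.eq_zero_or_pos b with rfl | hb0
            · omega
            · obtain rfl : b = 1 := by omega
              exact hdv ⟨a, by omega⟩
          · exact hge
        have : ηl * 2 ≤ ηl * b := Nat.mul_le_mul_left _ hb2
        omega
    · have hkd := (dvd_pow_sub_one_iff hq1).1
        (prime_dvd_of_fix hr hxr hxv (hfix _ s (hMq v hvM)))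
      have hld := (dvd_pow_sub_one_iff hq1).1
        (prime_dvd_of_fix hs hys hyv (hfix _ r (hMq v hvM)))
      rw [← hk] at hkd
      rw [← hl] at hld
      have hdn := isotropic_finrank_le hA hB hiso
      rw [Module.finrank_fin_fun] at hdn
      have hl1 := Nat.le_of_dvd hd0 hld
      have hk1 := Nat.le_of_dvd hd0 hkd
      rcases hηl with ⟨hlo, rfl⟩ | ⟨hle, h2l⟩
      · by_cases hdv : k ∣ ηl
        · obtain ⟨c, hc'⟩ := hdv
          exact hnt ⟨c, (Nat.odd_mul.1 (hc' ▸ hlo)).2, hc'⟩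
        · obtain ⟨b, hb⟩ := hld
          have hb2 : 2 ≤ b := by
            rcases Nat.lt_or_ge b 2 with hlt | hge
            · exfalso
              rcases Nat.eq_zero_or_pos b with rfl | hb0
              · omega
              · obtain rfl : b = 1 := by omega
                rw [mul_one] at hb
                exact hdv (hb ▸ hkd)
            · exact hge
          have : ηl * 2 ≤ ηl * b := Nat.mul_le_mul_left _ hb2
          omega
      · omega

end Criteria

end Cfsg.Agent.Forms
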