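import Cfsg.Agent.Forms.SympMatrix
import Cfsg.Agent.Linear.SpRegUnipotent

/-!
# `Sp_{2n}` from three conjugate regular unipotent elements

Two of them differ by a product of two transvections with axes in the first two flag vectors; the third
sends the first flag vector to a multiple of the second. The multiplier grows that product to whole root
groups, and these to the unipotent radical of a point stabiliser.
-/

set_option autoImplicit false

namespace Cfsg.Agent.Forms.SpRegGen

open Matrix

variable {F : Type*} [Field F] {n : ℕ}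

attribute [-simp] sympB_apply

local notation "V" => (Fin n ⊕ Fin n → F)
local notation "G" => Matrix.symplecticGroup (Fin n) F
local notation "ω" => sympB n F

/-- The action on vectors. -/
def act (g : G) (x : V) : V := g.1 *ᵥ x

theorem act_mul (g h : G) (x : V) : act (g * h) x = act g (act h x) := (mulVec_mulVec x g.1 h.1).symm

theorem act_one (x : V) : act (1 : G) x = x := one_mulVec x

theorem act_act_inv (g : G) (x : V) : act g (act g⁻¹ x) = x := by
  rw [← act_mul, mul_inv_cancel, act_one]

theorem act_inv_act (g : G) (x : V) : act g⁻¹ (act g x) = x := by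
  rw [← act_mul, inv_mul_cancel, act_one]

theorem act_add (g : G) (x y : V) : act g (x + y) = act g x + act g y := mulVec_add g.1 x y

theorem act_sub (g : G) (x y : V) : act g (x - y) = act g x - act g y := mulVec_sub g.1 x y

theorem act_smul (g : G) (r : F) (x : V) : act g (r • x) = r • act g x := mulVec_smul g.1 r x

theorem act_omega (g : G) (x y : V) : ω (act g x) (act g y) = ω x y := by
  rw [sympB_apply, sympB_apply]
  exact mem_symplectic_iff.1 g.2 x y

theorem omega_self (x : V) : ω x x = 0 := sympB_isAlt x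

theorem omega_swap (x y : V) : ω y x = -ω x y := (sympB_isAlt.neg_eq x y).symm

theorem ext_act {g h : G} (H : ∀ x, act g x = act h x) : g = h :=
  Subtype.ext (matrix_ext_mulVec H)

theorem trans_mem (a : V) (c : F) : Cfsg.sympTransvection n a c ∈ G := by
  refine mem_symplectic_iff.2 fun x y => ?_
  simp only [sympTransvection_mulVec, ← sympB_apply, map_add, map_smul, LinearMap.add_apply,
    LinearMap.smul_apply, smul_eq_mul, omega_self, omega_swap y a]
  ring

/-- The transvection. -/
def tr (a : V) (c : F) : G := ⟨Cfsg.sympTransvection n a c, trans_mem a c⟩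

theorem act_tr (a : V) (c : F) (x : V) : act (tr a c) x = x + (c * ω x a) • a := by
  rw [sympB_apply]; exact sympTransvection_mulVec a c x

theorem tr_conj (g : G) (a : V) (c : F) : g * tr a c * g⁻¹ = tr (act g a) c := ext_act fun x => by
  rw [act_mul, act_mul, act_tr, act_tr, act_add, act_smul, act_act_inv]
  congr 3
  rw [← act_omega g (act g⁻¹ x) a, act_act_inv]

theorem tr_add (a : V) (c d : F) : tr a c * tr a d = tr a (c + d) := ext_act fun x => by
  simp only [act_mul, act_tr, map_add, map_smul, LinearMap.add_apply, LinearMap.smul_apply,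
    smul_eq_mul, omega_self]
  match_scalars <;> ring

theorem tr_zero (a : V) : tr a (0 : F) = 1 := ext_act fun x => by
  rw [act_tr, act_one, zero_mul, zero_smul, add_zero]

theorem tr_inv (a : V) (c : F) : (tr a c)⁻¹ = tr a (-c) :=
  inv_eq_of_mul_eq_one_right (by rw [tr_add, add_neg_cancel, tr_zero])

theorem tr_smul (a : V) (r c : F) : tr (r • a) c = tr a (c * r ^ 2) := ext_act fun x => by
  simp only [act_tr, map_smul, smul_eq_mul, smul_smul]
  congr 2
  ring

/-- A subgroup has the whole root group of a vector. -/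
def Full (H : Subgroup G) (a : V) : Prop := ∀ c, tr a c ∈ H

variable {H : Subgroup (Matrix.symplecticGroup (Fin n) F)}

theorem Full.conj {a : V} (h : Full H a) {g : G} (hg : g ∈ H) : Full H (act g a) := fun c => by
  rw [← tr_conj]; exact H.mul_mem (H.mul_mem hg (h c)) (H.inv_mem hg)

theorem Full.smul {a : V} (h : Full H a) (r : F) : Full H (r • a) := fun c => by
  rw [tr_smul]; exact h _

theorem numerals_two [CharP F 2] : (3 : F) = 1 ∧ (4 : F) = 0 ∧ (5 : F) = 1 ∧ (6 : F) = 0 ∧
    (7 : F) = 1 ∧ (8 : F) = 0 := by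
  have h : (2 : F) = 0 := CharTwo.two_eq_zero
  exact ⟨by linear_combination h, by linear_combination 2 * h, by linear_combination 2 * h,
    by linear_combination 3 * h, by linear_combination 3 * h, by linear_combination 4 * h⟩

/-- An additive subgroup invariant under a generator of the squares is everything. -/
theorem addSubgroup_full [Fintype F] (L : AddSubgroup F) {γ : Fˣ} (hγ : ∀ x : Fˣ, x ∈ Subgroup.zpowers γ)
    {l : F} (hl : l ∈ L) (hl0 : l ≠ 0) (hclosed : ∀ x ∈ L, (γ : F) ^ 2 * x ∈ L) : ∀ x : F, x ∈ L := by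
  have hsq : ∀ s : F, ∀ x ∈ L, s ^ 2 * x ∈ L := by
    intro s x hx
    rcases eq_or_ne s 0 with rfl | hs
    · simp [L.zero_mem]
    obtain ⟨k, hk⟩ := (isOfFinOrder_of_finite γ).mem_powers_iff_mem_zpowers.2 (hγ (Units.mk0 s hs))
    have e : (γ : F) ^ k = s := by simpa using congrArg Units.val hk
    rw [← e]
    clear e hk
    induction k with
    | zero => simpa using hx
    | succ k ih =>
      have := hclosed _ ih
      rw [show (γ : F) ^ 2 * (((γ : F) ^ k) ^ 2 * x) = ((γ : F) ^ (k + 1)) ^ 2 * x by ring] at this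
      exact this
  intro x
  by_cases h2 : (2 : F) = 0
  · haveI : CharP F 2 := CharTwo.of_one_ne_zero_of_two_eq_zero one_ne_zero h2
    obtain ⟨s, hs⟩ := (frobeniusEquiv F 2).surjective (x / l)
    have e : s ^ 2 = x / l := by simpa [frobeniusEquiv_apply, frobenius_def] using hs
    have := hsq s l hl
    rwa [e, div_mul_cancel₀ _ hl0] at this
  · obtain ⟨r, hr⟩ : ∃ r, x = 2 * r * l := ⟨x / (2 * l), by field_simp⟩
    rw [hr, show 2 * r * l = (r + 1) ^ 2 * l - r ^ 2 * l - l by ring]
    exact L.sub_mem (L.sub_mem (hsq _ _ hl) (hsq _ _ hl)) hl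

section Criterion

variable {a b : Fin n ⊕ Fin n → F} {u v : Matrix.symplecticGroup (Fin n) F} {γ : Fˣ}

theorem full_odd [Fintype F] (h2 : (2 : F) ≠ 0) (hab : ω a b = 0) (hua : act u a = a)
    (hub : act u b = a + b) (hva : act v a = (γ : F) • b) (hγ : ∀ x : Fˣ, x ∈ Subgroup.zpowers γ)
    (hu : u ∈ H) (hv : v ∈ H) {η : F} (hη : η ≠ 0) (hx : tr b η * tr (a + b) (-η) ∈ H) : Full H a := by
  have hba : ω b a = 0 := by rw [omega_swap, hab, neg_zero]
  have step : ∀ m, tr b m * tr (a + b) (-m) ∈ H → tr a (2 * m) ∈ H := by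
    intro m hm
    have e : (u * (tr b m * tr (a + b) (-m)) * u⁻¹)⁻¹ * (tr b m * tr (a + b) (-m)) = tr a (2 * m) := by
      rw [show u * (tr b m * tr (a + b) (-m)) * u⁻¹ = (u * tr b m * u⁻¹) * (u * tr (a + b) (-m) * u⁻¹) by
        group, tr_conj, tr_conj, act_add, hua, hub, _root_.mul_inv_rev, tr_inv, tr_inv, neg_neg]
      refine ext_act fun x => ?_
      simp only [act_mul, act_tr, map_add, map_smul, LinearMap.add_apply, LinearMap.smul_apply,
        smul_eq_mul, omega_self, hab, hba]
      match_scalars <;> ring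
    exact e ▸ H.mul_mem (H.inv_mem (H.mul_mem (H.mul_mem hu hm) (H.inv_mem hu))) hm
  let L : AddSubgroup F :=
    { carrier := {c | tr a c ∈ H}
      add_mem' := fun hc hd => by
        simp only [Set.mem_setOf_eq] at hc hd ⊢; rw [← tr_add]; exact H.mul_mem hc hd
      zero_mem' := by simp [tr_zero, H.one_mem]
      neg_mem' := fun hc => by
        simp only [Set.mem_setOf_eq] at hc ⊢; rw [← tr_inv]; exact H.inv_mem hc }
  have hclosed : ∀ c ∈ L, (γ : F) ^ 2 * c ∈ L := by
    intro c hc
    have hb : tr b ((γ : F) ^ 2 * c) ∈ H := by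
      have := H.mul_mem (H.mul_mem hv hc) (H.inv_mem hv)
      rwa [tr_conj, hva, tr_smul, mul_comm] at this
    have hab' : tr (a + b) (-((γ : F) ^ 2 * c)) ∈ H := by
      have := H.inv_mem (H.mul_mem (H.mul_mem hu hb) (H.inv_mem hu))
      rwa [tr_conj, hub, tr_inv] at this
    have h := step _ (H.mul_mem hb hab')
    -- halve by a natural multiple
    obtain ⟨p, hp⟩ := CharP.exists F
    haveI := hp
    have hpp : p.Prime := (CharP.char_is_prime_or_zero F p).resolve_right fun h0 => by
      subst h0; haveI := CharP.charP_to_charZero F; exact absurd (Finite.of_fintype F) (not_finite_iff_infinite.2 inferInstance)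
    obtain ⟨k, hk⟩ := hpp.odd_of_ne_two fun h0 => h2 (by subst h0; exact CharTwo.two_eq_zero)
    have := L.nsmul_mem (show 2 * ((γ : F) ^ 2 * c) ∈ L from h) (k + 1)
    rw [nsmul_eq_mul] at this
    have e : ((k + 1 : ℕ) : F) * (2 * ((γ : F) ^ 2 * c)) = (γ : F) ^ 2 * c := by
      have h0 : ((p : ℕ) : F) = 0 := CharP.cast_eq_zero F p
      rw [hk] at h0
      push_cast at h0 ⊢
      linear_combination ((γ : F) ^ 2 * c) * h0
    rwa [e] at this
  exact fun c => addSubgroup_full L hγ (show 2 * η ∈ L from step η hx) (mul_ne_zero h2 hη) hclosed c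

theorem commutator_two [CharP F 2] {w : Fin n ⊕ Fin n → F} (hab : ω a b = 0) (hwb : ω w b = 0) (m m' g : F) :
    tr (a + b) m * tr b m * (tr (g • b + w) m' * tr w m') *
        (tr (a + b) m * tr b m * (tr (g • b + w) m' * tr w m')) =
      tr (a + b) (g * ω w a * m * m') * tr a (g * ω w a * m * m') *
        tr b (g * ω w a * m * m' + g ^ 2 * ω w a ^ 2 * m' ^ 2 * m) := by
  have hba : ω b a = 0 := by rw [omega_swap, hab, neg_zero]
  have hbw : ω b w = 0 := by rw [omega_swap, hwb, neg_zero]
  have h2 : (2 : F) = 0 := CharTwo.two_eq_zero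
  refine ext_act fun x => ?_
  simp only [act_mul, act_tr, map_add, map_smul, LinearMap.add_apply, LinearMap.smul_apply,
    smul_eq_mul, omega_self, hab, hba, hwb, hbw, omega_swap w a, CharTwo.neg_eq]
  match_scalars <;> ring_nf <;> simp [h2, numerals_two (F := F)]

theorem full_even [Fintype F] [CharP F 2] (hab : ω a b = 0) (hua : act u a = a) (hub : act u b = a + b)
    (hva : act v a = (γ : F) • b) (hwb : ω (act v b) b = 0) (hwa : ω (act v b) a ≠ 0)
    (hγ : ∀ x : Fˣ, x ∈ Subgroup.zpowers γ) (hγ1 : (γ : F) ≠ 1) (hu : u ∈ H) (hv : v ∈ H)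
    (hx : tr b (ω (act v b) a)⁻¹ * tr (a + b) (-(ω (act v b) a)⁻¹) ∈ H) : Full H a := by
  set w := act v b
  set ε := ω w a
  have hba : ω b a = 0 := by rw [omega_swap, hab, neg_zero]
  have hcomm : ∀ c d, tr b c * tr (a + b) d = tr (a + b) d * tr b c := fun c d => ext_act fun x => by
    simp only [act_mul, act_tr, map_add, map_smul, LinearMap.add_apply, LinearMap.smul_apply,
      smul_eq_mul, omega_self, hab, hba]
    match_scalars <;> ring
  let M : AddSubgroup F :=
    { carrier := {m | tr (a + b) m * tr b m ∈ H}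
      add_mem' := fun {c d} hc hd => by
        simp only [Set.mem_setOf_eq] at hc hd ⊢
        have := H.mul_mem hc hd
        rwa [show tr (a + b) c * tr b c * (tr (a + b) d * tr b d) = tr (a + b) c * (tr b c * tr (a + b) d) * tr b d
          by group, hcomm, show tr (a + b) c * (tr (a + b) d * tr b c) * tr b d =
            (tr (a + b) c * tr (a + b) d) * (tr b c * tr b d) by group, tr_add, tr_add] at this
      zero_mem' := by simp [tr_zero, H.one_mem]
      neg_mem' := fun {c} hc => by
        simp only [Set.mem_setOf_eq, CharTwo.neg_eq] at hc ⊢; exact hc }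
  have hC : ∀ m ∈ M, ∀ m' ∈ M, tr (a + b) ((γ : F) * ε * m * m') * tr a ((γ : F) * ε * m * m') *
      tr b ((γ : F) * ε * m * m' + (γ : F) ^ 2 * ε ^ 2 * m' ^ 2 * m) ∈ H := by
    intro m hm m' hm'
    have hk : tr ((γ : F) • b + w) m' * tr w m' ∈ H := by
      have := H.mul_mem (H.mul_mem hv hm') (H.inv_mem hv)
      rwa [show v * (tr (a + b) m' * tr b m') * v⁻¹ = (v * tr (a + b) m' * v⁻¹) * (v * tr b m' * v⁻¹) by group,
        tr_conj, tr_conj, act_add, hva] at this
    rw [← commutator_two hab hwb]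
    exact H.mul_mem (H.mul_mem hm hk) (H.mul_mem hm hk)
  have hr : ∀ m ∈ M, ∀ m' ∈ M, (γ : F) ^ 2 * ε ^ 2 * m' ^ 2 * m ∈ M := by
    intro m hm m' hm'
    have h := hC m hm m' hm'
    set K := (γ : F) * ε * m * m'
    set r := (γ : F) ^ 2 * ε ^ 2 * m' ^ 2 * m
    have h' := H.mul_mem (H.mul_mem (H.mul_mem hu h) (H.inv_mem hu)) h
    rw [show u * (tr (a + b) K * tr a K * tr b (K + r)) * u⁻¹ =
        (u * tr (a + b) K * u⁻¹) * (u * tr a K * u⁻¹) * (u * tr b (K + r) * u⁻¹) by group,
      tr_conj, tr_conj, tr_conj, act_add, hua, hub] at h'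
    have e : tr (a + (a + b)) K * tr a K * tr (a + b) (K + r) * (tr (a + b) K * tr a K * tr b (K + r)) =
        tr (a + b) r * tr b r := by
      refine ext_act fun x => ?_
      have h2 : (2 : F) = 0 := CharTwo.two_eq_zero
      simp only [act_mul, act_tr, map_add, map_smul, LinearMap.add_apply, LinearMap.smul_apply,
        smul_eq_mul, omega_self, hab, hba]
      match_scalars <;> ring_nf <;> simp [h2, numerals_two (F := F)]
    rw [e] at h'
    exact h'
  have hη : ε⁻¹ ∈ M := by
    show tr (a + b) ε⁻¹ * tr b ε⁻¹ ∈ H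
    rw [← hcomm]
    rw [CharTwo.neg_eq] at hx
    exact hx
  have hM : ∀ m : F, m ∈ M := addSubgroup_full M hγ hη (inv_ne_zero hwa) fun m hm => by
    have := hr m hm _ hη
    rwa [show (γ : F) ^ 2 * ε ^ 2 * (ε⁻¹) ^ 2 * m = (γ : F) ^ 2 * m by field_simp] at this
  have hC' : ∀ K s : F, s ≠ 0 → tr (a + b) K * tr a K * tr b (K + s * K) ∈ H := by
    intro K s hs
    have := hC (K / s) (hM _) (s / ((γ : F) * ε)) (hM _)
    have hg := γ.ne_zero
    rwa [show (γ : F) * ε * (K / s) * (s / ((γ : F) * ε)) = K by field_simp,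
      show (γ : F) ^ 2 * ε ^ 2 * (s / ((γ : F) * ε)) ^ 2 * (K / s) = s * K by field_simp] at this
  have hb : Full H b := by
    intro c
    have hd : (1 : F) + γ ≠ 0 := fun h => hγ1 (by
      rw [eq_neg_of_add_eq_zero_right h, CharTwo.neg_eq])
    set K := c / (1 + (γ : F))
    have := H.mul_mem (H.inv_mem (hC' K 1 one_ne_zero)) (hC' K γ γ.ne_zero)
    rw [_root_.mul_inv_rev, mul_assoc, inv_mul_cancel_left, tr_inv, tr_add] at this
    rwa [show -(K + 1 * K) + (K + (γ : F) * K) = c by
      rw [CharTwo.neg_eq, show K + 1 * K + (K + (γ : F) * K) = (2 : F) * K + K * (1 + γ) by ring,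
        CharTwo.two_eq_zero, zero_mul, zero_add, div_mul_cancel₀ _ hd]] at this
  intro c
  have h1 := hC' c 1 one_ne_zero
  have h2 : tr (a + b) c ∈ H := by
    have := H.mul_mem (hM c : tr (a + b) c * tr b c ∈ H) (H.inv_mem (hb c))
    rwa [mul_inv_cancel_right] at this
  have h3 := H.mul_mem (H.inv_mem h2) (H.mul_mem h1 (H.inv_mem (hb (c + 1 * c))))
  rwa [mul_inv_cancel_right, inv_mul_cancel_left] at h3

/-- The element `x ↦ x + r (ω(x,a) w + ω(x,w) a)`. -/
def short (a w : Fin n ⊕ Fin n → F) (r : F) : Matrix.symplecticGroup (Fin n) F :=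
  tr (a + w) r * tr w (-r) * tr a (-r)

theorem act_short {w : Fin n ⊕ Fin n → F} (hw : ω w a = 0) (r : F) (x : V) :
    act (short a w r) x = x + (r * ω x a) • w + (r * ω x w) • a := by
  have haw : ω a w = 0 := by rw [omega_swap, hw, neg_zero]
  simp only [short, act_mul, act_tr, map_add, map_smul, LinearMap.add_apply, LinearMap.smul_apply,
    smul_eq_mul, omega_self, hw, haw]
  match_scalars <;> ring

theorem full_all [Fintype F] (hab : ω a b = 0) (hua : act u a = a) (hub : act u b = a + b)
    (hker : ∀ x, (∃ k : F, act u x - x = k • a) → ∃ r s : F, x = r • a + s • b)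
    (hnil : ∃ N, ∀ x, (fun x => act u x - x)^[N] x = 0)
    (hva : act v a = (γ : F) • b) (hex : ∃ k : ℕ, ω a (act (v ^ k) a) ≠ 0)
    (hu : u ∈ H) (hv : v ∈ H) (ha : Full H a) : ∀ x, Full H x := by
  classical
  have hb : Full H b := by
    have h := (ha.conj hv).smul (γ⁻¹ : Fˣ)
    rwa [hva, smul_smul, Units.inv_mul, one_smul] at h
  have hab' : Full H (a + b) := hub ▸ hb.conj hu
  have horb : ∀ k : ℕ, Full H (act (v ^ k) a) := fun k => ha.conj (H.pow_mem hv k)
  have ha0 : a ≠ 0 := by
    rintro rfl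
    obtain ⟨k, hk⟩ := hex
    simp at hk
  -- a vector orthogonal to `a` and not to `b`
  obtain ⟨j, hj1, hj2⟩ : ∃ j : ℕ, ω a (act (v ^ j) a) ≠ 0 ∧ ω a (act (v ^ (j + 1)) a) = 0 := by
    by_contra hcon
    push Not at hcon
    obtain ⟨k, hk⟩ := hex
    have hall : ∀ i, ω a (act (v ^ (k + i)) a) ≠ 0 := by
      intro i
      induction i with
      | zero => exact hk
      | succ i ih => exact hcon _ ih
    have h0 := hall (orderOf v * (k + 1) - k)
    rw [show k + (orderOf v * (k + 1) - k) = orderOf v * (k + 1) by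
      have : k + 1 ≤ orderOf v * (k + 1) := Nat.le_mul_of_pos_left _ (orderOf_pos v)
      omega, pow_mul, pow_orderOf_eq_one, one_pow, act_one, omega_self] at h0
    exact h0 rfl
  set y := act (v ^ j) a
  set z := act (v ^ (j + 1)) a with hzdef
  have hzb : ω z b ≠ 0 := by
    intro h
    refine hj1 ?_
    have e : ω z ((γ : F) • b) = ω y a := by
      rw [← hva, hzdef, pow_succ', act_mul, act_omega]
    rw [map_smul, h, smul_zero] at e
    rw [omega_swap, ← e, neg_zero]
  have hza : ω z a = 0 := by rw [omega_swap, hj2, neg_zero]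
  -- the unipotent radical
  let A : Submodule F (Fin n ⊕ Fin n → F) :=
    { carrier := {w | ω w a = 0 ∧ ∀ r, short a w r ∈ H}
      zero_mem' := by
        refine ⟨by simp, fun r => ?_⟩
        rw [show short a (0 : V) r = 1 from ext_act fun x => by
          rw [act_short (by simp), act_one]; simp]
        exact H.one_mem
      add_mem' := fun {w w'} hw hw' => by
        refine ⟨by rw [map_add, LinearMap.add_apply, hw.1, hw'.1, add_zero], fun r => ?_⟩
        have hs : ω (w + w') a = 0 := by rw [map_add, LinearMap.add_apply, hw.1, hw'.1, add_zero]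
        have h1 : ω a w = 0 := by rw [omega_swap, hw.1, neg_zero]
        have h1' : ω a w' = 0 := by rw [omega_swap, hw'.1, neg_zero]
        rw [show short a (w + w') r = short a w r * short a w' r * tr a (-(r * r * ω w' w)) from
          ext_act fun x => by
            simp only [act_mul, act_short hs, act_short hw.1, act_short hw'.1, act_tr, map_add, map_smul,
              LinearMap.add_apply, LinearMap.smul_apply, smul_eq_mul, omega_self, hw.1, hw'.1, h1, h1']
            match_scalars <;> ring]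
        exact H.mul_mem (H.mul_mem (hw.2 r) (hw'.2 r)) (ha _)
      smul_mem' := fun s w hw => by
        refine ⟨by rw [map_smul, LinearMap.smul_apply, hw.1, smul_zero], fun r => ?_⟩
        rw [show short a (s • w) r = short a w (r * s) from ext_act fun x => by
          rw [act_short hw.1, act_short (by rw [map_smul, LinearMap.smul_apply, hw.1, smul_zero]),
            map_smul, smul_smul, smul_eq_mul]
          match_scalars <;> ring]
        exact hw.2 _ }
  have hmem : ∀ w, ω w a = 0 → Full H w → Full H (a + w) → w ∈ A := fun w h1 h2 h3 =>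
    ⟨h1, fun r => H.mul_mem (H.mul_mem (h3 r) (h2 _)) (ha _)⟩
  have hbA : b ∈ A := hmem b (by rw [omega_swap, hab, neg_zero]) hb hab'
  have hzF : Full H z := horb (j + 1)
  have hzA : z ∈ A := by
    refine hmem z hza hzF ?_
    have h := hzF.conj (hbA.2 (ω z b)⁻¹)
    rw [act_short hbA.1, hza, mul_zero, zero_smul, add_zero, inv_mul_cancel₀ hzb, one_smul, add_comm] at h
    exact h
  have hAu : ∀ w ∈ A, act u w ∈ A := fun w hw => by
    refine ⟨by conv_lhs => rw [← hua]
               rw [act_omega]; exact hw.1, fun r => ?_⟩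
    rw [show short a (act u w) r = u * short a w r * u⁻¹ by
      rw [short, short, show u * (tr (a + w) r * tr w (-r) * tr a (-r)) * u⁻¹ =
        (u * tr (a + w) r * u⁻¹) * (u * tr w (-r) * u⁻¹) * (u * tr a (-r) * u⁻¹) by group,
        tr_conj, tr_conj, tr_conj, act_add, hua]]
    exact H.mul_mem (H.mul_mem hu (hw.2 r)) (H.inv_mem hu)
  have hB : ∀ x, (∀ w ∈ A, ω x w = 0) → ∃ k : F, x = k • a := by
    intro x hx
    by_contra hne
    have hstep : ∀ x, (∀ w ∈ A, ω x w = 0) → ∀ w ∈ A, ω (act u x - x) w = 0 := by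
      intro x hx w hw
      obtain ⟨⟨w0, hw0⟩, e'⟩ := Finite.surjective_of_injective (f := fun w : A => (⟨act u w.1, hAu _ w.2⟩ : A))
        (fun p q h => Subtype.ext (by
          have h' := congrArg (fun t : A => act u⁻¹ t.1) h
          simpa only [act_inv_act] using h')) ⟨w, hw⟩
      have e : act u w0 = w := congrArg Subtype.val e'
      rw [← e, map_sub, LinearMap.sub_apply, act_omega, hx _ hw0,
        hx _ (hAu _ hw0), sub_zero]
    set f := fun x : V => act u x - x with hf
    obtain ⟨N, hN⟩ := hnil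
    have hiter : ∀ i, ∀ w ∈ A, ω (f^[i] x) w = 0 := by
      intro i
      induction i with
      | zero => exact hx
      | succ i ih => rw [Function.iterate_succ_apply']; exact hstep _ ih
    have hex' : ∃ i, ∃ k : F, f^[i] x = k • a := ⟨N, 0, by rw [hN, zero_smul]⟩
    obtain ⟨i, hi⟩ : ∃ i, Nat.find hex' = i + 1 := by
      refine ⟨Nat.find hex' - 1, (Nat.sub_add_cancel (Nat.one_le_iff_ne_zero.2 fun h => hne ?_)).symm⟩
      have := Nat.find_spec hex'
      rwa [h] at this
    have hnot := Nat.find_min hex' (m := i) (by omega)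
    have hspec := Nat.find_spec hex'
    rw [hi, Function.iterate_succ_apply'] at hspec
    obtain ⟨r, s, hrs⟩ := hker _ hspec
    have h := hiter i z hzA
    rw [hrs, map_add, map_smul, map_smul, LinearMap.add_apply, LinearMap.smul_apply, LinearMap.smul_apply,
      omega_swap z a, hza, neg_zero, smul_zero, zero_add, smul_eq_mul, mul_eq_zero, omega_swap z b,
      neg_eq_zero] at h
    exact hnot ⟨r, by rw [hrs, h.resolve_right hzb, zero_smul, add_zero]⟩
  have hA : ∀ w, ω w a = 0 → w ∈ A := by
    intro w hw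
    have h := LinearMap.BilinForm.orthogonal_orthogonal sympB_nondegenerate
      (sympB_isAlt (m := n) (F := F)).isRefl A
    rw [← h, LinearMap.BilinForm.mem_orthogonal_iff]
    intro x hx
    rw [LinearMap.BilinForm.mem_orthogonal_iff] at hx
    obtain ⟨k, rfl⟩ := hB x fun t ht => by
      have h' : ω t x = 0 := hx t ht
      rw [omega_swap, h', neg_zero]
    show ω (k • a) w = 0
    rw [map_smul, LinearMap.smul_apply, omega_swap, hw, neg_zero, smul_zero]
  have hout : ∀ w, ω w a ≠ 0 → Full H w := by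
    intro w hw
    have hy : ω y a ≠ 0 := by rwa [omega_swap, neg_ne_zero]
    obtain ⟨y', hyf, hya⟩ : ∃ y', Full H y' ∧ ω y' a = ω w a :=
      ⟨(ω w a / ω y a) • y, (horb j).smul _, by
        rw [map_smul, LinearMap.smul_apply, smul_eq_mul, div_mul_cancel₀ _ hy]⟩
    have hd : ω (w - y') a = 0 := by rw [map_sub, LinearMap.sub_apply, hya, sub_self]
    set s := ω w a
    have hg : tr a (-(ω y' (w - y')) / s ^ 2) * short a (w - y') s⁻¹ ∈ H :=
      H.mul_mem (ha _) ((hA _ hd).2 _)
    have h := hyf.conj hg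
    have e : act (tr a (-(ω y' (w - y')) / s ^ 2) * short a (w - y') s⁻¹) y' = w := by
      rw [act_mul, act_short hd, act_tr, map_add, map_add, map_smul, map_smul, LinearMap.add_apply,
        LinearMap.add_apply, LinearMap.smul_apply, LinearMap.smul_apply, omega_self, hd, hya,
        smul_zero, smul_zero, add_zero, add_zero, inv_mul_cancel₀ hw, one_smul, add_assoc, ← add_smul]
      rw [show s⁻¹ * ω y' (w - y') + -(ω y' (w - y')) / s ^ 2 * s = 0 by field_simp; ring, zero_smul,
        add_zero, add_sub_cancel]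
    rwa [e] at h
  intro x
  by_cases hx : ω x a = 0
  swap
  · exact hout x hx
  by_cases hx0 : x = 0
  · subst hx0
    simpa using ha.smul 0
  obtain ⟨w, hw1, hw2⟩ : ∃ w, ω w a ≠ 0 ∧ ω w x ≠ 0 := by
    have hn : ∀ t : V, t ≠ 0 → ∃ w, ω w t ≠ 0 := fun t ht => by
      by_contra h
      push Not at h
      exact ht (sympB_nondegenerate.2 t h)
    obtain ⟨w1, h1⟩ := hn a ha0
    obtain ⟨w2, h2⟩ := hn x hx0
    by_cases e1 : ω w1 x = 0
    · by_cases e2 : ω w2 a = 0
      · exact ⟨w1 + w2, by rwa [map_add, LinearMap.add_apply, e2, add_zero],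
          by rwa [map_add, LinearMap.add_apply, e1, zero_add]⟩
      · exact ⟨w2, e2, h2⟩
    · exact ⟨w1, h1, e1⟩
  have hp : Full H (x - w) := hout _ (by rwa [map_sub, LinearMap.sub_apply, hx, zero_sub, neg_ne_zero])
  have h := (hout w hw1).conj (hp (1 / ω w x))
  rwa [act_tr, map_sub, omega_self, sub_zero, div_mul_cancel₀ _ hw2, one_smul, add_sub_cancel] at h

theorem eq_top_of_full (h : ∀ x, Full H x) : H = ⊤ := by
  rw [eq_top_iff, ← symplectic_transvection_closure, Subgroup.closure_le]
  rintro A ⟨w, c, hA⟩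
  exact (show A = tr w c from Subtype.ext hA) ▸ h w c

end Criterion

/-! ### The elements -/



variable (F n)

/-- The superdiagonal. -/
def shift : Matrix (Fin n) (Fin n) F := Matrix.of fun i j => if i.val + 1 = j.val then 1 else 0

variable {F n}

theorem shift_pow_eq_zero : ∀ (k : ℕ) (i j : Fin n), j.val < i.val + k → (shift F n ^ k) i j = 0 := by
  intro k
  induction k with
  | zero => exact fun i j h => Matrix.one_apply_ne fun e => by rw [e] at h; omega
  | succ k ih =>
    intro i j h
    rw [pow_succ, Matrix.mul_apply]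
    refine Finset.sum_eq_zero fun t _ => ?_
    by_cases ht : t.val + 1 = j.val
    · rw [ih i t (by omega), zero_mul]
    · simp [shift, ht]

theorem det_one_sub_shift : (1 - shift F n).det = 1 := by
  rw [Matrix.det_of_upperTriangular]
  · exact Finset.prod_eq_one fun i _ => by simp [shift]
  · intro i j hij
    have : j.val < i.val := hij
    rw [Matrix.sub_apply, Matrix.one_apply_ne (fun e => by rw [e] at this; omega), shift, Matrix.of_apply,
      if_neg (by omega), sub_zero]

theorem fromBlocks_pow_upper (a b d : Matrix (Fin n) (Fin n) F) (k : ℕ) :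
    ∃ c, fromBlocks a b 0 d ^ k = fromBlocks (a ^ k) c 0 (d ^ k) := by
  induction k with
  | zero => exact ⟨0, by rw [pow_zero, pow_zero, pow_zero, fromBlocks_one]⟩
  | succ k ih =>
    obtain ⟨c, hc⟩ := ih
    exact ⟨a ^ k * b + c * d, by
      rw [pow_succ, hc, fromBlocks_multiply]; simp [pow_succ]⟩

/-- A block diagonal element. -/
def levi (P Q : Matrix (Fin n) (Fin n) F) (h : P * Q = 1) : Matrix.symplecticGroup (Fin n) F :=
  ⟨fromBlocks P 0 0 Qᵀ, by
    rw [SymplecticGroup.mem_iff, Matrix.J, fromBlocks_transpose, fromBlocks_multiply, fromBlocks_multiply]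
    simp [← transpose_mul, h]⟩

theorem act_levi (P Q : Matrix (Fin n) (Fin n) F) (h : P * Q = 1) (p q : Fin n → F) :
    act (levi P Q h) (Sum.elim p q) = Sum.elim (P *ᵥ p) (Qᵀ *ᵥ q) := by
  simp [act, levi, fromBlocks_mulVec]

/-- An elementary element of the Siegel radical. -/
def siegelAt (i : Fin n) : Matrix.symplecticGroup (Fin n) F :=
  ⟨fromBlocks 1 (Matrix.single i i 1) 0 1, by
    rw [SymplecticGroup.mem_iff, Matrix.J, fromBlocks_transpose, fromBlocks_multiply, fromBlocks_multiply]
    simp⟩

theorem act_siegelAt (i : Fin n) (p q : Fin n → F) :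
    act (siegelAt i) (Sum.elim p q) = Sum.elim (p + q i • Pi.single i 1) q := by
  simp only [act, siegelAt, fromBlocks_mulVec, Sum.elim_comp_inl, Sum.elim_comp_inr, one_mulVec,
    zero_mulVec, zero_add]
  congr 1
  funext j
  by_cases h : j = i
  · subst h; simp [Matrix.mulVec, dotProduct, Matrix.single_apply]
  · simp [Matrix.mulVec, dotProduct, Matrix.single_apply, h, Ne.symm h]

theorem omega_elim (p q p' q' : Fin n → F) :
    ω (Sum.elim p q) (Sum.elim p' q') = ∑ i, (q i * p' i - p i * q' i) := by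
  rw [sympB_apply, sympForm_eq]; rfl

/-- A linear equivalence moving a pair of coordinate vectors. -/
theorem exists_move {N : ℕ} {p q i j : Fin N} (hpq : p ≠ q) (hij : i ≠ j) (γ : Fˣ) :
    ∃ E : (Fin N → F) ≃ₗ[F] (Fin N → F), E (-Pi.single p 1) = Pi.single i 1 ∧
      E (-(Pi.single p 1 - Pi.single q 1)) = (γ : F) • Pi.single j 1 := by
  let K : (Fin N → F) ≃ₗ[F] (Fin N → F) :=
    { toFun := fun a t => if t = p then -a p - a q else if t = q then (γ : F) * a q else a t
      map_add' := fun a b => by funext t; simp only [Pi.add_apply]; split_ifs <;> ring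
      map_smul' := fun c a => by
        funext t; simp only [Pi.smul_apply, smul_eq_mul, RingHom.id_apply]; split_ifs <;> ring
      invFun := fun a t => if t = p then -a p - (γ⁻¹ : Fˣ) * a q else
        if t = q then (γ⁻¹ : Fˣ) * a q else a t
      left_inv := fun a => by
        funext t
        by_cases h1 : t = p
        · subst h1; simp [hpq.symm]
        · by_cases h2 : t = q
          · subst h2; simp [hpq.symm]
          · simp [h1, h2]
      right_inv := fun a => by
        funext t
        by_cases h1 : t = p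
        · subst h1; simp [hpq.symm]
        · by_cases h2 : t = q
          · subst h2; simp [hpq.symm]
          · simp [h1, h2] }
  have hK1 : K (-Pi.single p 1) = Pi.single p 1 := by
    funext t
    show (if t = p then _ else _) = _
    by_cases h1 : t = p
    · subst h1; simp [hpq.symm]
    · by_cases h2 : t = q
      · subst h2; simp [hpq.symm]
      · simp [h1, h2]
  have hK2 : K (-(Pi.single p 1 - Pi.single q 1)) = (γ : F) • Pi.single q 1 := by
    funext t
    show (if t = p then _ else _) = _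
    by_cases h1 : t = p
    · subst h1; simp [hpq.symm, hpq]
    · by_cases h2 : t = q
      · subst h2; simp [hpq.symm]
      · simp [h1, h2]
  set π : Equiv.Perm (Fin N) := Equiv.swap (Equiv.swap p i q) j * Equiv.swap p i with hπ
  have hπq : π q = j := by rw [hπ, Equiv.Perm.mul_apply, Equiv.swap_apply_left]
  have hπp : π p = i := by
    rw [hπ, Equiv.Perm.mul_apply, Equiv.swap_apply_left, Equiv.swap_apply_of_ne_of_ne _ hij]
    intro h
    exact hpq ((Equiv.swap p i).injective ((Equiv.swap_apply_left p i).trans h))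
  have hs : ∀ t : Fin N, LinearEquiv.funCongrLeft F F π.symm (Pi.single t (1 : F)) = Pi.single (π t) 1 := by
    intro t
    funext z
    obtain ⟨z, rfl⟩ := π.surjective z
    rw [LinearEquiv.funCongrLeft_apply, LinearMap.funLeft_apply, Equiv.symm_apply_apply]
    by_cases h : z = t
    · subst h; simp
    · rw [Pi.single_eq_of_ne h, Pi.single_eq_of_ne (π.injective.ne h)]
  refine ⟨K.trans (LinearEquiv.funCongrLeft F F π.symm), ?_, ?_⟩
  · rw [LinearEquiv.trans_apply, hK1, hs, hπp]
  · rw [LinearEquiv.trans_apply, hK2, map_smul, hs, hπq]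

/-- A coordinate vector of the first half. -/
def vec (i : Fin n) : Fin n ⊕ Fin n → F := Sum.elim (Pi.single i 1) 0

theorem vec_inl (i j : Fin n) : vec (F := F) i (Sum.inl j) = (Pi.single i 1 : Fin n → F) j := rfl

theorem vec_inr (i j : Fin n) : vec (F := F) i (Sum.inr j) = 0 := rfl

theorem omega_vec (i j : Fin n) : ω (vec i) (vec j) = 0 := by
  rw [vec, vec, omega_elim]; simp

set_option maxHeartbeats 1600000 in
/-- The regular unipotent element, with a vector moved isotropically once but not twice. -/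
theorem exists_regular [Fintype F] (m : ℕ) :
    ∃ (u : Matrix.symplecticGroup (Fin (m + 2)) F) (i0 i1 ip iq : Fin (m + 2)),
      i0.val = 0 ∧ i1.val = 1 ∧ ip ≠ iq ∧ IsNilpotent (u.1 - 1) ∧ (u.1 - 1) ^ (2 * (m + 2) - 1) ≠ 0 ∧
      (∃ N, ∀ x, (fun x => act u x - x)^[N] x = 0) ∧
      act u (vec i0) = vec i0 ∧ act u (vec i1) = vec i0 + vec i1 ∧
      (∀ i : Fin (m + 2), i.val = 2 → act u (vec i) = vec i0 + vec i1 + vec i) ∧
      (∀ x, (∃ k : F, act u x - x = k • vec i0) → ∃ r s : F, x = r • vec i0 + s • vec i1) ∧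
      act u (Sum.elim (0 : Fin (m + 2) → F) (Pi.single ip 1)) = Sum.elim (0 : Fin (m + 2) → F) (Pi.single ip 1 - Pi.single iq 1) ∧
      sympB (m + 2) F (Sum.elim (0 : Fin (m + 2) → F) (Pi.single ip 1)) (act u (Sum.elim (0 : Fin (m + 2) → F) (Pi.single ip 1 - Pi.single iq 1))) = -1 := by
  classical
  obtain ⟨i0, hi0⟩ : ∃ i : Fin (m + 2), i.val = 0 := ⟨⟨0, by omega⟩, rfl⟩
  obtain ⟨i1, hi1⟩ : ∃ i : Fin (m + 2), i.val = 1 := ⟨⟨1, by omega⟩, rfl⟩
  obtain ⟨ip, hip⟩ : ∃ i : Fin (m + 2), i.val = m := ⟨⟨m, by omega⟩, rfl⟩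
  obtain ⟨iq, hiq⟩ : ∃ i : Fin (m + 2), i.val = m + 1 := ⟨⟨m + 1, by omega⟩, rfl⟩
  set B : Matrix (Fin (m + 2)) (Fin (m + 2)) F := 1 - shift F (m + 2) with hB
  have hBu : IsUnit B.det := by rw [hB, det_one_sub_shift]; exact isUnit_one
  set P := B⁻¹ with hP
  have hPB : P * B = 1 := nonsing_inv_mul _ hBu
  have hBP : B * P = 1 := mul_nonsing_inv _ hBu
  have hBrow : ∀ (x : Fin (m + 2) → F) (i : Fin (m + 2)),
      (B *ᵥ x) i = x i - if h : i.val + 1 < m + 2 then x ⟨i.val + 1, h⟩ else 0 := by
    intro x i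
    rw [hB, sub_mulVec, one_mulVec, Pi.sub_apply]
    congr 1
    simp only [mulVec, dotProduct, shift, Matrix.of_apply, ite_mul, one_mul, zero_mul]
    split
    · rename_i h
      rw [Finset.sum_eq_single (⟨i.val + 1, h⟩ : Fin (m + 2))]
      · simp
      · intro t _ ht
        rw [if_neg fun e => ht (Fin.ext e.symm)]
      · simp
    · exact Finset.sum_eq_zero fun t _ => if_neg (by have := t.isLt; omega)
  have hBT : ∀ (x : Fin (m + 2) → F) (i : Fin (m + 2)),
      (Bᵀ *ᵥ x) i = x i - if h : 1 ≤ i.val then x ⟨i.val - 1, by omega⟩ else 0 := by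
    intro x i
    rw [hB, transpose_sub, transpose_one, sub_mulVec, one_mulVec, Pi.sub_apply]
    congr 1
    simp only [mulVec, dotProduct, transpose_apply, shift, Matrix.of_apply, ite_mul, one_mul, zero_mul]
    split
    · rename_i h
      rw [Finset.sum_eq_single (⟨i.val - 1, by omega⟩ : Fin (m + 2))]
      · rw [if_pos]; simp; omega
      · intro t _ ht
        rw [if_neg fun e => ht (Fin.ext (by simp; omega))]
      · simp
    · exact Finset.sum_eq_zero fun t _ => if_neg (by omega)
  set u : Matrix.symplecticGroup (Fin (m + 2)) F := levi P B hPB * siegelAt iq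
  have hact : ∀ p q : Fin (m + 2) → F,
      act u (Sum.elim p q) = Sum.elim (P *ᵥ (p + q iq • Pi.single iq 1)) (Bᵀ *ᵥ q) := fun p q => by
    rw [act_mul, act_siegelAt, act_levi]
  have hue : ∀ i x, P *ᵥ Pi.single i 1 = x → act u (vec i) = Sum.elim x 0 := fun i x h => by
    rw [vec, hact, Pi.zero_apply, zero_smul, add_zero, mulVec_zero, h]
  have hPx : ∀ x y, B *ᵥ x = y → P *ᵥ y = x := fun x y h => by
    rw [← h, mulVec_mulVec, hPB, one_mulVec]
  have hsingle : ∀ (i t : Fin (m + 2)), (Pi.single i (1 : F) : Fin (m + 2) → F) t =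
      if t.val = i.val then 1 else 0 := fun i t => by
    rw [Pi.single_apply]; exact if_congr Fin.ext_iff rfl rfl
  have hua : act u (vec i0) = vec i0 := hue _ _ (hPx _ _ (funext fun i => by
    rw [hBrow]
    simp only [hsingle, hi0]
    split_ifs <;> first | omega | contradiction | simp))
  have hub : act u (vec i1) = vec i0 + vec i1 := by
    rw [hue i1 (Pi.single i0 1 + Pi.single i1 1) (hPx _ _ (funext fun i => by
      rw [hBrow]
      simp only [Pi.add_apply, hsingle, hi0, hi1]
      split_ifs <;> first | omega | contradiction | simp))]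
    funext t; cases t <;> simp [vec_inl, vec_inr]
  have huc : ∀ i : Fin (m + 2), i.val = 2 → act u (vec i) = vec i0 + vec i1 + vec i := by
    intro i2 hi2
    rw [hue i2 (Pi.single i0 1 + Pi.single i1 1 + Pi.single i2 1) (hPx _ _ (funext fun i => by
      rw [hBrow]
      simp only [Pi.add_apply, hsingle, hi0, hi1, hi2]
      split_ifs <;> first | omega | contradiction | simp))]
    funext t; cases t <;> simp [vec_inl, vec_inr]
  have hker : ∀ x, (∃ k : F, act u x - x = k • vec i0) → ∃ r s : F, x = r • vec i0 + s • vec i1 := by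
    rintro x ⟨k, hk⟩
    obtain ⟨p, q, rfl⟩ : ∃ p q : Fin (m + 2) → F, x = Sum.elim p q :=
      ⟨x ∘ Sum.inl, x ∘ Sum.inr, by funext t; cases t <;> rfl⟩
    rw [hact, sub_eq_iff_eq_add] at hk
    have hl : P *ᵥ (p + q iq • Pi.single iq 1) = k • Pi.single i0 1 + p := funext fun i => by
      simpa [vec_inl] using congrFun hk (Sum.inl i)
    have hr : Bᵀ *ᵥ q = q := funext fun i => by simpa [vec_inr] using congrFun hk (Sum.inr i)
    have hq0 : ∀ i : Fin (m + 2), i.val < m + 1 → q i = 0 := by
      intro i hi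
      have h := congrFun hr ⟨i.val + 1, by omega⟩
      rw [hBT, dif_pos (by simp), sub_eq_self] at h
      exact h
    have hl' : p + q iq • Pi.single iq 1 = B *ᵥ (k • Pi.single i0 1 + p) := by
      rw [← hl, mulVec_mulVec, hBP, one_mulVec]
    have hqq : q iq = 0 := by
      have h := congrFun hl' iq
      rw [hBrow, dif_neg (by omega)] at h
      simp only [Pi.add_apply, Pi.smul_apply, hsingle, hi0, hiq, if_true, smul_eq_mul] at h
      rw [if_neg (by omega)] at h
      linear_combination h
    have hp0 : ∀ i : Fin (m + 2), 2 ≤ i.val → p i = 0 := by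
      intro i hi
      have h := congrFun hl' ⟨i.val - 1, by omega⟩
      rw [hBrow, dif_pos (by simp; omega)] at h
      have e1 : (⟨i.val - 1 + 1, by omega⟩ : Fin (m + 2)) = i := Fin.ext (by simp; omega)
      simp only [e1, Pi.add_apply, Pi.smul_apply, hsingle, hi0, smul_eq_mul, hqq] at h
      rw [if_neg (c := i.val - 1 = 0) (by omega), if_neg (c := i.val = 0) (by omega)] at h
      linear_combination h
    refine ⟨p i0, p i1, funext fun t => ?_⟩
    rcases t with i | i
    · simp only [Sum.elim_inl, Pi.add_apply, Pi.smul_apply, vec_inl, hsingle, hi0, hi1, smul_eq_mul]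
      split_ifs with h0 h1
      · omega
      · rw [show i = i0 from Fin.ext (by omega)]; ring
      · rw [show i = i1 from Fin.ext (by omega)]; ring
      · rw [hp0 i (by omega)]; ring
    · simp only [Sum.elim_inr, Pi.add_apply, Pi.smul_apply, vec_inr, smul_zero, add_zero]
      by_cases h1 : i.val < m + 1
      · exact hq0 i h1
      · rw [show i = iq from Fin.ext (by omega)]; exact hqq
  have hnilp : IsNilpotent (u.1 - 1) := by
    have hu1 : u.1 - 1 = fromBlocks (P - 1) (P * Matrix.single iq iq 1) 0 (Bᵀ - 1) := by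
      rw [← fromBlocks_one]
      change fromBlocks P 0 0 Bᵀ * fromBlocks 1 (Matrix.single iq iq 1) 0 1 - _ = _
      rw [fromBlocks_multiply]
      ext (i | i) (j | j) <;> simp [Matrix.one_apply]
    have hN : shift F (m + 2) ^ (m + 2) = 0 := Matrix.ext fun i j =>
      shift_pow_eq_zero _ i j (by omega)
    have hPn : (P - 1) ^ (m + 2) = 0 := by
      have hc : Commute B (P - 1) := by
        refine Commute.sub_right ?_ (Commute.one_right _)
        exact hBP.trans hPB.symm
      have e : B ^ (m + 2) * (P - 1) ^ (m + 2) = 0 := by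
        rw [← hc.mul_pow, mul_sub, hBP, mul_one, hB, sub_sub_cancel, hN]
      have e2 : P ^ (m + 2) * B ^ (m + 2) = 1 := by
        rw [← (show Commute P B from hPB.trans hBP.symm).mul_pow, hPB, one_pow]
      calc (P - 1) ^ (m + 2) = P ^ (m + 2) * B ^ (m + 2) * (P - 1) ^ (m + 2) := by rw [e2, one_mul]
        _ = 0 := by rw [mul_assoc, e, mul_zero]
    have hBn : (Bᵀ - 1) ^ (m + 2) = 0 := by
      rw [hB, transpose_sub, transpose_one, sub_sub_cancel_left, neg_pow, ← transpose_pow, hN,
        transpose_zero, mul_zero]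
    refine ⟨(m + 2) + (m + 2), ?_⟩
    obtain ⟨c, hc⟩ := fromBlocks_pow_upper (P - 1) (P * Matrix.single iq iq 1) (Bᵀ - 1) (m + 2)
    rw [pow_add, hu1, hc, hPn, hBn, fromBlocks_multiply]
    simp
  have hnil : ∃ N, ∀ x, (fun x => act u x - x)^[N] x = 0 := by
    obtain ⟨N, hN⟩ := hnilp
    refine ⟨N, fun x => ?_⟩
    have : ∀ k x, (fun x => act u x - x)^[k] x = ((u.1 - 1) ^ k) *ᵥ x := by
      intro k
      induction k with
      | zero => simp
      | succ k ih =>
        intro x
        rw [Function.iterate_succ_apply', ih, pow_succ', ← mulVec_mulVec, sub_mulVec, one_mulVec]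
        rfl
    rw [this, hN, zero_mulVec]
  have hreg : (u.1 - 1) ^ (2 * (m + 2) - 1) ≠ 0 := by
    set z : Module.End F (Fin (m + 2) ⊕ Fin (m + 2) → F) := Matrix.toLinAlgEquiv' (u.1 - 1) with hz
    have hzx : ∀ x, z x = act u x - x := fun x => by
      simp [hz, act, Matrix.toLinAlgEquiv'_apply, sub_mulVec]
    have hd : Module.finrank F (Fin (m + 2) ⊕ Fin (m + 2) → F) = (2 * (m + 2) - 1) + 1 := by
      rw [Module.finrank_fintype_fun_eq_card, Fintype.card_sum, Fintype.card_fin]; omega
    have hv0 : vec i0 ≠ (0 : Fin (m + 2) ⊕ Fin (m + 2) → F) := fun h => by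
      have := congrFun h (Sum.inl i0)
      simp [vec_inl] at this
    have hk : LinearMap.ker z = Submodule.span F {vec i0} := by
      ext x
      rw [LinearMap.mem_ker, hzx, Submodule.mem_span_singleton]
      constructor
      · intro h
        obtain ⟨r, s, rfl⟩ := hker x ⟨0, by rw [h, zero_smul]⟩
        rw [act_add, act_smul, act_smul, hua, hub] at h
        have h1 : s • vec i0 = (0 : Fin (m + 2) ⊕ Fin (m + 2) → F) := by rw [← h, smul_add]; abel
        exact ⟨r, by rw [(smul_eq_zero.1 h1).resolve_right hv0, zero_smul, add_zero]⟩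
      · rintro ⟨r, rfl⟩
        rw [act_smul, hua, sub_self]
    have hk1 : Module.finrank F (LinearMap.ker z) = 1 := by
      rw [hk, finrank_span_singleton hv0]
    obtain ⟨w, hw⟩ := Linear.SpRegUnipotent.exists_top_of_rank (z := z) hd (by
      have := LinearMap.finrank_range_add_finrank_ker z
      omega)
    intro h
    rw [hz, ← map_pow, h, map_zero] at hw
    exact hw rfl
  have hne : iq ≠ ip := fun h => by have := congrArg Fin.val h; omega
  have huw : act u (Sum.elim (0 : Fin (m + 2) → F) (Pi.single ip 1)) = Sum.elim (0 : Fin (m + 2) → F) (Pi.single ip 1 - Pi.single iq 1) := by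
    rw [hact, Pi.single_eq_of_ne hne, zero_smul, add_zero, mulVec_zero]
    congr 1
    funext i
    rw [hBT]
    simp only [Pi.sub_apply, hsingle, hip, hiq]
    split_ifs <;> first | omega | contradiction | simp
  refine ⟨u, i0, i1, ip, iq, hi0, hi1, hne.symm, hnilp, hreg, hnil, hua, hub, huc, hker, huw, ?_⟩
  rw [hact, omega_elim]
  have hx : ∀ i, (P *ᵥ ((0 : Fin (m + 2) → F) + (Pi.single ip (1 : F) - Pi.single iq 1 : Fin (m + 2) → F) iq
      • Pi.single iq 1)) i = -1 := by
    intro i
    rw [zero_add, Pi.sub_apply, Pi.single_eq_same, Pi.single_eq_of_ne hne, zero_sub,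
      hPx (fun _ => -1) _ (funext fun t => by
        rw [hBrow]
        simp only [Pi.smul_apply, hsingle, hiq, smul_eq_mul]
        have := t.isLt
        split_ifs <;> first | omega | contradiction | simp)]
  simp only [hx, Pi.zero_apply, zero_mul, sub_zero]
  rw [Finset.sum_eq_single ip (fun t _ ht => by rw [Pi.single_eq_of_ne ht, zero_mul]) (by simp),
    Pi.single_eq_same, one_mul]

set_option maxHeartbeats 1600000 in
theorem exists_generators [Fintype F] (m : ℕ) (h22 : ¬ (m = 0 ∧ Fintype.card F = 2)) :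
    ∃ u g h : Matrix.symplecticGroup (Fin (m + 2)) F,
      IsNilpotent (u.1 - 1) ∧ (u.1 - 1) ^ (2 * (m + 2) - 1) ≠ 0 ∧
      Subgroup.closure ({u, g * u * g⁻¹, h * u * h⁻¹} : Set (Matrix.symplecticGroup (Fin (m + 2)) F)) = ⊤ := by
  classical
  obtain ⟨u, i0, i1, ip, iq, hi0, hi1, hpq, hnilp, hreg, hnil, hua, hub, huc, hker, huw, hw2⟩ :=
    exists_regular (F := F) m
  obtain ⟨γ, hγ⟩ := IsCyclic.exists_generator (α := Fˣ)
  obtain ⟨E, hE1, hE2⟩ := exists_move (i := i0) (j := i1) hpq
    (fun h => by have := congrArg Fin.val h; omega) γ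
  have hab : sympB (m + 2) F (vec i0) (vec i1) = 0 := omega_vec i0 i1
  have hEE : LinearMap.toMatrix' E.toLinearMap * LinearMap.toMatrix' E.symm.toLinearMap = 1 := by
    rw [← LinearMap.toMatrix'_comp, LinearEquiv.comp_symm, LinearMap.toMatrix'_id]
  set g : Matrix.symplecticGroup (Fin (m + 2)) F :=
    levi _ _ hEE * ⟨Matrix.J (Fin (m + 2)) F, SymplecticGroup.J_mem _ _⟩ with hg
  have hgf : ∀ q : Fin (m + 2) → F, act g (Sum.elim 0 q) = Sum.elim (E (-q)) 0 := by
    intro q
    rw [hg, act_mul]
    have : act (⟨Matrix.J (Fin (m + 2)) F, SymplecticGroup.J_mem _ _⟩ : Matrix.symplecticGroup (Fin (m + 2)) F)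
        (Sum.elim 0 q) = Sum.elim (-q) 0 := by
      simp [act, Matrix.J, fromBlocks_mulVec, Matrix.neg_mulVec]
    rw [this, act_levi, LinearMap.toMatrix'_mulVec, mulVec_zero]
    rfl
  set w : Fin (m + 2) ⊕ Fin (m + 2) → F := Sum.elim (0 : Fin (m + 2) → F) (Pi.single ip 1) with hwdef
  have hgw : act g w = vec i0 := by rw [hwdef, hgf, hE1]; rfl
  have hguw : act g (act u w) = (γ : F) • vec i1 := by
    rw [huw, hgf, hE2]
    funext t
    cases t <;> simp [vec_inl, vec_inr]
  set v := g * u * g⁻¹ with hv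
  have hginv : act g⁻¹ (vec i0) = w := by rw [← hgw, act_inv_act]
  have hva : act v (vec i0) = (γ : F) • vec i1 := by rw [hv, act_mul, act_mul, hginv, hguw]
  have hd2 : sympB (m + 2) F (vec i0) (act v (act v (vec i0))) = -1 := by
    rw [← act_mul, hv, show g * u * g⁻¹ * (g * u * g⁻¹) = g * (u * u) * g⁻¹ by group, act_mul, act_mul,
      hginv, ← hgw, act_omega, act_mul, huw, hw2]
  have hex : ∃ k : ℕ, sympB (m + 2) F (vec i0) (act (v ^ k) (vec i0)) ≠ 0 :=
    ⟨2, by rw [sq, act_mul, hd2]; exact neg_ne_zero.2 one_ne_zero⟩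
  have hfin : ∀ y : Matrix.symplecticGroup (Fin (m + 2)) F,
      Full (Subgroup.closure ({u, g * u * g⁻¹, y * u * y⁻¹} : Set _)) (vec i0) →
      ∃ u' g' h' : Matrix.symplecticGroup (Fin (m + 2)) F,
      IsNilpotent (u'.1 - 1) ∧ (u'.1 - 1) ^ (2 * (m + 2) - 1) ≠ 0 ∧
      Subgroup.closure ({u', g' * u' * g'⁻¹, h' * u' * h'⁻¹} : Set (Matrix.symplecticGroup (Fin (m + 2)) F)) = ⊤ :=
    fun y hfull => ⟨u, g, y, hnilp, hreg, eq_top_of_full (full_all hab hua hub hker hnil hva hex
      (Subgroup.subset_closure (by simp)) (Subgroup.subset_closure (by simp [hv])) hfull)⟩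
  have hxmem : ∀ η : F, tr (vec i1) η * tr (vec i0 + vec i1) (-η) ∈
      Subgroup.closure ({u, g * u * g⁻¹, tr (vec i1) η * u * (tr (vec i1) η)⁻¹} : Set _) := by
    intro η
    have h := Subgroup.mul_mem _ (Subgroup.subset_closure (show tr (vec i1) η * u * (tr (vec i1) η)⁻¹ ∈
      ({u, g * u * g⁻¹, tr (vec i1) η * u * (tr (vec i1) η)⁻¹} : Set _) by simp))
      (Subgroup.inv_mem _ (Subgroup.subset_closure (show u ∈
      ({u, g * u * g⁻¹, tr (vec i1) η * u * (tr (vec i1) η)⁻¹} : Set _) by simp)))
    rw [show tr (vec i1) η * u * (tr (vec i1) η)⁻¹ * u⁻¹ = tr (vec i1) η * (u * (tr (vec i1) η)⁻¹ * u⁻¹) by group,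
      tr_inv, tr_conj, hub] at h
    rw [tr_inv]
    exact h
  by_cases h2 : (2 : F) = 0
  swap
  · exact hfin (tr (vec i1) 1) (full_odd h2 hab hua hub hva hγ (Subgroup.subset_closure (by simp))
      (Subgroup.subset_closure (by simp [hv])) one_ne_zero (hxmem 1))
  haveI : CharP F 2 := CharTwo.of_one_ne_zero_of_two_eq_zero one_ne_zero h2
  have hvb : (γ : F) • act v (vec i1) = act v (act v (vec i0)) := by rw [hva, act_smul]
  by_cases hγ1 : (γ : F) = 1
  swap
  · have hwb : sympB (m + 2) F (act v (vec i1)) (vec i1) = 0 := by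
      have h := act_omega v (vec i1) (vec i0)
      rw [hva, map_smul, omega_swap (vec i0) (vec i1), hab, neg_zero, smul_eq_mul, mul_eq_zero] at h
      exact h.resolve_left γ.ne_zero
    have hwa : sympB (m + 2) F (act v (vec i1)) (vec i0) ≠ 0 := by
      intro h
      have h' := hd2
      rw [← hvb, map_smul, omega_swap (act v (vec i1)) (vec i0), h, neg_zero, smul_zero] at h'
      exact one_ne_zero (neg_eq_zero.1 h'.symm)
    exact hfin _ (full_even hab hua hub hva hwb hwa hγ hγ1 (Subgroup.subset_closure (by simp))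
      (Subgroup.subset_closure (by simp [hv])) (hxmem _))
  · -- two elements
    have hone : ∀ x : F, x = 0 ∨ x = 1 := fun x => by
      rcases eq_or_ne x 0 with h | h
      · exact Or.inl h
      · obtain ⟨k, hk⟩ := hγ (Units.mk0 x h)
        have : γ = 1 := Units.ext hγ1
        subst this
        exact Or.inr (by simpa using congrArg Units.val hk.symm)
    have hm : m ≠ 0 := fun h => h22 ⟨h, by
      rw [Fintype.card_eq_nat_card]
      have : Nat.card F = Nat.card Bool := Nat.card_congr
        { toFun := fun x => decide (x = 1), invFun := fun b => if b then 1 else 0,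
          left_inv := fun x => by rcases hone x with rfl | rfl <;> simp,
          right_inv := fun b => by cases b <;> simp }
      simpa using this⟩
    obtain ⟨i2, hi2⟩ : ∃ i : Fin (m + 2), i.val = 2 := ⟨⟨2, by omega⟩, rfl⟩
    have huc := huc i2 hi2
    have ho : ∀ i j, sympB (m + 2) F (vec i) (vec j) = 0 := fun i j => omega_vec i j
    set Y := tr (vec i0 + vec i2) (1 : F) * tr (vec i0) 1 * tr (vec i2) 1 * tr (vec i1) 1 with hY
    have hYu : u * Y * u⁻¹ = Y * tr (vec i0) 1 := by
      rw [hY, show u * (tr (vec i0 + vec i2) (1 : F) * tr (vec i0) 1 * tr (vec i2) 1 * tr (vec i1) 1) * u⁻¹ =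
        (u * tr (vec i0 + vec i2) 1 * u⁻¹) * (u * tr (vec i0) 1 * u⁻¹) * (u * tr (vec i2) 1 * u⁻¹) *
          (u * tr (vec i1) 1 * u⁻¹) by group, tr_conj, tr_conj, tr_conj, tr_conj, act_add, hua, hub, huc]
      refine ext_act fun x => ?_
      simp only [act_mul, act_tr, map_add, map_smul, LinearMap.add_apply, LinearMap.smul_apply,
        smul_eq_mul, ho]
      match_scalars <;> ring_nf <;> simp [h2, numerals_two (F := F)]
    refine hfin Y⁻¹ fun c => ?_
    rcases hone c with rfl | rfl
    · rw [tr_zero]; exact Subgroup.one_mem _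
    · have h := Subgroup.mul_mem _ (Subgroup.subset_closure (show Y⁻¹ * u * Y⁻¹⁻¹ ∈
        ({u, g * u * g⁻¹, Y⁻¹ * u * Y⁻¹⁻¹} : Set _) by simp))
        (Subgroup.inv_mem _ (Subgroup.subset_closure (show u ∈
        ({u, g * u * g⁻¹, Y⁻¹ * u * Y⁻¹⁻¹} : Set _) by simp)))
      rwa [show Y⁻¹ * u * Y⁻¹⁻¹ * u⁻¹ = Y⁻¹ * (u * Y * u⁻¹) by group, hYu, inv_mul_cancel_left] at h

end Cfsg.Agent.Forms.SpRegGen
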