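import Cfsg.Agent.Forms.SympOrder
import Cfsg.Agent.Forms.SylowTwoTools
import Cfsg.Agent.Linear.SylowSL2
import Mathlib.GroupTheory.SpecificGroups.Quaternion

/-!
# Sylow two-subgroups of the symplectic groups in odd characteristic
-/

set_option autoImplicit false

namespace Cfsg.Agent.Forms

open Matrix
open scoped commutatorElement

theorem sqComm_quaternion (k : ℕ) (hk : 1 ≤ k) : SqComm (QuaternionGroup (2 ^ k)) := by
  haveI : NeZero (2 ^ k) := ⟨by positivity⟩
  have h2 : (QuaternionGroup.a 2 : QuaternionGroup (2 ^ k)) ∈ commutator _ := by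
    have h : (QuaternionGroup.a 2 : QuaternionGroup (2 ^ k)) =
        ⁅(QuaternionGroup.a 1 : QuaternionGroup (2 ^ k)), QuaternionGroup.xa 0⁆ := by
      rw [commutatorElement_def]
      change _ = QuaternionGroup.a 1 * QuaternionGroup.xa 0 * QuaternionGroup.a (-1) *
        QuaternionGroup.xa ((2 ^ k : ℕ) + 0)
      simp only [QuaternionGroup.a_mul_xa, QuaternionGroup.xa_mul_a, QuaternionGroup.xa_mul_xa]
      congr 1
      have hn : ((2 ^ k : ℕ) : ZMod (2 * 2 ^ k)) + (2 ^ k : ℕ) = 0 := by
        rw [← Nat.cast_add, ← two_mul, ZMod.natCast_self]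
      linear_combination (-1 : ZMod (2 * 2 ^ k)) * hn
    rw [h, commutator_def]
    exact Subgroup.commutator_mem_commutator (Subgroup.mem_top _) (Subgroup.mem_top _)
  have heven : ∀ j : ℕ, (QuaternionGroup.a ((2 * j : ℕ) : ZMod (2 * 2 ^ k)) :
      QuaternionGroup (2 ^ k)) ∈ commutator _ := by
    intro j
    induction j with
    | zero => simpa using Subgroup.one_mem _
    | succ j ih =>
      have := Subgroup.mul_mem _ ih h2
      rw [QuaternionGroup.a_mul_a] at this
      convert this using 2
      push_cast; ring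
  refine sqComm_of_gen (S := {QuaternionGroup.a 1, QuaternionGroup.xa 0}) ?_ ?_
  · rw [eq_top_iff]
    intro x _
    have ha : ∀ i, (QuaternionGroup.a i : QuaternionGroup (2 ^ k)) ∈
        Subgroup.closure {QuaternionGroup.a 1, QuaternionGroup.xa 0} := by
      intro i
      rw [← ZMod.natCast_zmod_val i, ← QuaternionGroup.a_one_pow]
      exact Subgroup.pow_mem _ (Subgroup.subset_closure (by simp)) _
    rcases x with i | i
    · exact ha i
    · rw [show (QuaternionGroup.xa i : QuaternionGroup (2 ^ k)) =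
        QuaternionGroup.xa 0 * QuaternionGroup.a i by rw [QuaternionGroup.xa_mul_a, zero_add]]
      exact Subgroup.mul_mem _ (Subgroup.subset_closure (by simp)) (ha i)
  · rintro s (rfl | rfl)
    · rw [QuaternionGroup.a_one_pow]
      exact heven 1
    · rw [QuaternionGroup.xa_sq]
      obtain ⟨j, rfl⟩ : ∃ j, k = j + 1 := ⟨k - 1, by omega⟩
      convert heven (2 ^ j) using 3
      rw [pow_succ, mul_comm]

/-- A wreath product with a group generated by involutions. -/
theorem sqComm_wreath {l : ℕ} {D : Type*} [Group D] (hD : SqComm D)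
    (T : Subgroup (Equiv.Perm (Fin l))) (hT : T = Subgroup.closure {t | t ∈ T ∧ t * t = 1}) :
    SqComm ((Fin l → D) ⋊[powAct D T] T) := by
  classical
  set S : Set ((Fin l → D) ⋊[powAct D T] T) :=
    {x | (∃ i d, x = SemidirectProduct.inl (Pi.mulSingle i d)) ∨
      ∃ t : T, t * t = 1 ∧ x = SemidirectProduct.inr t} with hS
  refine sqComm_of_gen (S := S) ?_ ?_
  · rw [eq_top_iff]
    intro x _
    rw [← SemidirectProduct.inl_left_mul_inr_right x]
    refine Subgroup.mul_mem _ ?_ ?_
    · exact Subgroup.pi_mem_of_mulSingle_mem (H := (Subgroup.closure S).comap SemidirectProduct.inl)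
        x.left fun i => Subgroup.subset_closure (Or.inl ⟨i, _, rfl⟩)
    · have key : ∀ t ∈ Subgroup.closure {t | t ∈ T ∧ t * t = 1},
          t ∈ ((Subgroup.closure S).comap (SemidirectProduct.inr : T →* _)).map T.subtype := by
        refine (Subgroup.closure_le _).2 ?_
        rintro y ⟨hy, hy2⟩
        exact ⟨⟨y, hy⟩, Subgroup.subset_closure (Or.inr ⟨⟨y, hy⟩, Subtype.ext hy2, rfl⟩), rfl⟩
      obtain ⟨t, ht, hte⟩ := key _ (SetLike.le_def.1 hT.le x.right.2)
      rw [Subtype.ext hte] at ht
      exact ht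
  · rintro x (⟨i, d, rfl⟩ | ⟨t, ht, rfl⟩)
    · rw [← map_pow, ← Pi.mulSingle_pow]
      have h1 : (commutator D).map ((SemidirectProduct.inl (φ := powAct D T)).comp
          (MonoidHom.mulSingle (fun _ : Fin l => D) i)) ≤ commutator _ := by
        rw [commutator_def, commutator_def, Subgroup.map_commutator]
        exact Subgroup.commutator_mono le_top le_top
      exact h1 (Subgroup.mem_map_of_mem _ (hD d))
    · rw [← map_pow, pow_two, ht, map_one]
      exact Subgroup.one_mem _

variable {F : Type*} [Field F] {l : ℕ}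

/-- Blocks of `SL_2` turned and then permuted. -/
def spBlockFun (b : Fin l → SpecialLinearGroup (Fin 2) F) (t : Equiv.Perm (Fin l))
    (v : Fin l ⊕ Fin l → F) : Fin l ⊕ Fin l → F :=
  Sum.elim (fun i => ((b i).1 *ᵥ ![v (Sum.inl (t.symm i)), v (Sum.inr (t.symm i))]) 0)
    (fun i => ((b i).1 *ᵥ ![v (Sum.inl (t.symm i)), v (Sum.inr (t.symm i))]) 1)

theorem spBlockFun_comp (b b' : Fin l → SpecialLinearGroup (Fin 2) F) (t t' : Equiv.Perm (Fin l))
    (v : Fin l ⊕ Fin l → F) :
    spBlockFun b t (spBlockFun b' t' v) =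
      spBlockFun (fun i => b i * b' (t.symm i)) (t * t') v := by
  have e : ∀ (x : Fin 2 → F), ![x 0, x 1] = x := fun x => by ext i; fin_cases i <;> rfl
  funext p
  rcases p with i | i <;>
    simp only [spBlockFun, Sum.elim_inl, Sum.elim_inr, e, SpecialLinearGroup.coe_mul,
      Matrix.mulVec_mulVec] <;> rfl

theorem spBlockFun_one (v : Fin l ⊕ Fin l → F) : spBlockFun 1 1 v = v := by
  funext p
  rcases p with i | i <;> simp [spBlockFun, Equiv.Perm.one_def]

/-- The linear map of a block element. -/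
def spBlockLin (b : Fin l → SpecialLinearGroup (Fin 2) F) (t : Equiv.Perm (Fin l)) :
    (Fin l ⊕ Fin l → F) →ₗ[F] (Fin l ⊕ Fin l → F) where
  toFun := spBlockFun b t
  map_add' u v := by
    funext p
    rcases p with i | i <;> simp [spBlockFun, Matrix.mulVec, dotProduct, Fin.sum_univ_two] <;> ring
  map_smul' c u := by
    funext p
    rcases p with i | i <;> simp [spBlockFun, Matrix.mulVec, dotProduct, Fin.sum_univ_two] <;> ring

theorem toMatrix_spBlock_mulVec (b : Fin l → SpecialLinearGroup (Fin 2) F) (t : Equiv.Perm (Fin l))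
    (v : Fin l ⊕ Fin l → F) :
    LinearMap.toMatrix' (spBlockLin b t) *ᵥ v = spBlockFun b t v :=
  LinearMap.toMatrix'_mulVec _ v

theorem spBlockFun_symp (b : Fin l → SpecialLinearGroup (Fin 2) F) (t : Equiv.Perm (Fin l))
    (u v : Fin l ⊕ Fin l → F) :
    Cfsg.sympForm l F (spBlockFun b t u) (spBlockFun b t v) = Cfsg.sympForm l F u v := by
  rw [sympForm_eq, sympForm_eq]
  refine Fintype.sum_equiv t.symm _ _ fun i => ?_
  have hd := (b i).2
  rw [Matrix.det_fin_two] at hd
  simp only [spBlockFun, Sum.elim_inl, Sum.elim_inr, Matrix.mulVec, dotProduct, Fin.sum_univ_two,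
    Matrix.cons_val_zero, Matrix.cons_val_one]
  linear_combination (u (Sum.inr (t.symm i)) * v (Sum.inl (t.symm i)) -
    u (Sum.inl (t.symm i)) * v (Sum.inr (t.symm i))) * hd

/-- The block element. -/
def spBlockElt (b : Fin l → SpecialLinearGroup (Fin 2) F) (t : Equiv.Perm (Fin l)) :
    Matrix.symplecticGroup (Fin l) F :=
  ⟨LinearMap.toMatrix' (spBlockLin b t), mem_symplectic_iff.2 fun u v => by
    rw [toMatrix_spBlock_mulVec, toMatrix_spBlock_mulVec]
    exact spBlockFun_symp b t u v⟩

theorem spBlockElt_mul (b b' : Fin l → SpecialLinearGroup (Fin 2) F) (t t' : Equiv.Perm (Fin l)) :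
    spBlockElt (fun i => b i * b' (t.symm i)) (t * t') = spBlockElt b t * spBlockElt b' t' :=
  Subtype.ext (matrix_ext_mulVec fun v => by
    rw [Submonoid.coe_mul, ← Matrix.mulVec_mulVec]
    simp only [spBlockElt, toMatrix_spBlock_mulVec, spBlockFun_comp])

/-- Blocks and permutations inside the symplectic group. -/
def spBlockHom (D : Subgroup (SpecialLinearGroup (Fin 2) F)) (T : Subgroup (Equiv.Perm (Fin l))) :
    (Fin l → D) ⋊[powAct D T] T →* Matrix.symplecticGroup (Fin l) F :=
  MonoidHom.mk' (fun g => spBlockElt (fun i => (g.left i : SpecialLinearGroup (Fin 2) F))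
    (g.right : Equiv.Perm (Fin l))) fun g h => by
      rw [← spBlockElt_mul]
      congr 1

theorem spBlockHom_injective (D : Subgroup (SpecialLinearGroup (Fin 2) F))
    (T : Subgroup (Equiv.Perm (Fin l))) : Function.Injective (spBlockHom D T) := by
  rw [injective_iff_map_eq_one]
  intro g hg
  have h : ∀ v, spBlockFun (fun i => (g.left i : SpecialLinearGroup (Fin 2) F))
      (g.right : Equiv.Perm (Fin l)) v = v := fun v => by
    rw [← toMatrix_spBlock_mulVec]
    have := congrArg (fun A : Matrix.symplecticGroup (Fin l) F => (A : Matrix (Fin l ⊕ Fin l) (Fin l ⊕ Fin l) F) *ᵥ v) hg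
    rw [Submonoid.coe_one, Matrix.one_mulVec] at this
    exact this
  set t : Equiv.Perm (Fin l) := (g.right : Equiv.Perm (Fin l))
  have ht : ∀ i, t.symm i = i := by
    intro i
    by_contra hne
    have hd := (g.left i : SpecialLinearGroup (Fin 2) F).2
    rw [Matrix.det_fin_two] at hd
    have h0 := congrFun (h (Pi.single (Sum.inl (t.symm i)) 1)) (Sum.inl i)
    have h1 := congrFun (h (Pi.single (Sum.inl (t.symm i)) 1)) (Sum.inr i)
    simp [spBlockFun, Matrix.mulVec, dotProduct, Fin.sum_univ_two, Ne.symm hne] at h0 h1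
    rw [h0, h1] at hd
    simp at hd
  have hr : g.right = 1 := Subtype.ext (Equiv.ext fun i => by
    conv_lhs => rw [← ht i]
    exact t.apply_symm_apply i)
  refine SemidirectProduct.ext (funext fun i => Subtype.ext (Subtype.ext ?_)) hr
  ext a c
  have h0 := fun p => congrFun (h (Pi.single p 1))
  have hl := h0 (Sum.inl i) (Sum.inl i)
  have hl' := h0 (Sum.inl i) (Sum.inr i)
  have hr' := h0 (Sum.inr i) (Sum.inl i)
  have hr'' := h0 (Sum.inr i) (Sum.inr i)
  simp [spBlockFun, Matrix.mulVec, dotProduct, Fin.sum_univ_two, ht] at hl hl' hr' hr''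
  fin_cases a <;> fin_cases c <;> simp [hl, hl', hr', hr'']

/-- The Sylow two-subgroups of `Sp_2l(q)`, `q` odd. -/
theorem symplectic_sqComm [Fintype F] {q : ℕ} (hF : Fintype.card F = q) (hq : Odd q) (l : ℕ)
    (P : Sylow 2 (Matrix.symplecticGroup (Fin l) F)) :
    SqComm ↥(P : Subgroup (Matrix.symplecticGroup (Fin l) F)) := by
  classical
  haveI := Fact.mk Nat.prime_two
  obtain ⟨p, hp, hcp⟩ : ∃ p, p.Prime ∧ CharP F p := ⟨ringChar F, CharP.char_is_prime F _, inferInstance⟩
  haveI := Fact.mk hp
  have hq2 : q % 2 = 1 := Nat.odd_iff.1 hq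
  have hp2 : p ≠ 2 := by
    rintro rfl
    obtain ⟨n, -, hn⟩ := FiniteField.card F 2
    rw [hF] at hn
    rw [hn, Nat.pow_mod] at hq2
    simp at hq2
  have hq1 : 1 < q := hF ▸ Fintype.one_lt_card
  haveI : Finite (Matrix.symplecticGroup (Fin l) F) := inferInstance
  obtain ⟨D⟩ : Nonempty (Sylow 2 (SpecialLinearGroup (Fin 2) F)) := inferInstance
  obtain ⟨k, hk, ⟨e⟩⟩ := Linear.sylow_two_SL2 p hp2 D
  have hD : SqComm ↥(D : Subgroup (SpecialLinearGroup (Fin 2) F)) :=
    sqComm_congr e.symm (sqComm_quaternion k hk)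
  obtain ⟨T, hTcard, hTgen⟩ := exists_sylow_perm_gen l
  have hinj := spBlockHom_injective (D : Subgroup (SpecialLinearGroup (Fin 2) F)) T
  have hne : ∀ n, ∏ i ∈ Finset.range n, (q ^ (2 * (i + 1)) - 1) ≠ 0 := fun n =>
    Finset.prod_ne_zero_iff.2 fun i _ => by
      have := Nat.one_lt_pow (show 2 * (i + 1) ≠ 0 by omega) hq1
      omega
  have hvq : padicValNat 2 q = 0 := padicValNat.eq_zero_of_not_dvd (by omega)
  have hcard : Nat.card (spBlockHom (D : Subgroup (SpecialLinearGroup (Fin 2) F)) T).range =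
      2 ^ (Nat.card (Matrix.symplecticGroup (Fin l) F)).factorization 2 := by
    rw [← Nat.card_congr (MonoidHom.ofInjective hinj).toEquiv, card_semidirect, Nat.card_fun,
      D.card_eq_multiplicity, hTcard, Nat.card_fin, ← pow_mul, ← pow_add,
      Nat.factorization_def _ Nat.prime_two, Nat.factorization_def _ Nat.prime_two,
      card_symplecticGroup hF l, Linear.card_SL_two, Nat.card_eq_fintype_card (α := F) |>.symm,
      Nat.card_eq_fintype_card, hF, padicValNat.mul (pow_ne_zero _ (by omega)) (hne l),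
      val_prod_sq_pow_sub_one hq hq1, padicValNat.mul (by omega) (by
        have := Nat.one_lt_pow two_ne_zero hq1
        omega), padicValNat.pow, hvq]
    ring
  let P₀ : Sylow 2 (Matrix.symplecticGroup (Fin l) F) := Sylow.ofCard _ hcard
  exact sylow_sqComm_of_one P₀
    (sqComm_congr (MonoidHom.ofInjective hinj) (sqComm_wreath hD T hTgen)) P

end Cfsg.Agent.Forms
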